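import Cfsg.Agent.Lib.RelMcKay.GoodCount

/-!
# The functions attached to good cosets form a basis
-/

set_option autoImplicit false
set_option linter.unusedSectionVars false
set_option linter.style.haveILetI false
set_option linter.unusedSimpArgs false

noncomputable section

namespace CfsgLib.RelMcKay

open Cfsg CfsgLib.Characters CfsgLib.CharCorr
open scoped ComplexConjugate

universe u

variable {G : Type u} [Group G] [Fintype G] {K T : Subgroup G}

/-- The hypotheses of this file. -/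
structure InvSetting (η : IrrCharacter K) (T : Subgroup G) : Prop where
  le : K ≤ T
  normalizes : T ≤ Subgroup.normalizer (K : Set G)
  inv : ∀ t ∈ T, CInv K.subtype η t

namespace InvSetting

variable {η : IrrCharacter K} (S : InvSetting η T)

/-- A chosen extension to `K⟨t⟩`. -/
def ext (t : T) : IrrCharacter ↥(K ⊔ Subgroup.zpowers (t : G)) :=
  (ext_cyclic (S.normalizes t.2) rfl (S.inv t t.2)).choose

theorem ext_spec (t : T) (k : K) (h : (k : G) ∈ K ⊔ Subgroup.zpowers (t : G)) :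
    (S.ext t).1 ⟨k, h⟩ = (η : K → ℂ) k :=
  (ext_cyclic (S.normalizes t.2) rfl (S.inv t t.2)).choose_spec k h

theorem mem_of_mul_inv_mem {y x : G} (h : x * y⁻¹ ∈ K) : x ∈ K ⊔ Subgroup.zpowers y := by
  rw [show x = x * y⁻¹ * y by group]
  exact Subgroup.mul_mem_sup h (Subgroup.mem_zpowers y)

/-- The chosen extension cut down to the coset `K t`. -/
def cosetFun (t : T) (x : G) : ℂ :=
  open scoped Classical in
  if h : x * (t : G)⁻¹ ∈ K then (S.ext t).1 ⟨x, mem_of_mul_inv_mem h⟩ else 0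

theorem cosetFun_of_mem {t : T} {x : G} (h : x * (t : G)⁻¹ ∈ K) :
    S.cosetFun t x = (S.ext t).1 ⟨x, mem_of_mul_inv_mem h⟩ := by
  rw [cosetFun, dif_pos h]

theorem cosetFun_of_not_mem {t : T} {x : G} (h : ¬ x * (t : G)⁻¹ ∈ K) : S.cosetFun t x = 0 := by
  rw [cosetFun, dif_neg h]

/-- The element `k t` of `T`. -/
def sh (k : K) (t : T) : T := ⟨(k : G) * t, T.mul_mem (S.le k.2) t.2⟩

theorem sh_mem (k : K) (t : T) : (S.sh k t : G) * (t : G)⁻¹ ∈ K := by simp [sh]

/-- A function proportional to the extensions on every coset. -/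
def InV (F : T → ℂ) : Prop :=
  ∀ t : T, ∃ c : ℂ, ∀ k : K, F (S.sh k t) = c * S.cosetFun t (k * t)

theorem inV_sum {ι : Type*} (s : Finset ι) (a : ι → ℂ) (F : ι → T → ℂ)
    (h : ∀ i ∈ s, S.InV (F i)) : S.InV (fun t => ∑ i ∈ s, a i * F i t) := by
  intro t
  choose! c hc using fun i hi => h i hi t
  refine ⟨∑ i ∈ s, a i * c i, fun k => ?_⟩
  rw [Finset.sum_mul]
  exact Finset.sum_congr rfl fun i hi => by rw [hc i hi k, mul_assoc]

theorem inV_sub {F F' : T → ℂ} (h : S.InV F) (h' : S.InV F') : S.InV (fun t => F t - F' t) := by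
  intro t
  obtain ⟨c, hc⟩ := h t
  obtain ⟨c', hc'⟩ := h' t
  exact ⟨c - c', fun k => by simp only [hc k, hc' k, sub_mul]⟩

theorem ne_zero_coset [Fintype K] (t : T) : ∃ k : K, S.cosetFun t (k * t) ≠ 0 := by
  obtain ⟨k, hk⟩ := exists_ne_zero_coset (η := η) le_sup_left
    (le_normalizer_sup_zpowers (S.normalizes t.2)) (fun k => S.ext_spec t k _)
    ⟨t, Subgroup.mem_sup_right (Subgroup.mem_zpowers _)⟩
  refine ⟨k, ?_⟩
  rw [S.cosetFun_of_mem (by simp)]
  exact hk

variable [Fintype K] [Fintype T]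

theorem res_eq {χ : IrrCharacter T} (h : Over (Subgroup.inclusion S.le) η χ) :
    (fun k : K => (χ : T → ℂ) (Subgroup.inclusion S.le k)) =
      (mult (Subgroup.inclusion S.le) χ η : ℂ) • (η : K → ℂ) := by
  classical
  haveI := normal_subgroupOf_of_le S.normalizes
  haveI : Fintype (K.subgroupOf T) := Fintype.ofFinite _
  have h2 := CfsgLib.Ramified.res_eq_smul_of_invariant (K.subgroupOf T) χ.2
    (isIrr_subgroupOf η S.le) (fun g n => S.inv g g.2 ⟨n, n.2⟩ _ rfl)
    (by rw [classInner_subgroupOf_res S.le]; exact (over_iff _ η χ).1 h)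
  rw [classInner_subgroupOf_res S.le,
    show (fun k : K => (χ : T → ℂ) (Subgroup.inclusion S.le k)) =
      (χ : T → ℂ) ∘ Subgroup.inclusion S.le from rfl, mult_spec] at h2
  funext k
  exact congrFun h2 ⟨Subgroup.inclusion S.le k, k.2⟩

theorem inV_of_over {χ : IrrCharacter T} (h : Over (Subgroup.inclusion S.le) η χ) :
    S.InV (χ : T → ℂ) := by
  classical
  intro t
  let H := K ⊔ Subgroup.zpowers (t : G)
  have hHT : H ≤ T := sup_le S.le (Subgroup.zpowers_le.2 t.2)
  haveI : Fintype H := Fintype.ofFinite _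
  let i : H →* T := Subgroup.inclusion hHT
  have hKH : K ≤ H := le_sup_left
  have hover : ∀ ξ : IrrCharacter H, mult i χ ξ ≠ 0 → Over (Subgroup.inclusion hKH) η ξ := by
    intro ξ hξ
    obtain ⟨η', hη'⟩ := CfsgLib.CharCorrQ.exists_mult_ne_zero (Subgroup.inclusion hKH) ξ
    have h1 := CfsgLib.CharCorrQ.mult_mul_le_comp i (Subgroup.inclusion hKH) χ ξ η'
    rw [show i.comp (Subgroup.inclusion hKH) = Subgroup.inclusion S.le from rfl] at h1
    suffices η' = η by subst this; exact hη'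
    by_contra hne
    have h2 := mult_spec (Subgroup.inclusion S.le) χ η'
    rw [show ((χ : T → ℂ) ∘ Subgroup.inclusion S.le) =
      fun k : K => (χ : T → ℂ) (Subgroup.inclusion S.le k) from rfl, S.res_eq h,
      classInner_smul_left, classInner_irr, if_neg (Ne.symm hne), mul_zero] at h2
    have h3 : mult (Subgroup.inclusion S.le) χ η' = 0 := by exact_mod_cast h2.symm
    exact mul_ne_zero hξ hη' (Nat.le_zero.1 (h3 ▸ h1))
  let x : H := ⟨t, Subgroup.mem_sup_right (Subgroup.mem_zpowers _)⟩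
  have hc : ∀ ξ : IrrCharacter H, ∃ c : ℂ, mult i χ ξ ≠ 0 → ∀ k : K,
      (ξ : H → ℂ) (Subgroup.inclusion hKH k * x) =
        c * (S.ext t : H → ℂ) (Subgroup.inclusion hKH k * x) := by
    intro ξ
    by_cases hξ : mult i χ ξ = 0
    · exact ⟨0, fun h => absurd hξ h⟩
    · obtain ⟨c, hc⟩ := exists_scalar_coset hKH (le_normalizer_sup_zpowers (S.normalizes t.2))
        (fun k => S.ext_spec t k _) (hover ξ hξ) x
      exact ⟨c, fun _ => hc⟩
  choose c hc using hc
  refine ⟨∑ ξ, (mult i χ ξ : ℂ) * c ξ, fun k => ?_⟩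
  rw [S.cosetFun_of_mem (by simp)]
  have h1 := congrFun (irr_res_eq_sum χ i) (Subgroup.inclusion hKH k * x)
  simp only [mult_spec, Finset.sum_apply, Pi.smul_apply, smul_eq_mul, Function.comp_apply] at h1
  refine h1.trans ?_
  rw [Finset.sum_mul]
  refine Finset.sum_congr rfl fun ξ _ => ?_
  by_cases hξ : mult i χ ξ = 0
  · simp [hξ]
  · rw [hc ξ hξ k, mul_assoc]
    rfl

theorem orth {F : T → ℂ} (hF : S.InV F) {χ : IrrCharacter T}
    (h : ¬ Over (Subgroup.inclusion S.le) η χ) : classInner F (χ : T → ℂ) = 0 := by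
  classical
  have hsum : ∀ t : T, ∑ k : K, F (S.sh k t) * conj ((χ : T → ℂ) (S.sh k t)) = 0 := by
    intro t
    obtain ⟨c, hc⟩ := hF t
    let H := K ⊔ Subgroup.zpowers (t : G)
    have hHT : H ≤ T := sup_le S.le (Subgroup.zpowers_le.2 t.2)
    haveI : Fintype H := Fintype.ofFinite _
    let i : H →* T := Subgroup.inclusion hHT
    have h0 := sum_coset_eq_zero (η := η) (le_sup_left : K ≤ H)
      (le_normalizer_sup_zpowers (S.normalizes t.2)) (fun k => S.ext_spec t k _)
      (isCharacter_comp (irr_isCharacter χ) i)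
      (by rw [over_iff, not_not] at h; exact h)
      ⟨t, Subgroup.mem_sup_right (Subgroup.mem_zpowers _)⟩
    rw [← mul_zero c, ← h0, Finset.mul_sum]
    refine Finset.sum_congr rfl fun k _ => ?_
    rw [hc k, S.cosetFun_of_mem (by simp), mul_assoc]
    rfl
  have h1 : ∑ t : T, ∑ k : K, F (S.sh k t) * conj ((χ : T → ℂ) (S.sh k t)) =
      (Nat.card K : ℂ) * ∑ t : T, F t * conj ((χ : T → ℂ) t) := by
    rw [Finset.sum_comm, Nat.card_eq_fintype_card]
    have : ∀ k : K, ∑ t : T, F (S.sh k t) * conj ((χ : T → ℂ) (S.sh k t)) =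
        ∑ t : T, F t * conj ((χ : T → ℂ) t) := fun k =>
      Fintype.sum_equiv (Equiv.mulLeft (Subgroup.inclusion S.le k)) _ _ fun t => rfl
    rw [Finset.sum_congr rfl fun k _ => this k, Finset.sum_const, Finset.card_univ, nsmul_eq_mul]
  rw [Finset.sum_congr rfl fun t _ => hsum t, Finset.sum_const_zero, eq_comm, mul_eq_zero] at h1
  rw [classInner, h1.resolve_left (by simp), mul_zero]

/-- The class function attached to a coset. -/
def basisFun (y : T) (t : T) : ℂ := ∑ z : T, S.cosetFun y (z * t * (z : G)⁻¹)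

theorem isClassFunction_basisFun (y : T) : IsClassFunction T (S.basisFun y) := by
  intro a b
  refine Fintype.sum_equiv (Equiv.mulRight b) _ _ fun z => ?_
  simp [mul_assoc]

theorem basisFun_eq_zero {y : T} {t : T}
    (h : ∀ z : T, ¬ ((z : G) * t * (z : G)⁻¹) * (y : G)⁻¹ ∈ K) : S.basisFun y t = 0 :=
  Finset.sum_eq_zero fun z _ => S.cosetFun_of_not_mem (h z)

theorem inV_basisFun (y : T) : S.InV (S.basisFun y) := by
  classical
  intro t
  let H := K ⊔ Subgroup.zpowers (t : G)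
  let x : H := ⟨t, Subgroup.mem_sup_right (Subgroup.mem_zpowers _)⟩
  have hKH : K ≤ H := le_sup_left
  have hnH := le_normalizer_sup_zpowers (S.normalizes t.2)
  have hterm : ∀ z : T, ∃ c : ℂ, ∀ k : K,
      S.cosetFun y (z * (k * t) * (z : G)⁻¹) = c * S.cosetFun t (k * t) := by
    intro z
    have hzk : ∀ k : K, (z : G) * k * (z : G)⁻¹ ∈ K := fun k =>
      (Subgroup.mem_normalizer_iff.1 (S.normalizes z.2) k).1 k.2
    have hkey : ∀ k : K, (z : G) * (k * t) * (z : G)⁻¹ * (y : G)⁻¹ ∈ K ↔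
        (z : G) * t * (z : G)⁻¹ * (y : G)⁻¹ ∈ K := by
      intro k
      rw [show (z : G) * (k * t) * (z : G)⁻¹ * (y : G)⁻¹ =
        ((z : G) * k * (z : G)⁻¹) * ((z : G) * t * (z : G)⁻¹ * (y : G)⁻¹) by group]
      exact K.mul_mem_cancel_left (hzk k)
    by_cases h : (z : G) * t * (z : G)⁻¹ * (y : G)⁻¹ ∈ K
    swap
    · exact ⟨0, fun k => by rw [S.cosetFun_of_not_mem (fun h' => h ((hkey k).1 h')), zero_mul]⟩
    let H' := K ⊔ Subgroup.zpowers (y : G)
    have hmap : ∀ a ∈ H, (z : G) * a * (z : G)⁻¹ ∈ H' := by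
      intro a ha
      rw [mem_sup_zpowers_iff (S.normalizes t.2)] at ha
      obtain ⟨k, hk, i, rfl⟩ := ha
      rw [show (z : G) * (k * (t : G) ^ i) * (z : G)⁻¹ =
        ((z : G) * k * (z : G)⁻¹) * ((z : G) * t * (z : G)⁻¹) ^ i by rw [conj_zpow]; group]
      exact H'.mul_mem (Subgroup.mem_sup_left (hzk ⟨k, hk⟩))
        (H'.zpow_mem (mem_of_mul_inv_mem h) i)
    let f : H →* H' :=
      { toFun := fun a => ⟨(z : G) * a * (z : G)⁻¹, hmap a a.2⟩
        map_one' := Subtype.ext (by simp)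
        map_mul' := fun a b => Subtype.ext (by simp [mul_assoc]) }
    have hres : ∀ k : K, (S.ext y : H' → ℂ) (f (Subgroup.inclusion hKH k)) = (η : K → ℂ) k :=
      fun k => (S.ext_spec y ⟨_, hzk k⟩ _).trans (S.inv z z.2 k ⟨_, hzk k⟩ rfl)
    haveI := normal_subgroupOf_of_le hnH
    haveI : Fintype (K.subgroupOf H) := Fintype.ofFinite _
    haveI : Fintype H := Fintype.ofFinite _
    have hirr : IsIrrCharacter H (fun a => (S.ext y : H' → ℂ) (f a)) :=
      CfsgLib.CharExtension.isIrrCharacter_of_restrict (K.subgroupOf H)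
        (isCharacter_comp (irr_isCharacter (S.ext y)) f) (by
          rw [show (fun n : K.subgroupOf H => (S.ext y : H' → ℂ) (f (n : H))) =
            fun n : K.subgroupOf H => (η : K → ℂ) ⟨n, n.2⟩ from funext fun n => hres ⟨n, n.2⟩]
          exact isIrr_subgroupOf η hKH)
    obtain ⟨c, hc⟩ := exists_scalar_coset hKH hnH (fun k => S.ext_spec t k _)
      (φ := ⟨_, hirr⟩) (by
        rw [over_iff]
        show classInner (fun k : K => (S.ext y : H' → ℂ) (f (Subgroup.inclusion hKH k))) _ ≠ 0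
        rw [funext hres, classInner_irr_self η.2]
        exact one_ne_zero) x
    refine ⟨c, fun k => ?_⟩
    rw [S.cosetFun_of_mem ((hkey k).2 h), S.cosetFun_of_mem (by simp)]
    exact hc k
  choose c hc using hterm
  refine ⟨∑ z, c z, fun k => ?_⟩
  rw [Finset.sum_mul]
  exact Finset.sum_congr rfl fun z _ => hc z k

theorem cosetFun_conj {y : T} (hy : Good η T y) (z : T) (hz : (z : G) * y * (z : G)⁻¹ * (y : G)⁻¹ ∈ K)
    {x : G} (hx : x * (y : G)⁻¹ ∈ K) : S.cosetFun y (z * x * (z : G)⁻¹) = S.cosetFun y x := by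
  classical
  have hzy : (y : G) * z * (y : G)⁻¹ * (z : G)⁻¹ ∈ K := by
    have := K.inv_mem hz
    simpa [mul_assoc] using this
  obtain ⟨χ, hχ⟩ := hy z z.2 hzy
  let H := K ⊔ Subgroup.zpowers (y : G)
  let X := H ⊔ Subgroup.zpowers (z : G)
  haveI : Fintype H := Fintype.ofFinite _
  haveI : Fintype X := Fintype.ofFinite _
  let i : H →* X := Subgroup.inclusion le_sup_left
  have hKH : K ≤ H := le_sup_left
  have hnH := le_normalizer_sup_zpowers (S.normalizes y.2)
  have hres : ∀ k : K, (χ : X → ℂ) (i (Subgroup.inclusion hKH k)) = (η : K → ℂ) k :=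
    fun k => hχ k _
  haveI := normal_subgroupOf_of_le hnH
  haveI : Fintype (K.subgroupOf H) := Fintype.ofFinite _
  have hirr : IsIrrCharacter H (fun a => (χ : X → ℂ) (i a)) :=
    CfsgLib.CharExtension.isIrrCharacter_of_restrict (K.subgroupOf H)
      (isCharacter_comp (irr_isCharacter χ) i) (by
        rw [show (fun n : K.subgroupOf H => (χ : X → ℂ) (i (n : H))) =
          fun n : K.subgroupOf H => (η : K → ℂ) ⟨n, n.2⟩ from funext fun n => hres ⟨n, n.2⟩]
        exact isIrr_subgroupOf η hKH)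
  let φ : IrrCharacter H := ⟨_, hirr⟩
  have hover : Over (Subgroup.inclusion hKH) η φ := by
    rw [over_iff]
    show classInner (fun k : K => (χ : X → ℂ) (i (Subgroup.inclusion hKH k))) _ ≠ 0
    rw [funext hres, classInner_irr_self η.2]
    exact one_ne_zero
  let yH : H := ⟨y, Subgroup.mem_sup_right (Subgroup.mem_zpowers _)⟩
  obtain ⟨c, hc⟩ := exists_scalar_coset hKH hnH (fun k => S.ext_spec y k _) hover yH
  have hx' : (z : G) * x * (z : G)⁻¹ * (y : G)⁻¹ ∈ K := by
    rw [show (z : G) * x * (z : G)⁻¹ * (y : G)⁻¹ =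
      ((z : G) * (x * (y : G)⁻¹) * (z : G)⁻¹) * ((z : G) * y * (z : G)⁻¹ * (y : G)⁻¹) by group]
    exact K.mul_mem ((Subgroup.mem_normalizer_iff.1 (S.normalizes z.2) _).1 hx) hz
  have hval : ∀ w : G, ∀ hw : w * (y : G)⁻¹ ∈ K,
      (χ : X → ℂ) (i ⟨w, mem_of_mul_inv_mem hw⟩) = c * S.cosetFun y w := by
    intro w hw
    have h := hc ⟨_, hw⟩
    rw [show Subgroup.inclusion hKH ⟨_, hw⟩ * yH = ⟨w, mem_of_mul_inv_mem hw⟩ from
      Subtype.ext (by simp [yH])] at h
    rw [S.cosetFun_of_mem hw]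
    exact h
  have hc0 : c ≠ 0 := by
    obtain ⟨k, hk⟩ := exists_ne_zero_coset hKH hnH (ε := φ) hres yH
    intro h0
    exact hk (by rw [hc k, h0, zero_mul])
  refine mul_left_cancel₀ hc0 ?_
  rw [← hval _ hx', ← hval _ hx]
  let zX : X := ⟨z, Subgroup.mem_sup_right (Subgroup.mem_zpowers _)⟩
  exact (congrArg (χ : X → ℂ) (Subtype.ext (by simp [zX, i]))).trans
    (irr_isClassFunction χ (i ⟨x, mem_of_mul_inv_mem hx⟩) zX)

theorem basisFun_ne_zero {y : T} (hy : Good η T y) : ∃ k : K, S.basisFun y (S.sh k y) ≠ 0 := by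
  classical
  obtain ⟨k, hk⟩ := S.ne_zero_coset y
  refine ⟨k, ?_⟩
  have hterm : ∀ z : T, S.cosetFun y (z * (S.sh k y : G) * (z : G)⁻¹) =
      if (z : G) * y * (z : G)⁻¹ * (y : G)⁻¹ ∈ K then S.cosetFun y (k * y) else 0 := by
    intro z
    split_ifs with h
    · exact S.cosetFun_conj hy z h (S.sh_mem k y)
    · refine S.cosetFun_of_not_mem fun h' => h ?_
      rw [show (z : G) * (S.sh k y : G) * (z : G)⁻¹ * (y : G)⁻¹ =
        ((z : G) * k * (z : G)⁻¹) * ((z : G) * y * (z : G)⁻¹ * (y : G)⁻¹) by simp [sh, mul_assoc],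
        K.mul_mem_cancel_left ((Subgroup.mem_normalizer_iff.1 (S.normalizes z.2) k).1 k.2)] at h'
      exact h'
  rw [basisFun, Finset.sum_congr rfl fun z _ => hterm z, ← Finset.sum_filter, Finset.sum_const,
    nsmul_eq_mul]
  refine mul_ne_zero (Nat.cast_ne_zero.2 (Finset.card_ne_zero.2 ⟨1, ?_⟩)) hk
  simp

theorem eq_zero_of_not_good {F : T → ℂ} (hF : S.InV F) (hcl : IsClassFunction T F) {y : T}
    (hy : ¬ Good η T y) (k : K) : F (S.sh k y) = 0 := by
  classical
  obtain ⟨c, hc⟩ := hF y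
  rw [hc]
  by_cases hc0 : c = 0
  · rw [hc0, zero_mul]
  exfalso
  apply hy
  intro h hh hyh
  have hcomm : h * (y : G) * h⁻¹ * (y : G)⁻¹ ∈ K := by
    have := K.inv_mem hyh
    simpa [mul_assoc] using this
  refine ext_of_inv_coset (S.normalizes y.2) rfl (S.normalizes hh) hcomm (S.inv h hh)
    (fun k hk => S.ext_spec y k hk) (fun x x' hx hx' => ?_) rfl
  have hx2 : (x' : G) * (y : G)⁻¹ ∈ K := by
    rw [hx', show h * (x : G) * h⁻¹ * (y : G)⁻¹ =
      (h * ((x : G) * (y : G)⁻¹) * h⁻¹) * (h * y * h⁻¹ * (y : G)⁻¹) by group]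
    exact K.mul_mem ((Subgroup.mem_normalizer_iff.1 (S.normalizes hh) _).1 hx) hcomm
  have h1 := hc ⟨_, hx⟩
  have h2 := hc ⟨_, hx2⟩
  rw [show ((x : G) * (y : G)⁻¹ * (y : G)) = x by group, S.cosetFun_of_mem hx] at h1
  rw [show ((x' : G) * (y : G)⁻¹ * (y : G)) = x' by group, S.cosetFun_of_mem hx2] at h2
  refine mul_left_cancel₀ hc0 ?_
  refine h2.symm.trans (Eq.trans ?_ h1)
  refine Eq.trans ?_ (hcl (S.sh ⟨_, hx⟩ y) ⟨h, hh⟩)
  exact congrArg F (Subtype.ext (by simp [sh, hx']))

end InvSetting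

/-- The relation on the complementary part whose classes index the basis. -/
def goodRel (η : IrrCharacter K) (T Y : Subgroup G) (y y' : {y : Y // Good η T y}) : Prop :=
  ∃ z ∈ Y, z * (y.1 : G) * z⁻¹ * (y'.1 : G)⁻¹ ∈ K

theorem goodRel_equivalence {η : IrrCharacter K} (S : InvSetting η T) {Y : Subgroup G}
    (hY : Y ≤ T) : Equivalence (goodRel η T Y) := by
  refine ⟨fun y => ⟨1, Y.one_mem, by simp⟩, ?_, ?_⟩
  · rintro a b ⟨z, hz, h⟩
    refine ⟨z⁻¹, Y.inv_mem hz, ?_⟩
    have := (Subgroup.mem_normalizer_iff.1 (S.normalizes (hY (Y.inv_mem hz))) _).1 (K.inv_mem h)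
    simpa [mul_assoc] using this
  · rintro a b c ⟨z, hz, h⟩ ⟨w, hw, h'⟩
    refine ⟨w * z, Y.mul_mem hw hz, ?_⟩
    rw [show w * z * (a.1 : G) * (w * z)⁻¹ * (c.1 : G)⁻¹ =
      (w * (z * (a.1 : G) * z⁻¹ * (b.1 : G)⁻¹) * w⁻¹) * (w * (b.1 : G) * w⁻¹ * (c.1 : G)⁻¹) by
        group]
    exact K.mul_mem ((Subgroup.mem_normalizer_iff.1 (S.normalizes (hY hw)) _).1 h) h'

/-- **Counting by good cosets.** -/
theorem card_over_eq {η : IrrCharacter K} [Fintype K] [Fintype T] (S : InvSetting η T)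
    (Y : Subgroup G) (hYT : Y ≤ T) (hKY : ∀ t ∈ T, ∃ k ∈ K, ∃ y ∈ Y, k * y = t) :
    Nat.card {χ : IrrCharacter T // Over (Subgroup.inclusion S.le) η χ} =
      Nat.card (Quot (goodRel η T Y)) := by
  classical
  let Q := Quot (goodRel η T Y)
  haveI : Fintype Q := Fintype.ofFinite _
  let rep : Q → {y : Y // Good η T y} := Quot.out
  let yT : Q → T := fun q => ⟨(rep q).1, hYT (rep q).1.2⟩
  have hyT : ∀ q, Good η T (yT q) := fun q => (rep q).2
  choose kq hkq using fun q => S.basisFun_ne_zero (hyT q)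
  let B : Q → T → ℂ := fun q => S.basisFun (yT q)
  let xq : Q → T := fun q => S.sh (kq q) (yT q)
  have hsupp : ∀ q (t : T), B q t ≠ 0 →
      ∃ z : T, (z : G) * t * (z : G)⁻¹ * (yT q : G)⁻¹ ∈ K := by
    intro q t h
    by_contra h'
    push Not at h'
    exact h (S.basisFun_eq_zero h')
  have hdisj : ∀ q r, B q (xq r) ≠ 0 → q = r := by
    intro q r h
    obtain ⟨z, hz⟩ := hsupp q _ h
    obtain ⟨k, hk, w, hw, hkw⟩ := hKY z z.2
    have hwn := S.normalizes (hYT hw)
    have h1 : (z : G) * (yT r : G) * (z : G)⁻¹ * (yT q : G)⁻¹ ∈ K := by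
      have e : (z : G) * (xq r : G) * (z : G)⁻¹ * (yT q : G)⁻¹ =
          ((z : G) * (kq r) * (z : G)⁻¹) *
            ((z : G) * (yT r : G) * (z : G)⁻¹ * (yT q : G)⁻¹) := by
        simp [xq, InvSetting.sh, mul_assoc]
      rw [e, K.mul_mem_cancel_left
        ((Subgroup.mem_normalizer_iff.1 (S.normalizes z.2) _).1 (kq r).2)] at hz
      exact hz
    set v := w * (yT r : G) * w⁻¹ with hv
    have hvn : v ∈ Subgroup.normalizer (K : Set G) :=
      S.normalizes (T.mul_mem (T.mul_mem (hYT hw) (yT r).2) (T.inv_mem (hYT hw)))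
    have h2 : v * (yT q : G)⁻¹ ∈ K := by
      have e : (z : G) * (yT r : G) * (z : G)⁻¹ * (yT q : G)⁻¹ =
          k * (v * k⁻¹ * v⁻¹) * (v * (yT q : G)⁻¹) := by
        rw [← hkw, hv]; group
      rw [e, K.mul_mem_cancel_left
        (K.mul_mem hk ((Subgroup.mem_normalizer_iff.1 hvn _).1 (K.inv_mem hk)))] at h1
      exact h1
    have h3 : goodRel η T Y (rep r) (rep q) := ⟨w, hw, h2⟩
    rw [← Quot.out_eq q, ← Quot.out_eq r]
    exact (Quot.sound h3).symm
  have hexp : ∀ F : T → ℂ, S.InV F → IsClassFunction T F →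
      F ∈ Submodule.span ℂ (Set.range B) := by
    intro F hF hcl
    let c : Q → ℂ := fun q => F (xq q) / B q (xq q)
    have hsum : ∀ r, ∑ q, c q * B q (xq r) = F (xq r) := by
      intro r
      rw [Finset.sum_eq_single r (fun q _ hq => by
        by_cases h : B q (xq r) = 0
        · rw [h, mul_zero]
        · exact absurd (hdisj q r h) hq) (by simp)]
      exact div_mul_cancel₀ _ (hkq r)
    let D : T → ℂ := fun t => F t - ∑ q, c q * B q t
    have hDV : S.InV D :=
      S.inV_sub hF (S.inV_sum Finset.univ c B fun q _ => S.inV_basisFun _)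
    have hDcl : IsClassFunction T D := fun a b => by
      simp only [D, hcl a b]
      congr 1
      exact Finset.sum_congr rfl fun q _ => by
        rw [show B q = S.basisFun (yT q) from rfl, S.isClassFunction_basisFun _ a b]
    have hD : ∀ t, D t = 0 := by
      intro t
      obtain ⟨k, hk, y, hy, hky⟩ := hKY t t.2
      have ht : t = S.sh ⟨k, hk⟩ ⟨y, hYT hy⟩ := Subtype.ext hky.symm
      by_cases hg : Good η T y
      swap
      · rw [ht]; exact S.eq_zero_of_not_good hDV hDcl hg _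
      let q : Q := Quot.mk _ ⟨⟨y, hy⟩, hg⟩
      have hrel : goodRel η T Y (⟨⟨y, hy⟩, hg⟩) (rep q) :=
        ((goodRel_equivalence S hYT).quot_mk_eq_iff _ _).1 (Quot.out_eq q).symm
      obtain ⟨z, hz, hzy⟩ := hrel
      let zT : T := ⟨z, hYT hz⟩
      have hk' : (zT * t * zT⁻¹ : T) = S.sh ⟨(z * t * z⁻¹) * (yT q : G)⁻¹, by
          rw [show z * (t : G) * z⁻¹ * (yT q : G)⁻¹ =
            (z * k * z⁻¹) * (z * y * z⁻¹ * (yT q : G)⁻¹) by rw [← hky]; group]
          exact K.mul_mem ((Subgroup.mem_normalizer_iff.1 (S.normalizes (hYT hz)) _).1 hk) hzy⟩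
          (yT q) := Subtype.ext (by simp [InvSetting.sh, zT, mul_assoc])
      obtain ⟨a, ha⟩ := hDV (yT q)
      have h0 : D (xq q) = 0 := by simp only [D, hsum, sub_self]
      have hcf : S.cosetFun (yT q) (xq q : G) ≠ 0 := by
        intro h00
        apply hkq q
        obtain ⟨b, hb⟩ := S.inV_basisFun (yT q) (yT q)
        rw [hb]
        exact mul_eq_zero_of_right _ h00
      have ha0 : a = 0 :=
        (mul_eq_zero.1 ((ha (kq q)).symm.trans h0)).resolve_right hcf
      rw [← hDcl t zT, hk', ha, ha0, zero_mul]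
    have hFsum : F = ∑ q, c q • B q := funext fun t => by
      simpa [D, sub_eq_zero] using hD t
    rw [hFsum]
    exact Submodule.sum_mem _ fun q _ =>
      Submodule.smul_mem _ _ (Submodule.subset_span ⟨q, rfl⟩)
  let X := {χ : IrrCharacter T // Over (Subgroup.inclusion S.le) η χ}
  let A : X → T → ℂ := fun χ => (χ.1 : T → ℂ)
  have hAli : LinearIndependent ℂ A := by
    rw [Fintype.linearIndependent_iff]
    intro g hg χ
    have h := congrArg (fun F => classInner F (χ.1 : T → ℂ)) hg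
    simp only [classInner_sum_left, classInner_smul_left] at h
    rw [Finset.sum_eq_single χ (fun ψ _ hne => by
      rw [classInner_irr, if_neg (fun e => hne (Subtype.ext e)), mul_zero]) (by simp)] at h
    simp only [A] at h
    rw [classInner_irr_self χ.1.2, mul_one] at h
    simpa [classInner] using h
  have hBli : LinearIndependent ℂ B := by
    rw [Fintype.linearIndependent_iff]
    intro g hg r
    have h := congrFun hg (xq r)
    simp only [Finset.sum_apply, Pi.smul_apply, smul_eq_mul, Pi.zero_apply] at h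
    rw [Finset.sum_eq_single r (fun q _ hne => by
      by_cases h : B q (xq r) = 0
      · rw [h, mul_zero]
      · exact absurd (hdisj q r h) hne) (by simp)] at h
    exact (mul_eq_zero.1 h).resolve_right (hkq r)
  have hspan : Submodule.span ℂ (Set.range A) = Submodule.span ℂ (Set.range B) := by
    apply le_antisymm
    · rw [Submodule.span_le]
      rintro _ ⟨χ, rfl⟩
      exact hexp _ (S.inV_of_over χ.2) (irr_isClassFunction χ.1)
    · rw [Submodule.span_le]
      rintro _ ⟨q, rfl⟩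
      rw [SetLike.mem_coe, show B q = S.basisFun (yT q) from rfl,
        classFunction_eq_sum (S.isClassFunction_basisFun (yT q))]
      refine Submodule.sum_mem _ fun χ _ => ?_
      by_cases h : Over (Subgroup.inclusion S.le) η χ
      · exact Submodule.smul_mem _ _ (Submodule.subset_span ⟨⟨χ, h⟩, rfl⟩)
      · rw [S.orth (S.inV_basisFun _) h, zero_smul]
        exact Submodule.zero_mem _
  have h1 := finrank_span_eq_card hAli
  rw [hspan, finrank_span_eq_card hBli] at h1
  rw [Nat.card_eq_fintype_card, Nat.card_eq_fintype_card]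
  exact h1.symm

end CfsgLib.RelMcKay
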