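import Cfsg.Agent.Lib.CharCorr.PGroup
import Cfsg.Agent.Lib.CharCorr.QuotientTools
import Cfsg.Agent.Lib.Characters.Clifford
import Cfsg.Agent.Lib.Characters.Ramified
import Cfsg.Agent.Lib.OddOrder.CliffordInd

/-!
# Counting irreducible characters of degree prime to `p` over a given character

`j : L →* G` embeds `L` as a normal subgroup; `cnt p j ν` counts the irreducible characters of
`G` of degree prime to `p` whose restriction along `j` contains `ν`.
-/

set_option autoImplicit false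
set_option linter.unusedSectionVars false
set_option linter.style.haveILetI false

noncomputable section

namespace CfsgLib.RelMcKay

open Cfsg CfsgLib.Characters CfsgLib.CharCorr
open scoped ComplexConjugate Pointwise

universe u

variable {p : ℕ} {G H L : Type u} [Group G] [Group H] [Group L]

/-- `g` fixes `ν` under conjugation through `j`. -/
def CInv (j : L →* G) (ν : IrrCharacter L) (g : G) : Prop :=
  ∀ l l' : L, j l' = g * j l * g⁻¹ → (ν : L → ℂ) l' = (ν : L → ℂ) l

/-- The restriction of `χ` along `j` contains `ν`. -/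
def Over [Fintype L] (j : L →* G) (ν : IrrCharacter L) (χ : IrrCharacter G) : Prop :=
  mult j χ ν ≠ 0

/-- The number of irreducible characters of degree prime to `p` over `ν`. -/
def cnt [Fintype L] (p : ℕ) (j : L →* G) (ν : IrrCharacter L) : ℕ :=
  Nat.card {χ : IrrCharacter G // ¬ p ∣ charDegree (χ : G → ℂ) ∧ Over j ν χ}

theorem over_iff [Fintype L] (j : L →* G) (ν : IrrCharacter L) (χ : IrrCharacter G) :
    Over j ν χ ↔ classInner (fun l => (χ : G → ℂ) (j l)) (ν : L → ℂ) ≠ 0 := by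
  rw [Over, show (fun l => (χ : G → ℂ) (j l)) = (χ : G → ℂ) ∘ j from rfl, mult_spec,
    Nat.cast_ne_zero]

theorem twistIrr_symm_apply (e : G ≃* H) (χ : IrrCharacter G) (g : G) :
    (twistIrr e.symm χ : H → ℂ) (e g) = (χ : G → ℂ) g := by simp

/-- Composition with an isomorphism as an equivalence of irreducible characters. -/
def irrEquiv (e : G ≃* H) : IrrCharacter G ≃ IrrCharacter H where
  toFun χ := twistIrr e.symm χ
  invFun χ := twistIrr e χ
  left_inv χ := Subtype.ext (funext fun g => by simp)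
  right_inv χ := Subtype.ext (funext fun g => by simp)

theorem cnt_congr [Fintype L] (e : G ≃* H) {j : L →* G} {j' : L →* H} (h : ∀ l, e (j l) = j' l)
    (ν : IrrCharacter L) : cnt p j ν = cnt p j' ν := by
  refine Nat.card_congr ((irrEquiv e).subtypeEquiv fun χ => ?_)
  have h1 : ((irrEquiv e χ : IrrCharacter H) : H → ℂ) = fun x => (χ : G → ℂ) (e.symm x) := rfl
  have h2 : (fun l => (χ : G → ℂ) (e.symm (j' l))) = fun l => (χ : G → ℂ) (j l) := by
    funext l; rw [← h l, MulEquiv.symm_apply_apply]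
  simp only [over_iff, h1, h2, charDegree, map_one]

/-- The embedding of `L` into an intermediate subgroup. -/
abbrev incl (j : L →* G) (T : Subgroup G) (h : ∀ l, j l ∈ T) : L →* T := j.codRestrict T h

theorem cnt_eq_of_eq [Fintype L] (j : L →* G) {T T' : Subgroup G} (hTT : T = T')
    (h : ∀ l, j l ∈ T) (h' : ∀ l, j l ∈ T') (ν : IrrCharacter L) :
    cnt p (incl j T h) ν = cnt p (incl j T' h') ν := by
  subst hTT; rfl

theorem cnt_top [Fintype L] (j : L →* G) (h : ∀ l, j l ∈ (⊤ : Subgroup G))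
    (ν : IrrCharacter L) : cnt p (incl j ⊤ h) ν = cnt p j ν :=
  cnt_congr Subgroup.topEquiv (fun _ => rfl) ν

theorem cnt_subgroupOf [Fintype L] (j : L →* G) {K T : Subgroup G} (hKT : K ≤ T)
    (hK : ∀ l, j l ∈ K) (hT : ∀ l, j l ∈ T)
    (hK' : ∀ l, incl j T hT l ∈ K.subgroupOf T) (ν : IrrCharacter L) :
    cnt p (incl (incl j T hT) (K.subgroupOf T) hK') ν = cnt p (incl j K hK) ν :=
  cnt_congr (Subgroup.subgroupOfEquivOfLe hKT) (fun _ => Subtype.ext rfl) ν

theorem range_incl_normal {j : L →* G} {T : Subgroup G} (h : ∀ l, j l ∈ T)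
    (hn : j.range.Normal) : (incl j T h).range.Normal := by
  constructor
  rintro _ ⟨l, rfl⟩ t
  obtain ⟨l', hl'⟩ := hn.conj_mem _ ⟨l, rfl⟩ (t : G)
  exact ⟨l', Subtype.ext hl'⟩

theorem incl_injective {j : L →* G} {T : Subgroup G} (h : ∀ l, j l ∈ T)
    (hj : Function.Injective j) : Function.Injective (incl j T h) :=
  fun _ _ e => hj (congrArg Subtype.val e)

theorem cinv_incl {j : L →* G} {T : Subgroup G} (h : ∀ l, j l ∈ T) {ν : IrrCharacter L} {t : T} :
    CInv (incl j T h) ν t ↔ CInv j ν (t : G) := by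
  refine forall₂_congr fun l l' => imp_congr_left ⟨fun e => congrArg Subtype.val e, fun e => ?_⟩
  exact Subtype.ext e

variable [Fintype G] [Fintype L]

section Normal

variable {j : L →* G} (hj : Function.Injective j) (hn : j.range.Normal) (ν : IrrCharacter L)

/-- `ν` seen on the image. -/
def rangeIrr : IrrCharacter j.range :=
  twistIrr (MonoidHom.ofInjective hj).symm ν

theorem rangeIrr_apply (l : L) :
    (rangeIrr hj ν : j.range → ℂ) ⟨j l, l, rfl⟩ = (ν : L → ℂ) l := by
  simp only [rangeIrr, twistIrr_apply]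
  exact congrArg (ν : L → ℂ) ((MonoidHom.ofInjective hj).symm_apply_eq.2 (Subtype.ext rfl))

theorem classInner_range [Fintype j.range] (χ : G → ℂ) :
    classInner (fun n : j.range => χ n) (rangeIrr hj ν : j.range → ℂ) =
      classInner (fun l => χ (j l)) (ν : L → ℂ) := by
  rw [← classInner_comp_equiv (MonoidHom.ofInjective hj)
    (fun n : j.range => χ n) (rangeIrr hj ν : j.range → ℂ)]
  congr 1
  funext l
  exact rangeIrr_apply hj ν l

theorem mem_inertia_range (g : G) :
    g ∈ CfsgLib.Clifford.inertia hn (rangeIrr hj ν : j.range → ℂ) ↔ CInv j ν g := by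
  rw [CfsgLib.Clifford.mem_inertia]
  constructor
  · intro h l l' e
    have h1 := h ⟨j l, l, rfl⟩
    rw [rangeIrr_apply, ← rangeIrr_apply hj ν l'] at *
    rw [← h1]
    exact congrArg (rangeIrr hj ν : j.range → ℂ) (Subtype.ext e)
  · rintro h ⟨_, l, rfl⟩
    obtain ⟨l', hl'⟩ := hn.conj_mem _ ⟨l, rfl⟩ g
    rw [rangeIrr_apply, ← h l l' hl', ← rangeIrr_apply hj ν l']
    exact congrArg (rangeIrr hj ν : j.range → ℂ) (Subtype.ext hl'.symm)

/-- The stabiliser of `ν`. -/
def stab : Subgroup G := CfsgLib.Clifford.inertia hn (rangeIrr hj ν : j.range → ℂ)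

theorem mem_stab {g : G} : g ∈ stab hj hn ν ↔ CInv j ν g := mem_inertia_range hj hn ν g

theorem apply_mem_stab (l : L) : j l ∈ stab hj hn ν :=
  CfsgLib.Clifford.le_inertia hn (irr_isClassFunction _) ⟨l, rfl⟩

include hj hn in
/-- The degree of a character over `ν`. -/
theorem degree_eq {χ : IrrCharacter G} (h : Over j ν χ) :
    charDegree (χ : G → ℂ) =
      mult j χ ν * (stab hj hn ν).index * charDegree (ν : L → ℂ) := by
  haveI : Fintype j.range := Fintype.ofFinite _
  have h1 := (over_iff j ν χ).1 h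
  rw [← classInner_range hj ν] at h1
  have h2 := CfsgLib.Clifford.clifford_degree hn χ.2 (rangeIrr hj ν).2 h1
  rw [classInner_range, show (fun l => (χ : G → ℂ) (j l)) = (χ : G → ℂ) ∘ j from rfl, mult_spec,
    irr_one_eq_charDegree, irr_one_eq_charDegree] at h2
  have h3 : charDegree (rangeIrr hj ν : j.range → ℂ) = charDegree (ν : L → ℂ) := by
    simp [charDegree, rangeIrr]
  rw [h3] at h2
  exact_mod_cast h2

include hj hn in
theorem cnt_eq_zero_of_dvd (h : p ∣ charDegree (ν : L → ℂ)) : cnt p j ν = 0 := by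
  rw [cnt, Nat.card_eq_zero]
  refine Or.inl ⟨fun ⟨χ, hp, ho⟩ => hp ?_⟩
  rw [degree_eq hj hn ν ho]
  exact h.mul_left _

include hj hn in
/-- A stabiliser of index prime to `p` carries all the characters of degree prime to `p`. -/
theorem cnt_stab (T : Subgroup G) (hT : ∀ g, g ∈ T ↔ CInv j ν g) (hjT : ∀ l, j l ∈ T)
    (hp : p.Prime) (hidx : ¬ p ∣ T.index) : cnt p j ν = cnt p (incl j T hjT) ν := by
  classical
  haveI : Fintype j.range := Fintype.ofFinite _
  letI : Fintype T := Fintype.ofFinite _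
  have hTi : T = CfsgLib.Clifford.inertia hn (rangeIrr hj ν : j.range → ℂ) :=
    Subgroup.ext fun g => (hT g).trans (mem_inertia_range hj hn ν g).symm
  have hNT : j.range ≤ T := by rintro _ ⟨l, rfl⟩; exact hjT l
  have hov : ∀ ψ : IrrCharacter T, Over (incl j T hjT) ν ψ ↔
      classInner (fun n : j.range => (ψ : T → ℂ) (Subgroup.inclusion hNT n))
        (rangeIrr hj ν : j.range → ℂ) ≠ 0 := by
    intro ψ
    rw [over_iff, ← classInner_comp_equiv (MonoidHom.ofInjective hj)
      (fun n : j.range => (ψ : T → ℂ) (Subgroup.inclusion hNT n))]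
    refine Eq.to_iff ?_
    congr 2
    funext l
    exact (rangeIrr_apply hj ν l).symm
  have hirr : ∀ ψ : IrrCharacter T, Over (incl j T hjT) ν ψ →
      IsIrrCharacter G (indFun T (ψ : T → ℂ)) := fun ψ h =>
    (CfsgLib.OddOrder.CliffordInd.indFun_of_inertia hn (rangeIrr hj ν).2 T hTi hNT ψ.2
      ((hov ψ).1 h)).1
  have hdeg : ∀ ψ : IrrCharacter T, ∀ h : IsIrrCharacter G (indFun T (ψ : T → ℂ)),
      charDegree ((⟨_, h⟩ : IrrCharacter G) : G → ℂ) = T.index * charDegree (ψ : T → ℂ) := by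
    intro ψ h
    have h1 := irr_one_eq_charDegree (⟨_, h⟩ : IrrCharacter G)
    simp only [CfsgLib.Induction.indFun_one_apply, irr_one_eq_charDegree] at h1
    exact_mod_cast h1.symm
  have hover : ∀ ψ : IrrCharacter T, ∀ h : IsIrrCharacter G (indFun T (ψ : T → ℂ)),
      Over (incl j T hjT) ν ψ → Over j ν (⟨_, h⟩ : IrrCharacter G) := by
    intro ψ h ho
    set χ : IrrCharacter G := ⟨_, h⟩
    have h1 : 1 ≤ mult T.subtype χ ψ := by
      have h2 := mult_spec T.subtype χ ψ
      rw [classInner_conj_symm, show (((χ : G → ℂ) ∘ T.subtype)) = fun t : T => (χ : G → ℂ) t from rfl,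
        ← CfsgLib.Induction.classInner_indFun T (ψ : T → ℂ) (irr_isClassFunction χ)] at h2
      rw [show indFun T (ψ : T → ℂ) = (χ : G → ℂ) from rfl, classInner_irr_self χ.2] at h2
      have : (1 : ℕ) = mult T.subtype χ ψ := by
        apply Nat.cast_injective (R := ℂ)
        rw [← h2]
        simp
      omega
    have h3 := CfsgLib.CharCorrQ.mult_mul_le_comp T.subtype (incl j T hjT) χ ψ ν
    have h4 : T.subtype.comp (incl j T hjT) = j := MonoidHom.ext fun _ => rfl
    rw [h4] at h3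
    have h5 : 0 < mult T.subtype χ ψ * mult (incl j T hjT) ψ ν :=
      Nat.mul_pos h1 (Nat.pos_of_ne_zero ho)
    exact Nat.pos_iff_ne_zero.1 (h5.trans_le h3)
  let f : {ψ : IrrCharacter T // ¬ p ∣ charDegree (ψ : T → ℂ) ∧ Over (incl j T hjT) ν ψ} →
      {χ : IrrCharacter G // ¬ p ∣ charDegree (χ : G → ℂ) ∧ Over j ν χ} := fun ψ =>
    ⟨⟨_, hirr ψ.1 ψ.2.2⟩, by
      rw [hdeg]
      exact hp.not_dvd_mul hidx ψ.2.1, hover ψ.1 _ ψ.2.2⟩
  refine (Nat.card_eq_of_bijective f ⟨fun ψ ψ' e => ?_, fun χ => ?_⟩).symm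
  · have he : indFun T (ψ.1 : T → ℂ) = indFun T (ψ'.1 : T → ℂ) :=
      congrArg (fun x : {χ : IrrCharacter G // ¬ p ∣ charDegree (χ : G → ℂ) ∧ Over j ν χ} =>
        (x.1 : G → ℂ)) e
    exact Subtype.ext (Subtype.ext
      ((CfsgLib.OddOrder.CliffordInd.indFun_of_inertia hn (rangeIrr hj ν).2 T hTi hNT ψ.1.2
        ((hov ψ.1).1 ψ.2.2)).2 _ ψ'.1.2 ((hov ψ'.1).1 ψ'.2.2) he))
  · obtain ⟨ψ, hψ, hind, hψν⟩ := CfsgLib.Clifford.correspondence hn (rangeIrr hj ν).2 T hTi hNT
      χ.1.2 (by rw [classInner_range]; exact (over_iff j ν χ.1).1 χ.2.2)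
    have ho : Over (incl j T hjT) ν ⟨ψ, hψ⟩ := (hov _).2 (by
      show classInner (fun n : j.range => ψ ⟨(n : G), hNT n.2⟩) _ ≠ 0
      rw [hψν, classInner_range]; exact (over_iff j ν χ.1).1 χ.2.2)
    refine ⟨⟨⟨ψ, hψ⟩, fun hd => χ.2.1 ?_, ho⟩, Subtype.ext (Subtype.ext hind)⟩
    have h1 : χ.1 = ⟨_, hind ▸ χ.1.2⟩ := Subtype.ext hind.symm
    rw [h1, hdeg ⟨ψ, hψ⟩]
    exact hd.mul_left _

end Normal

end CfsgLib.RelMcKay
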