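import Cfsg.Agent.Lib.RelMcKay.CoreSetting
import Mathlib.GroupTheory.SchurZassenhaus
import Mathlib.Data.Nat.ChineseRemainder

/-!
# The count in the split situation
-/

set_option autoImplicit false
set_option linter.unusedSectionVars false
set_option linter.style.haveILetI false
set_option linter.unusedSimpArgs false

noncomputable section

namespace CfsgLib.RelMcKay

open Cfsg CfsgLib.Characters CfsgLib.CharCorr
open scoped ComplexConjugate

universe u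

variable {G : Type u} [Group G] [Fintype G] {p : ℕ} {S M : Subgroup G}

/-- The characters `η` of `M S` and `ξ` of `C S` have corresponding parameters. -/
def Match [Fintype ↥(fixedPart S M)] (h : SplitSetting p S M) (η : IrrCharacter ↥(M ⊔ S))
    (ξ : IrrCharacter ↥(fixedPart S M ⊔ S)) : Prop :=
  ∃ θ ψ μ, Data h.semi.hM h.semi.hS η θ μ ∧ Data h.semi'.hM h.semi'.hS ξ ψ μ ∧
    Corr p h.fixed.le θ ψ

namespace SplitSetting

variable (h : SplitSetting p S M)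

include h

theorem match_conj [Fintype M] [Fintype ↥(fixedPart S M)] {η η' : IrrCharacter ↥(M ⊔ S)}
    {ξ ξ' : IrrCharacter ↥(fixedPart S M ⊔ S)} (hR : Match h η ξ) (hR' : Match h η' ξ') {n : G}
    (hn : n ∈ Subgroup.normalizer (S : Set G)) : ConjTo n η η' ↔ ConjTo n ξ ξ' := by
  obtain ⟨θ, ψ, μ, d1, d2, hc⟩ := hR
  obtain ⟨θ', ψ', μ', d1', d2', hc'⟩ := hR'
  rw [h.semi.conjTo_data (h.mem_normalizer n) hn d1 d1',
    h.semi'.conjTo_data (h.fixed.normalizer_fixed (h.mem_normalizer n) hn) hn d2 d2']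
  refine and_congr_left fun _ => ?_
  have hct := h.fixed.corr_twist (h.mem_normalizer n) hn hc
  constructor
  · intro e
    rw [e] at hct
    exact h.fixed.corr_unique (h.semi.inv_of_data d1') hct hc'
  · intro e
    rw [e] at hct
    exact h.fixed.corr_injective
      (h.fixed.inv_twist (h.mem_normalizer n) hn (h.semi.inv_of_data d1))
      (h.semi.inv_of_data d1') hct hc'

theorem gconj_iff {η η' : IrrCharacter ↥(M ⊔ S)} :
    GConj (M ⊔ S).subtype η η' ↔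
      ∃ n ∈ Subgroup.normalizer (S : Set G), ConjTo n η η' := by
  haveI := h.normal_sup
  constructor
  · rintro ⟨g, hg⟩
    obtain ⟨m, hm, n, hn, rfl⟩ := h.cover g
    refine ⟨n, hn, fun k k' e => ?_⟩
    let mK : ↥(M ⊔ S) := ⟨m, Subgroup.mem_sup_left hm⟩
    rw [← irr_isClassFunction η k' mK]
    refine hg k _ ?_
    show m * (k' : G) * m⁻¹ = m * n * k * (m * n)⁻¹
    rw [e]; group
  · rintro ⟨n, -, hn⟩
    exact ⟨n, fun k k' e => hn k k' e⟩

theorem gconj_iff' (hle : fixedPart S M ⊔ S ≤ Subgroup.normalizer (S : Set G))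
    {ξ ξ' : IrrCharacter ↥(fixedPart S M ⊔ S)} :
    GConj (Subgroup.inclusion hle) ξ ξ' ↔
      ∃ n ∈ Subgroup.normalizer (S : Set G), ConjTo n ξ ξ' := by
  constructor
  · rintro ⟨g, hg⟩
    exact ⟨g, g.2, fun k k' e => hg k k' (Subtype.ext e)⟩
  · rintro ⟨n, hn, hc⟩
    exact ⟨⟨n, hn⟩, fun k k' e => hc k k' (congrArg Subtype.val e)⟩

theorem exists_complement {N : Subgroup G} (hN : N ≤ Subgroup.normalizer (S : Set G))
    (hSN : fixedPart S M ⊔ S ≤ N) : ∃ Y : Subgroup G, Y ≤ N ∧ fixedPart S M ≤ Y ∧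
      ¬ p ∣ Nat.card Y ∧ ∀ x ∈ N, ∃ s ∈ S, ∃ y ∈ Y, s * y = x := by
  haveI : Fact p.Prime := ⟨h.prime⟩
  have hS : S ≤ N := le_sup_right.trans hSN
  haveI := normal_subgroupOf_of_le (K := S) hN
  have hidx : ¬ p ∣ S.relIndex N := fun hd =>
    h.index (hd.trans (Dvd.intro _ (Subgroup.relIndex_mul_index hS)))
  obtain ⟨b, hb⟩ := IsPGroup.iff_card.1 h.pgroup
  have hcS : Nat.card (S.subgroupOf N) = p ^ b :=
    (Nat.card_congr (Subgroup.subgroupOfEquivOfLe hS).toEquiv).trans hb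
  obtain ⟨Q, hQ⟩ := Subgroup.exists_right_complement'_of_coprime (N := S.subgroupOf N)
    (by rw [hcS]; exact ((h.prime.coprime_iff_not_dvd.2 hidx).pow_left b))
  set Y := Q.map N.subtype
  have hYN : Y ≤ N := Subgroup.map_subtype_le Q
  have hcY : Nat.card Y = S.relIndex N := by
    rw [Nat.card_congr (Q.equivMapOfInjective N.subtype N.subtype_injective).toEquiv.symm]
    exact hQ.symm.index_eq_card.symm
  refine ⟨Y, hYN, ?_, hcY ▸ hidx, fun x hx => ?_⟩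
  · have hYC : Y ≤ Subgroup.normalizer ((fixedPart S M : Subgroup G) : Set G) := fun y hy =>
      h.fixed.normalizer_fixed (h.mem_normalizer y) (hN (hYN hy))
    have hle : fixedPart S M ⊔ Y ≤ N := sup_le (le_sup_left.trans hSN) hYN
    have hd : Nat.card (fixedPart S M ⊔ Y : Subgroup G) ∣ Nat.card Y := by
      have h1 : Nat.card (fixedPart S M ⊔ Y : Subgroup G) ∣ p ^ b * Nat.card Y := by
        rw [hcY, ← hcS, Subgroup.relIndex, Subgroup.card_mul_index]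
        exact Subgroup.card_dvd_of_le hle
      refine (Nat.Coprime.dvd_of_dvd_mul_left ?_ h1)
      exact ((h.prime.coprime_iff_not_dvd.2 (not_dvd_card_sup h.prime hYC h.semi'.coprime
        (hcY ▸ hidx))).pow_left b).symm
    have := Subgroup.eq_of_le_of_card_ge (le_sup_right : Y ≤ fixedPart S M ⊔ Y)
      (Nat.le_of_dvd Nat.card_pos hd)
    exact le_sup_left.trans this.ge
  · obtain ⟨⟨a, q⟩, he⟩ := hQ.2 ⟨x, hx⟩
    exact ⟨(a : N), a.2, (q : N), ⟨q, q.2, rfl⟩, congrArg Subtype.val he⟩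

theorem ext_iff [Fintype M] [Fintype ↥(fixedPart S M)] [Fintype ↥(M ⊔ S)]
    [Fintype ↥(fixedPart S M ⊔ S)]
    {η : IrrCharacter ↥(M ⊔ S)} {ξ : IrrCharacter ↥(fixedPart S M ⊔ S)} (hR : Match h η ξ)
    {Y : Subgroup G} (hY : ¬ p ∣ Nat.card Y) (hYS : Y ≤ Subgroup.normalizer (S : Set G))
    (hCY : fixedPart S M ≤ Y) {y w : G} (hy : y ∈ Y) (hw : w ∈ Y)
    (hyη : CInv (M ⊔ S).subtype η y) (hwη : CInv (M ⊔ S).subtype η w)
    (hyξ : CInv (fixedPart S M ⊔ S).subtype ξ y) (hwξ : CInv (fixedPart S M ⊔ S).subtype ξ w)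
    (hc : y * w * y⁻¹ * w⁻¹ ∈ fixedPart S M) :
    Ext η (M ⊔ S ⊔ Subgroup.zpowers y ⊔ Subgroup.zpowers w) ↔
      Ext ξ (fixedPart S M ⊔ S ⊔ Subgroup.zpowers y ⊔ Subgroup.zpowers w) := by
  obtain ⟨θ, ψ, μ, d1, d2, hcorr⟩ := hR
  haveI := h.normal_sup
  have hc' : w * y * w⁻¹ * y⁻¹ ∈ fixedPart S M := by
    have := (fixedPart S M).inv_mem hc
    simpa [mul_assoc] using this
  have hK : ∀ g : G, g ∈ Subgroup.normalizer ((M ⊔ S : Subgroup G) : Set G) := fun g => by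
    rw [Subgroup.normalizer_eq_top]; trivial
  have hyC := h.fixed.normalizer_fixed (h.mem_normalizer y) (hYS hy)
  have hwC := h.fixed.normalizer_fixed (h.mem_normalizer w) (hYS hw)
  rw [ext_transfer h.semi.hM d1.res (hK y) (hK w) (h.mem_normalizer y) (h.mem_normalizer w)
      (h.fixed.le hc') hyη hwη,
    ext_transfer h.semi'.hM d2.res (h.normalizer_le_normalizer_sup (hYS hy))
      (h.normalizer_le_normalizer_sup (hYS hw)) hyC hwC hc' hyξ hwξ]
  set Y0 := fixedPart S M ⊔ Subgroup.zpowers y ⊔ Subgroup.zpowers w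
  have hY0 : Y0 ≤ Y :=
    sup_le (sup_le hCY (Subgroup.zpowers_le.2 hy)) (Subgroup.zpowers_le.2 hw)
  have e : M ⊔ Y0 = M ⊔ Subgroup.zpowers y ⊔ Subgroup.zpowers w := by
    rw [← sup_assoc, ← sup_assoc, sup_eq_left.2 (inf_le_left : fixedPart S M ≤ M)]
  rw [← e]
  exact ext_corr (S := S) (C := fixedPart S M) (Nat.card M) M rfl h.fixed Y0
    (fun hd => hY (hd.trans (Subgroup.card_dvd_of_le hY0)))
    (fun x _ => h.mem_normalizer x) (hY0.trans hYS) (le_sup_left.trans le_sup_left)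
    (commutator_mem_of_pair hyC hwC hc') θ (h.semi.inv_of_data d1) ψ hcorr

theorem cnt_eq [Fintype M] [Fintype ↥(fixedPart S M)] [Fintype ↥(M ⊔ S)]
    [Fintype ↥(fixedPart S M ⊔ S)]
    (hle : fixedPart S M ⊔ S ≤ Subgroup.normalizer (S : Set G))
    {η : IrrCharacter ↥(M ⊔ S)} {ξ : IrrCharacter ↥(fixedPart S M ⊔ S)} (hR : Match h η ξ) :
    cnt p (M ⊔ S).subtype η = cnt p (Subgroup.inclusion hle) ξ := by
  obtain ⟨θ, ψ, μ, d1, d2, hcorr⟩ := id hR
  haveI := h.normal_sup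
  have hK : ∀ g : G, g ∈ Subgroup.normalizer ((M ⊔ S : Subgroup G) : Set G) := fun g => by
    rw [Subgroup.normalizer_eq_top]; trivial
  have hn0 : (Subgroup.normalizer (S : Set G)) ≤ Subgroup.normalizer ((fixedPart S M ⊔ S : Subgroup G) : Set G) := h.normalizer_le_normalizer_sup
  have hr : (M ⊔ S).subtype.range.Normal := by rw [Subgroup.range_subtype]; infer_instance
  let T := stab (M ⊔ S).subtype_injective hr η
  haveI : Fintype ↥(Subgroup.normalizer (S : Set G)) := Fintype.ofFinite _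
  let N0 : Subgroup G :=
    (stab (Subgroup.inclusion_injective hle) (incl_range_normal hle hn0) ξ).map (Subgroup.normalizer (S : Set G)).subtype
  have hT : ∀ g, g ∈ T ↔ CInv (M ⊔ S).subtype η g := fun g => mem_stab _ _ η
  have hN0 : ∀ g, g ∈ N0 ↔ g ∈ (Subgroup.normalizer (S : Set G)) ∧ CInv (fixedPart S M ⊔ S).subtype ξ g := by
    intro g
    constructor
    · rintro ⟨g', hg', rfl⟩
      exact ⟨g'.2, (cinv_inclusion hle).1 ((mem_stab _ _ ξ).1 hg')⟩
    · rintro ⟨h1, h2⟩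
      exact ⟨⟨g, h1⟩, (mem_stab _ _ ξ).2 ((cinv_inclusion hle).2 h2), rfl⟩
  have hfix : ∀ g ∈ (Subgroup.normalizer (S : Set G)), (CInv (M ⊔ S).subtype η g ↔ CInv (fixedPart S M ⊔ S).subtype ξ g) := fun g hg =>
    h.match_conj hR hR hg
  have hN0T : N0 ≤ T := fun g hg =>
    (hT g).2 ((hfix g ((hN0 g).1 hg).1).2 ((hN0 g).1 hg).2)
  have hKT : (M ⊔ S) ≤ T := fun g hg => (hT g).2 (cinv_of_mem hg)
  have hK0N : (fixedPart S M ⊔ S) ≤ N0 := fun g hg => (hN0 g).2 ⟨hle hg, cinv_of_mem hg⟩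
  obtain ⟨Y, hYN, hCY, hYp, hcov⟩ :=
    h.exists_complement (N := N0) (fun g hg => ((hN0 g).1 hg).1) hK0N
  have hYS : Y ≤ (Subgroup.normalizer (S : Set G)) := fun g hg => ((hN0 g).1 (hYN hg)).1
  have hYT : Y ≤ T := hYN.trans hN0T
  have hcov' : ∀ t ∈ N0, ∃ k ∈ (fixedPart S M ⊔ S), ∃ y ∈ Y, k * y = t := fun t ht => by
    obtain ⟨s, hs, y, hy, e⟩ := hcov t ht
    exact ⟨s, Subgroup.mem_sup_right hs, y, hy, e⟩
  have hcovT : ∀ t ∈ T, ∃ k ∈ (M ⊔ S), ∃ y ∈ Y, k * y = t := by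
    intro t ht
    obtain ⟨m, hm, n, hn, rfl⟩ := h.cover t
    have hnT : n ∈ T := by
      have h1 := T.mul_mem (hKT (Subgroup.mem_sup_left (M.inv_mem hm))) ht
      rwa [inv_mul_cancel_left] at h1
    obtain ⟨s, hs, y, hy, rfl⟩ := hcov n ((hN0 n).2 ⟨hn, (hfix n hn).1 ((hT n).1 hnT)⟩)
    exact ⟨m * s, Subgroup.mul_mem_sup hm hs, y, hy, mul_assoc _ _ _⟩
  have hηd : ¬ p ∣ charDegree (η : ↥(M ⊔ S) → ℂ) := by
    have e : charDegree (η : ↥(M ⊔ S) → ℂ) = charDegree (θ : M → ℂ) := by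
      simp only [charDegree]
      rw [← d1.res 1, map_one]
    exact e ▸ h.semi.not_dvd_degree θ
  have hξd : ¬ p ∣ charDegree (ξ : ↥(fixedPart S M ⊔ S) → ℂ) := by
    have e : charDegree (ξ : ↥(fixedPart S M ⊔ S) → ℂ) = charDegree (ψ : ↥(fixedPart S M) → ℂ) := by
      simp only [charDegree]
      rw [← d2.res 1, map_one]
    exact e ▸ h.semi'.not_dvd_degree ψ
  have hA : cnt p (M ⊔ S).subtype η = Nat.card (Quot (goodRel η T Y)) := by
    rw [← cnt_sub_eq_good (H := ⊤) h.prime le_top (fun g _ => hK g) η hηd hKT le_top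
      (fun g _ => hT g) ?_ hYT hcovT]
    · exact (cnt_congr Subgroup.topEquiv (fun _ => rfl) η).symm
    · rw [Subgroup.relIndex_top_right]
      exact fun hd => h.index (hd.trans (Subgroup.index_dvd_of_le le_sup_right))
  have hB : cnt p (Subgroup.inclusion hle) ξ = Nat.card (Quot (goodRel ξ N0 Y)) := by
    refine cnt_sub_eq_good h.prime hle hn0 ξ hξd hK0N (fun g hg => ((hN0 g).1 hg).1)
      (fun g hg => (hN0 g).trans (and_iff_right hg)) (fun hd => h.index ?_) hYN hcov'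
    rw [← Subgroup.relIndex_mul_index (le_sup_right.trans hle : S ≤ (Subgroup.normalizer (S : Set G))),
      ← Subgroup.relIndex_mul_relIndex S (fixedPart S M ⊔ S) (Subgroup.normalizer (S : Set G)) le_sup_right hle]
    exact (hd.mul_left _).mul_right _
  rw [hA, hB]
  have hYK : ∀ x ∈ Y, (x ∈ (M ⊔ S) ↔ x ∈ fixedPart S M) := fun x hx =>
    ⟨h.eq_fixedPart_of_coprime hYp hYS hx, fun hc => Subgroup.mem_sup_left hc.1⟩
  have hYK0 : ∀ x ∈ Y, (x ∈ (fixedPart S M ⊔ S) ↔ x ∈ fixedPart S M) := fun x hx =>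
    ⟨fun hc => (hYK x hx).1 (sup_le_sup_right inf_le_left S hc), fun hc => Subgroup.mem_sup_left hc⟩
  have hcomY : ∀ a ∈ Y, ∀ b ∈ Y, a * b * a⁻¹ * b⁻¹ ∈ Y := fun a ha b hb =>
    Y.mul_mem (Y.mul_mem (Y.mul_mem ha hb) (Y.inv_mem ha)) (Y.inv_mem hb)
  have hgood : ∀ y : Y, Good η T y ↔ Good ξ N0 y := by
    intro y
    rw [good_iff_of_cover (fun g _ => hK g) hYT hcovT (hYT y.2),
      good_iff_of_cover (fun g hg => hn0 ((hN0 g).1 hg).1) hYN hcov' (hYN y.2)]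
    refine forall₂_congr fun w hw => ?_
    rw [hYK _ (hcomY y y.2 w hw), hYK0 _ (hcomY y y.2 w hw)]
    exact imp_congr_right fun hc => h.ext_iff hR hYp hYS hCY y.2 hw ((hT _).1 (hYT y.2))
      ((hT _).1 (hYT hw)) ((hN0 _).1 (hYN y.2)).2 ((hN0 _).1 (hYN hw)).2 hc
  refine Nat.card_congr (Quot.congr (Equiv.subtypeEquivRight hgood) fun a b => ?_)
  refine exists_congr fun z => and_congr_right fun hz => ?_
  have hzY : z * (a.1 : G) * z⁻¹ * (b.1 : G)⁻¹ ∈ Y :=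
    Y.mul_mem (Y.mul_mem (Y.mul_mem hz a.1.2) (Y.inv_mem hz)) (Y.inv_mem b.1.2)
  exact (hYK _ hzY).trans (hYK0 _ hzY).symm

theorem central_eq [Fintype M] [Fintype ↥(fixedPart S M)] [Fintype ↥(M ⊔ S)]
    [Fintype ↥(fixedPart S M ⊔ S)] {η : IrrCharacter ↥(M ⊔ S)}
    {ξ : IrrCharacter ↥(fixedPart S M ⊔ S)} (hR : Match h η ξ) {z : G} (hz : z ∈ M ⊔ S)
    (hz0 : z ∈ fixedPart S M ⊔ S) (hzc : z ∈ Subgroup.center G) :
    (η : ↥(M ⊔ S) → ℂ) ⟨z, hz⟩ / (η : ↥(M ⊔ S) → ℂ) 1 =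
      (ξ : ↥(fixedPart S M ⊔ S) → ℂ) ⟨z, hz0⟩ / (ξ : ↥(fixedPart S M ⊔ S) → ℂ) 1 := by
  obtain ⟨θ, ψ, μ, d1, d2, hcorr⟩ := hR
  haveI : Fact p.Prime := ⟨h.prime⟩
  obtain ⟨m, hm, s, hs, rfl⟩ := h.semi'.exists_decomp hz0
  have hms : Commute m s := (Subgroup.mem_centralizer_iff.1 hm.2 s hs).symm
  obtain ⟨b, hb⟩ := IsPGroup.iff_card.1 h.pgroup
  obtain ⟨k, hk1, hk2⟩ := Nat.chineseRemainder
    (show (Nat.card M).Coprime (Nat.card S) by
      rw [hb]; exact (h.prime.coprime_iff_not_dvd.2 h.coprime).symm.pow_right b) 1 0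
  have hsk : s ^ k = 1 := by
    have h1 : (⟨s, hs⟩ : S) ^ k = 1 := by
      rw [← pow_mod_natCard]
      have : k % Nat.card S = 0 := (show k % Nat.card S = 0 % Nat.card S from hk2).trans (Nat.zero_mod _)
      rw [this, pow_zero]
    exact congrArg Subtype.val h1
  have hmk : m ^ k = m := by
    have h1 : (⟨m, hm.1⟩ : M) ^ k = ⟨m, hm.1⟩ := by
      conv_rhs => rw [← pow_one (⟨m, hm.1⟩ : M)]
      rw [← pow_mod_natCard, ← pow_mod_natCard (⟨m, hm.1⟩ : M) 1]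
      congr 1
    exact congrArg Subtype.val h1
  have hmc : m ∈ Subgroup.center G := by
    have : (m * s) ^ k = m := by rw [hms.mul_pow, hmk, hsk, mul_one]
    exact this ▸ Subgroup.pow_mem _ hzc k
  have hsc : s ∈ Subgroup.center G := by
    have := Subgroup.mul_mem _ (Subgroup.inv_mem _ hmc) hzc
    rwa [inv_mul_cancel_left] at this
  have e1 := h.semi.value_mul d1 (m := ⟨m, hm.1⟩) (s := ⟨s, hs⟩) hmc hsc
  have e2 := h.semi'.value_mul d2 (m := ⟨m, hm⟩) (s := ⟨s, hs⟩) hmc hsc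
  have e3 : (θ : M → ℂ) ⟨m, hm.1⟩ / (θ : M → ℂ) 1 =
      (ψ : ↥(fixedPart S M) → ℂ) ⟨m, hm⟩ / (ψ : ↥(fixedPart S M) → ℂ) 1 :=
    central_value_of_over (j := Subgroup.inclusion h.fixed.le) (m := ⟨m, hm⟩)
      (fun h0 => hcorr (h0 ▸ dvd_zero p))
      (Subgroup.mem_center_iff.2 fun x => Subtype.ext (Subgroup.mem_center_iff.1 hmc x))
      (Subgroup.mem_center_iff.2 fun x => Subtype.ext (Subgroup.mem_center_iff.1 hmc x))
  rw [e3] at e1
  exact e1.trans e2.symm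

end SplitSetting

/-- **The split case.** -/
theorem cnt_core {L : Type u} [Group L] [Fintype L] (h : SplitSetting p S M) (j : L →* G)
    (hjc : ∀ l, j l ∈ Subgroup.center G) (hjK : ∀ l, j l ∈ M ⊔ S) (ν : IrrCharacter L)
    (hN : ∀ l, j l ∈ Subgroup.normalizer (S : Set G)) :
    cnt p j ν = cnt p (incl j (Subgroup.normalizer (S : Set G)) hN) ν := by
  classical
  haveI := h.normal_sup
  haveI : Fintype M := Fintype.ofFinite _
  haveI : Fintype ↥(fixedPart S M) := Fintype.ofFinite _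
  haveI : Fintype ↥(M ⊔ S) := Fintype.ofFinite _
  haveI : Fintype ↥(fixedPart S M ⊔ S) := Fintype.ofFinite _
  haveI : Fintype ↥(Subgroup.normalizer (S : Set G)) := Fintype.ofFinite _
  have hle := h.sup_le_normalizer
  have hn0 := h.normalizer_le_normalizer_sup
  have hj0 : ∀ l, j l ∈ fixedPart S M ⊔ S := by
    intro l
    obtain ⟨m, hm, s, hs, e⟩ := h.semi.exists_decomp (hjK l)
    have hmS : m ∈ Subgroup.normalizer (S : Set G) := by
      rw [show m = j l * s⁻¹ by rw [← e]; group]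
      exact Subgroup.mul_mem _ (hN l) (Subgroup.inv_mem _ (Subgroup.le_normalizer hs))
    rw [← e]
    exact Subgroup.mul_mem_sup (h.mem_fixedPart hm hmS) hs
  let jA : L →* ↥(M ⊔ S) := j.codRestrict _ hjK
  let jB : L →* ↥(fixedPart S M ⊔ S) := j.codRestrict _ hj0
  have eA : j = (M ⊔ S).subtype.comp jA := MonoidHom.ext fun _ => rfl
  have eB : incl j (Subgroup.normalizer (S : Set G)) hN = (Subgroup.inclusion hle).comp jB :=
    MonoidHom.ext fun _ => rfl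
  have hrA : (M ⊔ S).subtype.range.Normal := by rw [Subgroup.range_subtype]; infer_instance
  have hrB := incl_range_normal hle hn0
  have hover : ∀ η ξ, Match h η ξ → (Over jA ν η ↔ Over jB ν ξ) := by
    intro η ξ hR
    let w : L → ℂ := fun l => (η : ↥(M ⊔ S) → ℂ) (jA l) / (η : ↥(M ⊔ S) → ℂ) 1
    have hA : (fun l => (η : ↥(M ⊔ S) → ℂ) (jA l)) = (η : ↥(M ⊔ S) → ℂ) 1 • w :=
      funext fun l => (mul_div_cancel₀ _ (irr_one_ne_zero η)).symm
    have hB : (fun l => (ξ : ↥(fixedPart S M ⊔ S) → ℂ) (jB l)) =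
        (ξ : ↥(fixedPart S M ⊔ S) → ℂ) 1 • w := funext fun l => by
      show _ = _ * ((η : ↥(M ⊔ S) → ℂ) (jA l) / _)
      rw [show jA l = ⟨j l, hjK l⟩ from rfl, h.central_eq hR (hjK l) (hj0 l) (hjc l),
        mul_div_cancel₀ _ (irr_one_ne_zero ξ)]
      rfl
    rw [over_iff, over_iff, hA, hB, classInner_smul_left, classInner_smul_left]
    simp [irr_one_ne_zero]
  have hcnt := fun η ξ (hR : Match h η ξ) => h.cnt_eq hle hR
  rw [eB]
  conv_lhs => rw [eA]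
  refine cnt_comp_eq (M ⊔ S).subtype_injective hrA (Subgroup.inclusion_injective hle) hrB
    (Match h) ?_ ?_ ?_ hcnt
  · intro η ho hc
    obtain ⟨θ, μ, d⟩ := h.semi.exists_data η fun hd =>
      hc (cnt_eq_zero_of_dvd (M ⊔ S).subtype_injective hrA η hd)
    obtain ⟨ψ, hψ, -⟩ := h.fixed.existsUnique_corr (h.semi.inv_of_data d)
    obtain ⟨ξ, d'⟩ := h.semi'.exists_of_param ψ (fun s hs l l' e => congrArg (ψ : _ → ℂ)
      (show l' = l from Subtype.ext (by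
        rw [show (l' : G) = s * l * s⁻¹ from e, Subgroup.mem_centralizer_iff.1 l.2.2 s hs,
          mul_inv_cancel_right]))) μ
    exact ⟨ξ, ⟨θ, ψ, μ, d, d', hψ⟩, (hover _ _ ⟨θ, ψ, μ, d, d', hψ⟩).1 ho,
      hcnt _ _ ⟨θ, ψ, μ, d, d', hψ⟩ ▸ hc⟩
  · intro ξ ho hc
    obtain ⟨ψ, μ, d'⟩ := h.semi'.exists_data ξ fun hd =>
      hc (cnt_eq_zero_of_dvd (Subgroup.inclusion_injective hle) hrB ξ hd)
    obtain ⟨θ, hθ, hψ⟩ := h.fixed.exists_of_fixed_char ψ
    obtain ⟨η, d⟩ := h.semi.exists_of_param θ hθ μ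
    exact ⟨η, ⟨θ, ψ, μ, d, d', hψ⟩, (hover _ _ ⟨θ, ψ, μ, d, d', hψ⟩).2 ho,
      (hcnt _ _ ⟨θ, ψ, μ, d, d', hψ⟩).symm ▸ hc⟩
  · intro η η' ξ ξ' hR hR'
    rw [h.gconj_iff, h.gconj_iff' hle]
    exact exists_congr fun n => and_congr_right fun hn => h.match_conj hR hR' hn

end CfsgLib.RelMcKay
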