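import Cfsg.Agent.Lib.RelMcKay.Basic

/-!
# Counting through an intermediate normal subgroup

`i : K →* G` embeds `K` as a normal subgroup and `j : L →* K`. The characters of degree prime to
`p` over `ν` along `i ∘ j` split according to the class of their constituents on `K`.
-/

set_option autoImplicit false
set_option linter.unusedSectionVars false
set_option linter.style.haveILetI false

noncomputable section

namespace CfsgLib.RelMcKay

open Cfsg CfsgLib.Characters CfsgLib.CharCorr
open scoped ComplexConjugate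

universe u

variable {p : ℕ} {G K L : Type u} [Group G] [Group K] [Group L]

/-- `η'` is a conjugate of `η` under the ambient group. -/
def GConj (i : K →* G) (η η' : IrrCharacter K) : Prop :=
  ∃ g : G, ∀ k k' : K, i k' = g * i k * g⁻¹ → (η : K → ℂ) k' = (η' : K → ℂ) k

variable [Fintype G] [Fintype K] [Fintype L] {i : K →* G} (hi : Function.Injective i)
  (hn : i.range.Normal)

include hn in
theorem exists_conj (g : G) (k : K) : ∃ k' : K, i k' = g * i k * g⁻¹ :=
  hn.conj_mem _ ⟨k, rfl⟩ g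

include hn in
theorem GConj.refl' (η : IrrCharacter K) (hi : Function.Injective i) : GConj i η η :=
  ⟨1, fun k k' h => by rw [hi (show i k' = i k by simpa using h)]⟩

include hn in
theorem GConj.symm' {η η' : IrrCharacter K} (h : GConj i η η') : GConj i η' η := by
  obtain ⟨g, hg⟩ := h
  refine ⟨g⁻¹, fun k k' e => ?_⟩
  exact (hg k' k (by rw [e]; group)).symm

include hn in
theorem GConj.trans' {η η' η'' : IrrCharacter K} (h : GConj i η η') (h' : GConj i η' η'') :
    GConj i η η'' := by
  obtain ⟨a, ha⟩ := h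
  obtain ⟨b, hb⟩ := h'
  refine ⟨a * b, fun k k' e => ?_⟩
  obtain ⟨k'', hk''⟩ := exists_conj hn b k
  rw [ha k'' k' (by rw [e, hk'']; group), hb k k'' hk'']

include hi hn in
theorem over_gconj {η η' : IrrCharacter K} (h : GConj i η η') {χ : IrrCharacter G}
    (hχ : Over i η χ) : Over i η' χ := by
  obtain ⟨g, hg⟩ := h
  choose f hf using exists_conj hn g
  have hf1 : Function.Injective f := fun a b e => hi (by
    have := congrArg i e
    rw [hf, hf] at this
    simpa using this)
  let e : K ≃* K := MulEquiv.ofBijective (MonoidHom.mk' f fun a b => hi (by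
    rw [map_mul, hf, hf, hf, map_mul]; group)) (Finite.injective_iff_bijective.1 hf1)
  have he : ∀ k, e k = f k := fun k => rfl
  rw [over_iff] at hχ ⊢
  rw [← classInner_comp_equiv e (fun k => (χ : G → ℂ) (i k)) (η : K → ℂ)] at hχ
  convert hχ using 2
  · funext k
    simp only [Function.comp_apply, he, hf]
    exact (irr_isClassFunction χ (i k) g).symm
  · funext k
    simp only [Function.comp_apply, he]
    exact (hg k _ (hf k)).symm

include hi hn in
theorem cnt_gconj {η η' : IrrCharacter K} (h : GConj i η η') : cnt p i η = cnt p i η' :=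
  Nat.card_congr (Equiv.subtypeEquivRight fun _ =>
    and_congr_right fun _ => ⟨over_gconj hi hn h, over_gconj hi hn (h.symm' hn)⟩)

include hi hn in
theorem gconj_of_over {η η' : IrrCharacter K} {χ : IrrCharacter G} (h : Over i η χ)
    (h' : Over i η' χ) : GConj i η η' := by
  haveI : Fintype i.range := Fintype.ofFinite _
  rw [over_iff, ← classInner_range hi] at h h'
  obtain ⟨g, hg⟩ := CfsgLib.Clifford.exists_conj_of_constituent hn χ.2 (rangeIrr hi η).2
    (rangeIrr hi η').2 h h'
  refine ⟨g, fun k k' e => ?_⟩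
  rw [← rangeIrr_apply hi η k', ← rangeIrr_apply hi η' k, congrFun hg]
  exact congrArg (rangeIrr hi η : i.range → ℂ) (Subtype.ext e)

theorem over_comp (j : L →* K) (ν : IrrCharacter L) (χ : IrrCharacter G) :
    Over (i.comp j) ν χ ↔ ∃ η : IrrCharacter K, Over i η χ ∧ Over j ν η := by
  classical
  rw [Over, CfsgLib.CharCorrQ.mult_comp]
  simp [Finset.sum_eq_zero_iff, Over]

/-- The characters of `K` which contribute. -/
def Contrib (p : ℕ) (i : K →* G) (j : L →* K) (ν : IrrCharacter L) : Type u :=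
  {η : IrrCharacter K // Over j ν η ∧ cnt p i η ≠ 0}

/-- Conjugacy of contributing characters. -/
def contribRel (p : ℕ) (i : K →* G) (j : L →* K) (ν : IrrCharacter L)
    (a b : Contrib p i j ν) : Prop :=
  GConj i a.1 b.1

include hi hn in
theorem contribRel_equivalence (j : L →* K) (ν : IrrCharacter L) :
    Equivalence (contribRel p i j ν) :=
  ⟨fun a => GConj.refl' hn a.1 hi, fun h => h.symm' hn, fun h h' => h.trans' hn h'⟩

include hi hn in
theorem cnt_comp (j : L →* K) (ν : IrrCharacter L) :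
    cnt p (i.comp j) ν = Nat.card (Σ q : Quot (contribRel p i j ν),
      {χ : IrrCharacter G // ¬ p ∣ charDegree (χ : G → ℂ) ∧ Over i q.out.1 χ}) := by
  have hout : ∀ a : Contrib p i j ν, GConj i (Quot.mk (contribRel p i j ν) a).out.1 a.1 :=
    fun a => ((contribRel_equivalence hi hn j ν).quot_mk_eq_iff _ _).1 (Quot.out_eq _)
  let f : (Σ q : Quot (contribRel p i j ν),
      {χ : IrrCharacter G // ¬ p ∣ charDegree (χ : G → ℂ) ∧ Over i q.out.1 χ}) →
      {χ : IrrCharacter G // ¬ p ∣ charDegree (χ : G → ℂ) ∧ Over (i.comp j) ν χ} := fun x =>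
    ⟨x.2.1, x.2.2.1, (over_comp j ν x.2.1).2 ⟨_, x.2.2.2, x.1.out.2.1⟩⟩
  refine (Nat.card_eq_of_bijective f ⟨?_, ?_⟩).symm
  · rintro ⟨q, χ, hd, ho⟩ ⟨q', χ', hd', ho'⟩ e
    have e' : χ = χ' := congrArg Subtype.val e
    subst e'
    have hq : q = q' := by
      rw [← Quot.out_eq q, ← Quot.out_eq q']
      exact Quot.sound (gconj_of_over hi hn ho ho')
    subst hq
    rfl
  · rintro ⟨χ, hd, ho⟩
    obtain ⟨η, hη, hην⟩ := (over_comp j ν χ).1 ho
    have hc : cnt p i η ≠ 0 := by
      rw [cnt, Nat.card_ne_zero]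
      exact ⟨⟨⟨χ, hd, hη⟩⟩, inferInstance⟩
    refine ⟨⟨Quot.mk _ ⟨η, hην, hc⟩, χ, hd, ?_⟩, rfl⟩
    exact over_gconj hi hn ((hout ⟨η, hην, hc⟩).symm' hn) hη

/-- Two counts agree when their contributing characters match. -/
theorem cnt_comp_eq {G' K' L' : Type u} [Group G'] [Group K'] [Group L'] [Fintype G'] [Fintype K']
    [Fintype L'] {i' : K' →* G'} (hi : Function.Injective i) (hn : i.range.Normal)
    (hi' : Function.Injective i') (hn' : i'.range.Normal) {j : L →* K} {j' : L' →* K'}
    {ν : IrrCharacter L} {ν' : IrrCharacter L'} (R : IrrCharacter K → IrrCharacter K' → Prop)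
    (h1 : ∀ η, Over j ν η → cnt p i η ≠ 0 →
      ∃ η', R η η' ∧ Over j' ν' η' ∧ cnt p i' η' ≠ 0)
    (h2 : ∀ η', Over j' ν' η' → cnt p i' η' ≠ 0 →
      ∃ η, R η η' ∧ Over j ν η ∧ cnt p i η ≠ 0)
    (h3 : ∀ η η' ξ ξ', R η ξ → R η' ξ' → (GConj i η η' ↔ GConj i' ξ ξ'))
    (h4 : ∀ η ξ, R η ξ → cnt p i η = cnt p i' ξ) :
    cnt p (i.comp j) ν = cnt p (i'.comp j') ν' := by
  classical
  haveI : Finite (Contrib p i j ν) := Subtype.finite
  haveI : Finite (Contrib p i' j' ν') := Subtype.finite
  haveI : Fintype (Quot (contribRel p i j ν)) := Fintype.ofFinite _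
  haveI : Fintype (Quot (contribRel p i' j' ν')) := Fintype.ofFinite _
  rw [cnt_comp hi hn, cnt_comp hi' hn', Nat.card_sigma, Nat.card_sigma]
  choose f hf1 hf2 hf3 using fun a : Contrib p i j ν => h1 a.1 a.2.1 a.2.2
  let F : Quot (contribRel p i j ν) → Quot (contribRel p i' j' ν') :=
    fun q => Quot.mk _ ⟨f q.out, hf2 _, hf3 _⟩
  have hE := contribRel_equivalence (p := p) hi hn j ν
  have hE' := contribRel_equivalence (p := p) hi' hn' j' ν'
  have hF : Function.Bijective F := by
    refine ⟨fun q r e => ?_, fun q => ?_⟩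
    · rw [← Quot.out_eq q, ← Quot.out_eq r]
      exact Quot.sound ((h3 _ _ _ _ (hf1 q.out) (hf1 r.out)).2 ((hE'.quot_mk_eq_iff _ _).1 e))
    · obtain ⟨η, hR, hο, hc⟩ := h2 q.out.1 q.out.2.1 q.out.2.2
      refine ⟨Quot.mk _ ⟨η, hο, hc⟩, ?_⟩
      rw [← Quot.out_eq q]
      exact Quot.sound ((h3 _ _ _ _ (hf1 _) hR).1 ((hE.quot_mk_eq_iff _ _).1 (Quot.out_eq _)))
  refine Fintype.sum_equiv (Equiv.ofBijective F hF) _ _ fun q => ?_
  show cnt p i q.out.1 = cnt p i' (F q).out.1
  rw [h4 _ _ (hf1 q.out)]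
  exact cnt_gconj hi' hn' (GConj.symm' hn' ((hE'.quot_mk_eq_iff _ _).1 (Quot.out_eq (F q))))

end CfsgLib.RelMcKay
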