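import Mathlib.RingTheory.IntegralDomain
import Mathlib.GroupTheory.QuotientGroup.Basic
import Mathlib.Algebra.Ring.Subring.Basic
import Mathlib.Algebra.Module.LinearMap.End

/-!
# A commutative group of operators of an irreducible abelian layer acts cyclically
-/

set_option autoImplicit false
set_option linter.unusedSectionVars false
set_option linter.style.haveILetI false

noncomputable section

namespace CfsgLib.RelMcKay

variable {G : Type*} [Group G] [Finite G]

/-- A commutative family of endomorphisms without invariant subgroups generates a cyclic group. -/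
theorem isCyclic_range_of_irreducible {W Y : Type*} [AddCommGroup W] [Finite W] [Nontrivial W]
    [Group Y] (φ : Y →* AddMonoid.End W) (hcomm : ∀ a b, φ a * φ b = φ b * φ a)
    (hirr : ∀ U : AddSubgroup W, (∀ y, ∀ w ∈ U, φ y w ∈ U) → U = ⊥ ∨ U = ⊤) :
    ∃ a : Y, ∀ y : Y, ∃ i : ℤ, φ y = φ (a ^ i) := by
  classical
  let R : Subring (AddMonoid.End W) := Subring.closure (Set.range φ)
  have hR : ∀ r ∈ R, ∀ b, r * φ b = φ b * r := by
    intro r hr b
    refine Subring.closure_induction (p := fun r _ => r * φ b = φ b * r) ?_ ?_ ?_ ?_ ?_ ?_ hr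
    · rintro _ ⟨a, rfl⟩; exact hcomm a b
    · simp
    · simp
    · intro x y _ _ hx hy; rw [add_mul, mul_add, hx, hy]
    · intro x _ hx; rw [neg_mul, mul_neg, hx]
    · intro x y _ _ hx hy; rw [mul_assoc, hy, ← mul_assoc, hx, mul_assoc]
  haveI : Finite (AddMonoid.End W) :=
    Finite.of_injective (β := W → W) (fun f => (f : W → W)) DFunLike.coe_injective
  have hinj : ∀ r ∈ R, r ≠ 0 → Function.Injective r := by
    intro r hr hr0
    let r' : W →+ W := r
    rcases hirr r'.ker (fun y w hw => by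
      have hw' : r w = 0 := hw
      show r (φ y w) = 0
      have h : r (φ y w) = φ y (r w) := DFunLike.congr_fun (hR r hr y) w
      rw [h, hw', map_zero]) with h | h
    · exact (AddMonoidHom.ker_eq_bot_iff r').1 h
    · refine absurd (DFunLike.ext _ _ fun w => ?_) hr0
      exact (h ▸ AddSubgroup.mem_top w : w ∈ r'.ker)
  letI : CommRing R := Subring.closureCommRingOfComm (by rintro _ ⟨a, rfl⟩ _ ⟨b, rfl⟩; exact hcomm a b)
  haveI : Nontrivial R := by
    obtain ⟨w, hw⟩ := exists_ne (0 : W)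
    exact ⟨⟨0, 1, fun h => hw (DFunLike.congr_fun (congrArg Subtype.val h) w).symm⟩⟩
  haveI : NoZeroDivisors R := ⟨fun {r t} h => by
    by_contra hne
    push Not at hne
    apply hne.2
    have h1 : (r : AddMonoid.End W) ≠ 0 := fun e => hne.1 (Subtype.ext e)
    refine Subtype.ext (DFunLike.ext _ _ fun w => ?_)
    refine hinj r r.2 h1 ?_
    have h2 := DFunLike.congr_fun (congrArg Subtype.val h) w
    simp only [Subring.coe_mul, AddMonoid.End.coe_mul, Function.comp_apply, Subring.coe_zero] at h2 ⊢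
    rw [h2]
    simp⟩
  haveI : IsDomain R := NoZeroDivisors.to_isDomain R
  let ψ : Y →* R := φ.codRestrict R fun y => Subring.subset_closure ⟨y, rfl⟩
  let ψu : Y →* Rˣ := ψ.toHomUnits
  haveI : Finite Rˣ := inferInstance
  haveI : IsCyclic ψu.range :=
    isCyclic_of_subgroup_isDomain ((Units.coeHom R).comp ψu.range.subtype)
      (fun a b h => Subtype.ext (Units.ext h))
  obtain ⟨⟨g, a, rfl⟩, hg⟩ := IsCyclic.exists_generator (α := ψu.range)
  refine ⟨a, fun y => ?_⟩
  obtain ⟨i, hi⟩ := Subgroup.mem_zpowers_iff.1 (hg ⟨ψu y, y, rfl⟩)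
  refine ⟨i, ?_⟩
  have h : ψu y = ψu (a ^ i) := by rw [map_zpow]; exact (congrArg Subtype.val hi).symm
  exact congrArg (fun u : Rˣ => ((u : R) : AddMonoid.End W)) h

/-- `Y` acts on an abelian layer `U / R` without invariant subgroups, commutatively: the part of
`Y` centralising the layer has cyclic quotient. -/
theorem exists_cyclic_layer (U R Y : Subgroup G) (hRU : R ≤ U) (hne : R ≠ U)
    (hU : Y ≤ Subgroup.normalizer (U : Set G)) (hR : Y ≤ Subgroup.normalizer (R : Set G))
    (hUR : U ≤ Subgroup.normalizer (R : Set G))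
    (hab : ∀ s ∈ U, ∀ t ∈ U, s * t * s⁻¹ * t⁻¹ ∈ R)
    (hcomm : ∀ y ∈ Y, ∀ z ∈ Y, ∀ s ∈ U,
      (y * z) * s * (y * z)⁻¹ * ((z * y) * s * (z * y)⁻¹)⁻¹ ∈ R)
    (hirr : ∀ V : Subgroup G, R ≤ V → V ≤ U → Y ≤ Subgroup.normalizer (V : Set G) →
      V = R ∨ V = U) :
    ∃ A : Subgroup G, (∀ y, y ∈ A ↔ y ∈ Y ∧ ∀ s ∈ U, y * s * y⁻¹ * s⁻¹ ∈ R) ∧
      ∃ a ∈ Y, ∀ y ∈ Y, ∃ i : ℤ, y * (a ^ i)⁻¹ ∈ A := by
  classical
  haveI hN : (R.subgroupOf U).Normal :=
    ⟨fun x hx g => (Subgroup.mem_normalizer_iff.1 (hUR g.2) (x : G)).1 hx⟩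
  letI : CommGroup (U ⧸ R.subgroupOf U) :=
    { (inferInstance : Group (U ⧸ R.subgroupOf U)) with
      mul_comm := fun a b => by
        obtain ⟨s, rfl⟩ := QuotientGroup.mk_surjective a
        obtain ⟨t, rfl⟩ := QuotientGroup.mk_surjective b
        rw [← QuotientGroup.mk_mul, ← QuotientGroup.mk_mul, QuotientGroup.eq]
        show ((s * t)⁻¹ * (t * s) : U).1 ∈ R
        have h := hab _ (U.inv_mem t.2) _ (U.inv_mem s.2)
        simpa [mul_assoc] using h }
  have hconj : ∀ y ∈ Y, ∀ s ∈ U, y * s * y⁻¹ ∈ U := fun y hy s hs =>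
    (Subgroup.mem_normalizer_iff.1 (hU hy) s).1 hs
  let c : Y → U →* U := fun y =>
    { toFun := fun s => ⟨y * s * (y : G)⁻¹, hconj y y.2 s s.2⟩
      map_one' := Subtype.ext (by simp)
      map_mul' := fun a b => Subtype.ext (by simp [mul_assoc]) }
  let act : Y → (U ⧸ R.subgroupOf U) →* (U ⧸ R.subgroupOf U) := fun y =>
    QuotientGroup.map _ _ (c y) fun x hx => (Subgroup.mem_normalizer_iff.1 (hR y.2) (x : G)).1 hx
  let φ : Y →* AddMonoid.End (Additive (U ⧸ R.subgroupOf U)) :=
    { toFun := fun y => MonoidHom.toAdditive (act y)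
      map_one' := DFunLike.ext _ _ fun w => by
        obtain ⟨s, hs⟩ := QuotientGroup.mk_surjective w.toMul
        show Additive.ofMul (act 1 w.toMul) = w
        rw [← hs]
        show Additive.ofMul (QuotientGroup.mk (c 1 s) : U ⧸ R.subgroupOf U) = _
        rw [show c 1 s = s from Subtype.ext (by simp [c]), hs]
        rfl
      map_mul' := fun y z => DFunLike.ext _ _ fun w => by
        obtain ⟨s, hs⟩ := QuotientGroup.mk_surjective w.toMul
        show Additive.ofMul (act (y * z) w.toMul) = Additive.ofMul (act y (act z w.toMul))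
        rw [← hs]
        show Additive.ofMul (QuotientGroup.mk (c (y * z) s) : U ⧸ R.subgroupOf U) =
          Additive.ofMul (QuotientGroup.mk (c y (c z s)) : U ⧸ R.subgroupOf U)
        rw [show c (y * z) s = c y (c z s) from Subtype.ext (by simp [c, mul_assoc])] }
  have hφ : ∀ y z : Y, φ y = φ z ↔
      ∀ s ∈ U, (y : G) * s * (y : G)⁻¹ * ((z : G) * s * (z : G)⁻¹)⁻¹ ∈ R := by
    intro y z
    constructor
    · intro h s hs
      have h2 : (QuotientGroup.mk (c z ⟨s, hs⟩) : U ⧸ R.subgroupOf U) =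
          QuotientGroup.mk (c y ⟨s, hs⟩) := by
        have h0 := DFunLike.congr_fun h
          (Additive.ofMul (QuotientGroup.mk (⟨s, hs⟩ : U) : U ⧸ R.subgroupOf U))
        exact Additive.ofMul.injective h0.symm
      rw [QuotientGroup.eq] at h2
      have h3 := (Subgroup.mem_normalizer_iff.1 (hUR (hconj z z.2 s hs)) _).1 h2
      simpa [c, mul_assoc] using h3
    · intro h
      refine DFunLike.ext _ _ fun w => ?_
      obtain ⟨s, hs⟩ := QuotientGroup.mk_surjective w.toMul
      show Additive.ofMul (act y w.toMul) = Additive.ofMul (act z w.toMul)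
      rw [← hs]
      refine congrArg Additive.ofMul (Eq.symm ?_)
      show (QuotientGroup.mk (c z s) : U ⧸ R.subgroupOf U) = QuotientGroup.mk (c y s)
      rw [QuotientGroup.eq]
      have h3 := (Subgroup.mem_normalizer_iff.1
        (hUR (U.inv_mem (hconj z z.2 s s.2))) _).1 (h s s.2)
      simpa [c, Subgroup.mem_subgroupOf, mul_assoc] using h3
  haveI : Nontrivial (Additive (U ⧸ R.subgroupOf U)) := by
    have : ¬ U ≤ R := fun h => hne (le_antisymm hRU h)
    obtain ⟨s, hs, hsR⟩ := SetLike.not_le_iff_exists.1 this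
    refine ⟨⟨Additive.ofMul (QuotientGroup.mk ⟨s, hs⟩), 0, fun h => hsR ?_⟩⟩
    exact (QuotientGroup.eq_one_iff (⟨s, hs⟩ : U)).1 h
  obtain ⟨a, ha⟩ := isCyclic_range_of_irreducible φ
    (fun y z => by
      rw [← map_mul, ← map_mul, hφ]
      exact fun s hs => hcomm y y.2 z z.2 s hs)
    (by
      intro V hV
      let q : U →* U ⧸ R.subgroupOf U := QuotientGroup.mk' _
      let W : Subgroup G := ((AddSubgroup.toSubgroup' V).comap q).map U.subtype
      have hmem : ∀ s (hs : s ∈ U), s ∈ W ↔ Additive.ofMul (q ⟨s, hs⟩) ∈ V := by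
        intro s hs
        constructor
        · rintro ⟨⟨s', hs'⟩, h, rfl⟩; exact h
        · intro h; exact ⟨⟨s, hs⟩, h, rfl⟩
      have hWU : W ≤ U := by rintro _ ⟨s, -, rfl⟩; exact s.2
      have hRW : R ≤ W := fun r hr => by
        rw [hmem r (hRU hr), show q ⟨r, hRU hr⟩ = 1 from (QuotientGroup.eq_one_iff _).2 hr]
        exact V.zero_mem
      have hYW : Y ≤ Subgroup.normalizer (W : Set G) := by
        intro y hy
        rw [Subgroup.mem_normalizer_iff]
        have hcl : ∀ z ∈ Y, ∀ s ∈ W, z * s * z⁻¹ ∈ W := by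
          intro z hz s hs
          rw [hmem _ (hconj z hz s (hWU hs))]
          exact hV ⟨z, hz⟩ _ ((hmem s (hWU hs)).1 hs)
        refine fun s => ⟨hcl y hy s, fun h => ?_⟩
        have h1 := hcl y⁻¹ (Y.inv_mem hy) _ h
        simpa [mul_assoc] using h1
      rcases hirr W hRW hWU hYW with h | h
      · refine Or.inl ((AddSubgroup.eq_bot_iff_forall _).2 fun w hw => ?_)
        obtain ⟨⟨s, hs⟩, hsw⟩ := QuotientGroup.mk_surjective w.toMul
        have h1 : s ∈ W := (hmem s hs).2 (by
          show Additive.ofMul (QuotientGroup.mk (⟨s, hs⟩ : U) : U ⧸ R.subgroupOf U) ∈ V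
          rw [hsw]; exact hw)
        rw [h] at h1
        have h2 : w.toMul = 1 := hsw ▸ (QuotientGroup.eq_one_iff (⟨s, hs⟩ : U)).2 h1
        exact h2
      · refine Or.inr ((AddSubgroup.eq_top_iff' _).2 fun w => ?_)
        obtain ⟨⟨s, hs⟩, hsw⟩ := QuotientGroup.mk_surjective w.toMul
        have h1 := (hmem s hs).1 (h ▸ hs)
        rw [show q ⟨s, hs⟩ = w.toMul from hsw] at h1
        exact h1)
  refine ⟨φ.ker.map Y.subtype, fun y => ?_, (a : G), a.2, fun y hy => ?_⟩
  · constructor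
    · rintro ⟨z, hz, rfl⟩
      refine ⟨z.2, fun s hs => ?_⟩
      have h := (hφ z 1).1 (by rw [map_one]; exact hz) s hs
      simpa [mul_assoc] using h
    · rintro ⟨hy, h⟩
      refine ⟨⟨y, hy⟩, ?_, rfl⟩
      rw [SetLike.mem_coe, MonoidHom.mem_ker, ← map_one φ, hφ]
      intro s hs
      simpa [mul_assoc] using h s hs
  · obtain ⟨i, hi⟩ := ha ⟨y, hy⟩
    refine ⟨i, ⟨y, hy⟩ * (a ^ i)⁻¹, ?_, by simp⟩
    rw [SetLike.mem_coe, MonoidHom.mem_ker, map_mul, hi, ← map_mul, mul_inv_cancel, map_one]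

end CfsgLib.RelMcKay
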