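import Cfsg.Agent.Lib.RelMcKay.Corr
import Cfsg.Agent.Lib.RelMcKay.CyclicStep

/-!
# Corresponding characters extend to the same operator groups

`Y` normalises `S` and `M`, contains the fixed part `C` and is commutative modulo `C`. Then `θ`
extends to `M Y` if and only if its correspondent extends to `Y`.
-/

set_option autoImplicit false
set_option linter.unusedSectionVars false
set_option linter.style.haveILetI false
set_option linter.unusedSimpArgs false

noncomputable section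

namespace CfsgLib.RelMcKay

open Cfsg CfsgLib.Characters CfsgLib.CharCorr
open scoped ComplexConjugate

universe u

variable {G : Type u} [Group G] [Fintype G] {p : ℕ} {S M C : Subgroup G}

theorem mem_sup_iff_of_normalizes {A : Subgroup G} (hA : A ≤ Subgroup.normalizer (M : Set G))
    {x : G} : x ∈ M ⊔ A ↔ ∃ m ∈ M, ∃ a ∈ A, m * a = x := by
  rw [← SetLike.mem_coe, Subgroup.coe_mul_of_right_le_normalizer_left M A hA, Set.mem_mul]
  exact Iff.rfl

/-- The cyclic step. -/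
theorem ext_corr_step [Fintype M] [Fintype C] (h : FixSetting p S M C) {Y A : Subgroup G}
    (hYp : ¬ p ∣ Nat.card Y) (hYM : Y ≤ Subgroup.normalizer (M : Set G))
    (hYS : Y ≤ Subgroup.normalizer (S : Set G)) (hCA : C ≤ A) (hAY : A ≤ Y)
    (hAS : A ≤ Subgroup.centralizer (S : Set G)) (hYA : Y ≤ Subgroup.normalizer (A : Set G))
    {a : G} (ha : a ∈ Y) (hgen : ∀ y ∈ Y, ∃ i : ℤ, y * (a ^ i)⁻¹ ∈ A)
    (hcomm : ∀ y ∈ Y, ∀ z ∈ Y, y * z * y⁻¹ * z⁻¹ ∈ C)
    {θ : IrrCharacter M} (hθ : ∀ s ∈ S, CInv M.subtype θ s) {ψ : IrrCharacter C}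
    (hcorr : Corr p h.le θ ψ) : Ext θ (M ⊔ Y) ↔ Ext ψ Y := by
  classical
  haveI : Fact p.Prime := ⟨h.prime⟩
  set M' := M ⊔ A with hM'
  haveI : Fintype M' := Fintype.ofFinite _
  haveI : Fintype A := Fintype.ofFinite _
  have hAM : A ≤ Subgroup.normalizer (M : Set G) := hAY.trans hYM
  have hAp : ¬ p ∣ Nat.card A := fun hd => hYp (hd.trans (Subgroup.card_dvd_of_le hAY))
  have hMM' : M ≤ M' := le_sup_left
  have hAM' : A ≤ M' := le_sup_right
  have hM'n : M' ≤ Subgroup.normalizer (M : Set G) := sup_le Subgroup.le_normalizer hAM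
  have hs' : FixSetting p S M' A :=
    { prime := h.prime
      pgroup := h.pgroup
      coprime := not_dvd_card_sup h.prime hAM h.coprime hAp
      normalizes := by
        intro s hs
        rw [Subgroup.mem_normalizer_iff]
        have key : ∀ t ∈ S, ∀ x ∈ M', t * x * t⁻¹ ∈ M' := by
          intro t ht x hx
          obtain ⟨m, hm, b, hb, rfl⟩ := (mem_sup_iff_of_normalizes hAM).1 hx
          have hc := Subgroup.mem_centralizer_iff.1 (hAS hb) t ht
          rw [show t * (m * b) * t⁻¹ = (t * m * t⁻¹) * (t * b * t⁻¹) by group, hc,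
            mul_inv_cancel_right]
          exact Subgroup.mul_mem_sup (h.conj_mem t ht m hm) hb
        refine fun x => ⟨key s hs x, fun hx => ?_⟩
        have h1 := key s⁻¹ (S.inv_mem hs) _ hx
        simpa [mul_assoc] using h1
      fixed := by
        refine le_antisymm (le_inf hAM' hAS) ?_
        rintro x ⟨hx, hxS⟩
        obtain ⟨m, hm, b, hb, rfl⟩ := (mem_sup_iff_of_normalizes hAM).1 hx
        have hmS : m ∈ Subgroup.centralizer (S : Set G) := by
          have h1 := (Subgroup.centralizer (S : Set G)).mul_mem hxS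
            ((Subgroup.centralizer (S : Set G)).inv_mem (hAS hb))
          simpa [mul_assoc] using h1
        exact A.mul_mem (hCA (h.fixed ▸ ⟨hm, hmS⟩)) hb }
  have hAC : A ≤ Subgroup.normalizer (C : Set G) := fun b hb =>
    h.normalizer_fixed (hAM hb) (hYS (hAY hb))
  have haM' : a ∈ Subgroup.normalizer (M' : Set G) := by
    have hh : Y ≤ Subgroup.normalizer (M' : Set G) :=
      (le_inf hYM hYA).trans (Subgroup.normalizer_inf_normalizer_le_normalizer_sup M A)
    exact hh ha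
  have habA : ∀ x ∈ A, ∀ y ∈ A, x * y * x⁻¹ * y⁻¹ ∈ C := fun x hx y hy =>
    hcomm x (hAY hx) y (hAY hy)
  have habM' : ∀ x ∈ M', ∀ y ∈ M', x * y * x⁻¹ * y⁻¹ ∈ M := by
    intro x hx y hy
    obtain ⟨m, hm, b, hb, rfl⟩ := (mem_sup_iff_of_normalizes hAM).1 hx
    obtain ⟨n, hn, c, hc, rfl⟩ := (mem_sup_iff_of_normalizes hAM).1 hy
    haveI := normal_subgroupOf_of_le hM'n
    let q : M' →* M' ⧸ M.subgroupOf M' := QuotientGroup.mk' _
    let A' : A →* M' := Subgroup.inclusion hAM'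
    let mM : M' := ⟨m, hMM' hm⟩
    let nM : M' := ⟨n, hMM' hn⟩
    have e1 : q mM = 1 := (QuotientGroup.eq_one_iff _).2 hm
    have e2 : q nM = 1 := (QuotientGroup.eq_one_iff _).2 hn
    have h1 : q (mM * A' ⟨b, hb⟩ * (nM * A' ⟨c, hc⟩) * (mM * A' ⟨b, hb⟩)⁻¹ *
        (nM * A' ⟨c, hc⟩)⁻¹) = q (A' (⟨b, hb⟩ * ⟨c, hc⟩ * ⟨b, hb⟩⁻¹ * ⟨c, hc⟩⁻¹)) := by
      simp only [map_mul, map_inv, e1, e2, one_mul]
    have h2 : q (A' (⟨b, hb⟩ * ⟨c, hc⟩ * ⟨b, hb⟩⁻¹ * ⟨c, hc⟩⁻¹)) = 1 :=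
      (QuotientGroup.eq_one_iff _).2 (h.le (habA b hb c hc))
    exact (QuotientGroup.eq_one_iff (N := M.subgroupOf M')
      (mM * A' ⟨b, hb⟩ * (nM * A' ⟨c, hc⟩) * (mM * A' ⟨b, hb⟩)⁻¹ * (nM * A' ⟨c, hc⟩)⁻¹)).1
      (h1.trans h2)
  have hY : Y = A ⊔ Subgroup.zpowers a := by
    refine le_antisymm (fun y hy => ?_) (sup_le hAY (Subgroup.zpowers_le.2 ha))
    obtain ⟨i, hi⟩ := hgen y hy
    rw [show y = (y * (a ^ i)⁻¹) * a ^ i by group]
    exact Subgroup.mul_mem_sup hi (Subgroup.zpow_mem_zpowers a i)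
  have hMY : M ⊔ Y = M' ⊔ Subgroup.zpowers a := by rw [hY, hM', sup_assoc]
  have haA : a ∈ Subgroup.normalizer (A : Set G) := hYA ha
  have hstep : (M'.subtype.comp (Subgroup.inclusion hMM')) = M.subtype := rfl
  -- twisting data
  have hμlift : ∀ μ : A →* ℂˣ, ∀ μ' : M' →* ℂˣ, (∀ x : A, μ' (Subgroup.inclusion hAM' x) = μ x) →
      ∀ (η : IrrCharacter M') (ξ : IrrCharacter A), Corr p hs'.le η ξ →
      Corr p hs'.le (⟨_, CfsgLib.LinearTwist.isIrr_mul_hom η.2 μ'⟩ : IrrCharacter M')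
        (⟨_, CfsgLib.LinearTwist.isIrr_mul_hom ξ.2 μ⟩ : IrrCharacter A) := by
    intro μ μ' hμ η ξ hc
    rw [Corr] at hc ⊢
    rwa [mult_eq_of_classInner_eq (Subgroup.inclusion hs'.le) _ _ (n := mult (Subgroup.inclusion hs'.le) η ξ) ?_]
    rw [← mult_spec (Subgroup.inclusion hs'.le) η ξ]
    unfold classInner
    congr 1
    refine Finset.sum_congr rfl fun x _ => ?_
    simp only [Function.comp_apply]
    rw [hμ x]
    have hu : ((μ x : ℂ)) * conj ((μ x : ℂ)) = 1 := by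
      have := irr_apply_inv (⟨_, isIrrCharacter_of_hom μ⟩ : IrrCharacter A) x
      simp only at this
      rw [← this, ← Units.val_mul, ← map_mul, mul_inv_cancel, map_one, Units.val_one]
    rw [map_mul]
    linear_combination ((η : M' → ℂ) (Subgroup.inclusion hs'.le x) * conj ((ξ : A → ℂ) x)) * hu
  have hinvμ : ∀ μ' : M' →* ℂˣ, (∀ k : M, μ' (Subgroup.inclusion hMM' k) = 1) →
      ∀ η : IrrCharacter M', (∀ s ∈ S, CInv M'.subtype η s) →
      ∀ s ∈ S, CInv M'.subtype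
        (⟨_, CfsgLib.LinearTwist.isIrr_mul_hom η.2 μ'⟩ : IrrCharacter M') s := by
    intro μ' hμ' η hη s hs l l' e
    obtain ⟨m, hm, b, hb, hl⟩ := (mem_sup_iff_of_normalizes hAM).1 l.2
    have e' : (l' : G) = s * l * s⁻¹ := e
    have e1 : l = Subgroup.inclusion hMM' ⟨m, hm⟩ * Subgroup.inclusion hAM' ⟨b, hb⟩ :=
      Subtype.ext hl.symm
    have e2 : l' = Subgroup.inclusion hMM' ⟨_, h.conj_mem s hs m hm⟩ *
        Subgroup.inclusion hAM' ⟨b, hb⟩ := Subtype.ext (by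
      have hcs := Subgroup.mem_centralizer_iff.1 (hAS hb) s hs
      show (l' : G) = s * m * s⁻¹ * b
      rw [e', ← hl, show s * (m * b) * s⁻¹ = s * m * s⁻¹ * (s * b * s⁻¹) by group, hcs,
        mul_inv_cancel_right])
    show (η : M' → ℂ) l' * (μ' l' : ℂ) = (η : M' → ℂ) l * (μ' l : ℂ)
    rw [hη s hs l l' e]
    congr 2
    rw [e1, e2, map_mul, map_mul, hμ', hμ']
  -- twists of a pair are distinguished on either side
  have hpair : ∀ (η : IrrCharacter M') (ξ : IrrCharacter A), (∀ s ∈ S, CInv M'.subtype η s) →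
      Corr p hs'.le η ξ → ∀ μ μ' : M' →* ℂˣ, (∀ k : M, μ (Subgroup.inclusion hMM' k) = 1) →
      (∀ k : M, μ' (Subgroup.inclusion hMM' k) = 1) →
      ((∀ x : A, (ξ : A → ℂ) x * (μ (Subgroup.inclusion hAM' x) : ℂ) =
          (ξ : A → ℂ) x * (μ' (Subgroup.inclusion hAM' x) : ℂ)) ↔
        ∀ x, (η : M' → ℂ) x * (μ x : ℂ) = (η : M' → ℂ) x * (μ' x : ℂ)) := by
    intro η ξ hη hc μ μ' hμ hμ'
    have c1 := hμlift (μ.comp (Subgroup.inclusion hAM')) μ (fun _ => rfl) η ξ hc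
    have c2 := hμlift (μ'.comp (Subgroup.inclusion hAM')) μ' (fun _ => rfl) η ξ hc
    constructor
    · intro e
      have e1 : (⟨_, CfsgLib.LinearTwist.isIrr_mul_hom ξ.2 (μ.comp (Subgroup.inclusion hAM'))⟩ :
          IrrCharacter A) = ⟨_, CfsgLib.LinearTwist.isIrr_mul_hom ξ.2
            (μ'.comp (Subgroup.inclusion hAM'))⟩ := Subtype.ext (funext e)
      rw [e1] at c1
      exact congrFun (congrArg Subtype.val
        (hs'.corr_injective (hinvμ μ hμ η hη) (hinvμ μ' hμ' η hη) c1 c2))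
    · intro e
      have e1 : (⟨_, CfsgLib.LinearTwist.isIrr_mul_hom η.2 μ⟩ : IrrCharacter M') =
          ⟨_, CfsgLib.LinearTwist.isIrr_mul_hom η.2 μ'⟩ := Subtype.ext (funext e)
      rw [e1] at c1
      exact congrFun (congrArg Subtype.val (hs'.corr_unique (hinvμ μ' hμ' η hη) c1 c2))
  constructor
  · rintro ⟨χ, hχ⟩
    let X := M ⊔ Y
    have hM'X : M' ≤ X := sup_le_sup_left hAY _
    let i : M' →* X := Subgroup.inclusion hM'X
    have hres : ∀ k : M, (χ : X → ℂ) (i (Subgroup.inclusion hMM' k)) = (θ : M → ℂ) k :=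
      fun k => hχ k _
    let η : IrrCharacter M' := ⟨_, inv_irr_of_ext hMM' hM'n (η := θ)
      (isCharacter_comp (irr_isCharacter χ) i) hres⟩
    have hθY : ∀ y ∈ Y, CInv M.subtype θ y := fun y hy =>
      CInv.of_ext ⟨χ, hχ⟩ le_sup_left (Subgroup.mem_sup_right hy)
    have hηS : ∀ s ∈ S, CInv M'.subtype η s := by
      intro s hs
      haveI := normal_subgroupOf_of_le hM'n
      haveI : Fintype (M.subgroupOf M') := Fintype.ofFinite _
      let e := conjEquiv M' (hs'.normalizes hs)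
      let η' : IrrCharacter M' := twistIrr e η
      have hres' : ∀ k : M, (η' : M' → ℂ) (Subgroup.inclusion hMM' k) = (θ : M → ℂ) k := by
        intro k
        rw [← hθ s hs k ⟨_, h.conj_mem s hs k k.2⟩ rfl, ← hres]
        rfl
      obtain ⟨μ, hμ, hμeq⟩ := CfsgLib.Blk4.Gallagher.exists_linear_factor (M.subgroupOf M')
        (fun x y => by
          obtain ⟨u, rfl⟩ := QuotientGroup.mk_surjective x
          obtain ⟨v, rfl⟩ := QuotientGroup.mk_surjective y
          rw [← QuotientGroup.mk_mul, ← QuotientGroup.mk_mul, QuotientGroup.eq,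
            Subgroup.mem_subgroupOf]
          have h1 := habM' _ (M'.inv_mem v.2) _ (M'.inv_mem u.2)
          simpa [mul_assoc] using h1)
        η' η (res_irr_of_ext hMM' (ε := η) hres) (by
          rw [classInner_conj_symm, show (fun n : M.subgroupOf M' => (η : M' → ℂ) n) =
              fun n : M.subgroupOf M' => (θ : M → ℂ) ⟨n, n.2⟩ from funext fun n => hres ⟨n, n.2⟩,
            show (fun n : M.subgroupOf M' => (η' : M' → ℂ) n) =
              fun n : M.subgroupOf M' => (θ : M → ℂ) ⟨n, n.2⟩ from funext fun n => hres' ⟨n, n.2⟩,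
            classInner_irr_self (isIrr_subgroupOf θ hMM'), map_one]
          exact one_ne_zero)
      have hμe : ∀ x : M', μ (e x) = μ x := by
        intro x
        obtain ⟨m, hm, b, hb, hx⟩ := (mem_sup_iff_of_normalizes hAM).1 x.2
        have e1 : x = Subgroup.inclusion hMM' ⟨m, hm⟩ * Subgroup.inclusion hAM' ⟨b, hb⟩ :=
          Subtype.ext hx.symm
        have e2 : e x = Subgroup.inclusion hMM' ⟨_, h.conj_mem s hs m hm⟩ *
            Subgroup.inclusion hAM' ⟨b, hb⟩ := Subtype.ext (by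
          have hcs := Subgroup.mem_centralizer_iff.1 (hAS hb) s hs
          show s * (x : G) * s⁻¹ = s * m * s⁻¹ * b
          rw [← hx, show s * (m * b) * s⁻¹ = s * m * s⁻¹ * (s * b * s⁻¹) by group, hcs,
            mul_inv_cancel_right])
        rw [e2, map_mul, hμ ⟨_, h.conj_mem s hs m hm⟩]
        conv_rhs => rw [e1, map_mul, hμ ⟨Subgroup.inclusion hMM' ⟨m, hm⟩, hm⟩]
      have hiter : ∀ (k : ℕ) (x : M'),
          (η : M' → ℂ) ((e : M' → M')^[k] x) = (η : M' → ℂ) x * (μ x : ℂ) ^ k := by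
        intro k
        induction k with
        | zero => intro x; simp
        | succ k ih =>
          intro x
          rw [Function.iterate_succ_apply, ih, hμe, pow_succ,
            show (η : M' → ℂ) (e x) = (η' : M' → ℂ) x from rfl, congrFun hμeq x]
          ring
      obtain ⟨n, hn⟩ := h.pgroup ⟨s, hs⟩
      have hs1 : s ^ p ^ n = 1 := congrArg Subtype.val hn
      have hit : ∀ (k : ℕ) (x : M'), (((e : M' → M')^[k] x : M') : G) = s ^ k * x * (s ^ k)⁻¹ := by
        intro k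
        induction k with
        | zero => intro x; simp
        | succ k ih =>
          intro x
          rw [Function.iterate_succ_apply', show ∀ y : M', ((e y : M') : G) = s * y * s⁻¹ from
            fun _ => rfl, ih]
          rw [pow_succ']
          group
      have hpw : μ ^ p ^ n = 1 := by
        refine CfsgLib.LinearTwist.hom_eq_of_mul_eq (M.subgroupOf M') (irr_isCharacter η)
          (res_irr_of_ext hMM' (ε := η) hres) _ _ (fun k => by
            rw [MonoidHom.pow_apply, hμ k, one_pow, MonoidHom.one_apply]) fun x => ?_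
        rw [MonoidHom.pow_apply, Units.val_pow_eq_pow_val, ← hiter, MonoidHom.one_apply,
          Units.val_one, mul_one]
        exact congrArg (η : M' → ℂ) (Subtype.ext (by rw [hit, hs1]; simp))
      have hcard : μ ^ Nat.card M' = 1 := MonoidHom.ext fun x => by
        rw [MonoidHom.pow_apply, ← map_pow, pow_card_eq_one', map_one, MonoidHom.one_apply]
      have hμ1 : μ = 1 := by
        refine MonoidHom.ext fun x => ?_
        have h1 := (pow_gcd_eq_one (a := μ x)).2 ⟨(MonoidHom.pow_apply _ _ _).symm.trans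
          (DFunLike.congr_fun hpw x), (MonoidHom.pow_apply _ _ _).symm.trans
          (DFunLike.congr_fun hcard x)⟩
        rwa [Nat.Coprime.gcd_eq_one ((h.prime.coprime_iff_not_dvd.2 hs'.coprime).pow_left n),
          pow_one] at h1
      intro l l' e0
      rw [show l' = e l from Subtype.ext e0, show (η : M' → ℂ) (e l) = (η' : M' → ℂ) l from rfl,
        congrFun hμeq l, hμ1, MonoidHom.one_apply, Units.val_one, mul_one]
    obtain ⟨ξ, hξ, -⟩ := hs'.existsUnique_corr hηS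
    have hξY : ∀ y ∈ Y, CInv A.subtype ξ y := by
      intro y hy
      have hyM' : y ∈ Subgroup.normalizer (M' : Set G) :=
        ((le_inf hYM hYA).trans (Subgroup.normalizer_inf_normalizer_le_normalizer_sup M A)) hy
      refine (hs'.cinv_iff hyM' (hYS hy) hηS hξ).1 fun l l' e0 => ?_
      exact (congrArg (χ : X → ℂ) (Subtype.ext (by simpa [i] using e0))).trans
        (irr_isClassFunction χ (i l) ⟨y, Subgroup.mem_sup_right hy⟩)
    have hψA : ∀ b ∈ A, CInv C.subtype ψ b := fun b hb =>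
      (h.cinv_iff (hAM hb) (hYS (hAY hb)) hθ hcorr).1 (hθY b (hAY hb))
    have hover : Over (Subgroup.inclusion hCA) ψ ξ := by
      intro h0
      apply hcorr
      have h1 : mult ((Subgroup.inclusion hs'.le).comp (Subgroup.inclusion hCA)) η ψ =
          mult (Subgroup.inclusion h.le) θ ψ := by
        refine mult_eq_of_classInner_eq _ _ _ ?_
        rw [← mult_spec (Subgroup.inclusion h.le) θ ψ]
        congr 1
        funext c
        exact hres ⟨c, h.le c.2⟩
      rw [← h1, CfsgLib.CharCorrQ.mult_comp]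
      refine Finset.dvd_sum fun ζ _ => ?_
      by_cases hζ : ζ = ξ
      · rw [hζ, h0, mul_zero]; exact dvd_zero p
      · exact Dvd.dvd.mul_right (by_contra fun hc => hζ (hs'.corr_unique hηS hc hξ)) _
    have hξC : ∀ c : C, (ξ : A → ℂ) (Subgroup.inclusion hCA c) = (ψ : C → ℂ) c := by
      refine res_eq_of_twists hCA hAC habA hψA hover fun μ μ' hμ hμ' e => ?_
      -- lift the twists to `M'`
      haveI := normal_subgroupOf_of_le hM'n
      haveI := normal_subgroupOf_of_le hAC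
      let f : A →* M' ⧸ M.subgroupOf M' :=
        (QuotientGroup.mk' _).comp (Subgroup.inclusion hAM')
      have hf : Function.Surjective f := by
        intro q
        obtain ⟨⟨x, hx⟩, rfl⟩ := QuotientGroup.mk_surjective q
        obtain ⟨m, hm, b, hb, rfl⟩ := (mem_sup_iff_of_normalizes hAM).1 hx
        refine ⟨⟨b, hb⟩, ?_⟩
        show (QuotientGroup.mk _ : M' ⧸ M.subgroupOf M') = QuotientGroup.mk _
        rw [QuotientGroup.eq, Subgroup.mem_subgroupOf]
        show b⁻¹ * (m * b) ∈ M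
        have h1 := (Subgroup.mem_normalizer_iff.1 (hAM (A.inv_mem hb)) m).1 hm
        simpa [mul_assoc] using h1
      have hker : ∀ ν : A →* ℂˣ, (∀ c : C, ν (Subgroup.inclusion hCA c) = 1) → f.ker ≤ ν.ker := by
        intro ν hν x hx
        have hxM : (x : G) ∈ M :=
          (QuotientGroup.eq_one_iff (N := M.subgroupOf M') (Subgroup.inclusion hAM' x)).1 hx
        have hxC : (x : G) ∈ C := h.fixed ▸ ⟨hxM, hAS x.2⟩
        exact hν ⟨x, hxC⟩
      let L := fun (ν : A →* ℂˣ) (hν : ∀ c : C, ν (Subgroup.inclusion hCA c) = 1) =>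
        (f.liftOfSurjective hf ⟨ν, hker ν hν⟩).comp (QuotientGroup.mk' (M.subgroupOf M'))
      have hL : ∀ ν hν (x : A), L ν hν (Subgroup.inclusion hAM' x) = ν x := fun ν hν x =>
        MonoidHom.liftOfRightInverse_comp_apply f _ (Function.rightInverse_surjInv hf) ⟨ν, hker ν hν⟩ x
      have hLM : ∀ ν hν (k : M), L ν hν (Subgroup.inclusion hMM' k) = 1 := fun ν hν k => by
        show (f.liftOfSurjective hf ⟨ν, hker ν hν⟩) (QuotientGroup.mk' _ _) = 1
        rw [show QuotientGroup.mk' (M.subgroupOf M') (Subgroup.inclusion hMM' k) = 1 from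
          (QuotientGroup.eq_one_iff _).2 (show ((k : M) : G) ∈ M from k.2), map_one]
      have h2 := (hpair η ξ hηS hξ (L μ hμ) (L μ' hμ') (hLM μ hμ) (hLM μ' hμ')).1
        (fun x => by rw [hL μ hμ, hL μ' hμ']; exact e x)
      have h3 := CfsgLib.LinearTwist.hom_eq_of_mul_eq (M.subgroupOf M') (irr_isCharacter η)
        (res_irr_of_ext hMM' (ε := η) hres) _ _
        (fun k => (hLM μ hμ ⟨k, k.2⟩).trans (hLM μ' hμ' ⟨k, k.2⟩).symm) h2
      exact MonoidHom.ext fun x => by rw [← hL μ hμ x, ← hL μ' hμ' x, h3]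
    obtain ⟨ζ, hζ⟩ := ext_cyclic haA (η := ξ) hY (hξY a ha)
    exact ⟨ζ, fun c hc => (hζ (Subgroup.inclusion hCA c) hc).trans (hξC c)⟩
  · rintro ⟨ζ, hζ⟩
    have hAn : A ≤ Subgroup.normalizer (C : Set G) := hAC
    let i : A →* Y := Subgroup.inclusion hAY
    have hresC : ∀ c : C, (ζ : Y → ℂ) (i (Subgroup.inclusion hCA c)) = (ψ : C → ℂ) c :=
      fun c => hζ c _
    let ξ : IrrCharacter A := ⟨_, inv_irr_of_ext hCA hAn (η := ψ)
      (isCharacter_comp (irr_isCharacter ζ) i) hresC⟩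
    obtain ⟨η, hηS, hc⟩ := hs'.exists_of_fixed_char ξ
    have hηa : CInv M'.subtype η a := by
      refine (hs'.cinv_iff haM' (hYS ha) hηS hc).2 fun l l' e0 => ?_
      exact (congrArg (ζ : Y → ℂ) (Subtype.ext (by simpa [i] using e0))).trans
        (irr_isClassFunction ζ (i l) ⟨a, ha⟩)
    have hθA : ∀ b ∈ M', CInv M.subtype θ b := by
      intro x hx
      obtain ⟨m, hm, b, hb, rfl⟩ := (mem_sup_iff_of_normalizes hAM).1 hx
      intro l l' e
      have hψb : CInv C.subtype ψ b :=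
        CInv.of_ext ⟨ζ, hζ⟩ (hCA.trans hAY) (hAY hb)
      have hθb := (h.cinv_iff (hAM hb) (hYS (hAY hb)) hθ hcorr).2 hψb
      have h1 : b * (l : G) * b⁻¹ ∈ M := (Subgroup.mem_normalizer_iff.1 (hAM hb) l).1 l.2
      have e' : (l' : G) = m * b * l * (m * b)⁻¹ := e
      rw [← hθb l ⟨_, h1⟩ rfl]
      exact cinv_of_mem hm ⟨_, h1⟩ l' (show (l' : G) = m * (b * l * b⁻¹) * m⁻¹ by rw [e']; group)
    have hover : Over (Subgroup.inclusion hMM') θ η := by
      refine CfsgLib.CharCorr.classInner_ne_zero_of_corr h.prime h.pgroup hs'.isFixedHom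
        h.isFixedHom (Subgroup.inclusion hMM') (Subgroup.inclusion hCA) (fun _ => rfl)
        (fun s n => Subtype.ext rfl) hs'.coprime h.coprime ((hs'.inv_iff η).2 hηS) hc
        ((h.inv_iff θ).2 hθ) hcorr ?_
      rw [mult_eq_of_classInner_eq (Subgroup.inclusion hCA) ξ ψ (n := 1) (by
        rw [show ((ξ : A → ℂ) ∘ Subgroup.inclusion hCA) = (ψ : C → ℂ) from funext hresC,
          classInner_irr_self ψ.2, Nat.cast_one])]
      exact h.prime.not_dvd_one
    have hηM : ∀ k : M, (η : M' → ℂ) (Subgroup.inclusion hMM' k) = (θ : M → ℂ) k := by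
      refine res_eq_of_twists hMM' hM'n habM' hθA hover fun μ μ' hμ hμ' e => ?_
      have h2 := (hpair η ξ hηS hc μ μ' hμ hμ').2 e
      haveI := normal_subgroupOf_of_le hAn
      have h3 := CfsgLib.LinearTwist.hom_eq_of_mul_eq (C.subgroupOf A) (irr_isCharacter ξ)
        (res_irr_of_ext hCA (ε := ξ) hresC) (μ.comp (Subgroup.inclusion hAM'))
        (μ'.comp (Subgroup.inclusion hAM'))
        (fun k => (hμ ⟨k, h.le k.2⟩).trans (hμ' ⟨k, h.le k.2⟩).symm) h2
      refine MonoidHom.ext fun x => ?_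
      obtain ⟨m, hm, b, hb, hx⟩ := (mem_sup_iff_of_normalizes hAM).1 x.2
      rw [show x = Subgroup.inclusion hMM' ⟨m, hm⟩ * Subgroup.inclusion hAM' ⟨b, hb⟩ from
        Subtype.ext hx.symm, map_mul, map_mul, hμ, hμ']
      exact congrArg (1 * ·) (DFunLike.congr_fun h3 ⟨b, hb⟩)
    obtain ⟨χ, hχ⟩ := ext_cyclic haM' (η := η) hMY hηa
    exact ⟨χ, fun k hk => (hχ (Subgroup.inclusion hMM' k) hk).trans (hηM k)⟩

/-- **Corresponding characters extend together.** -/
theorem ext_corr : ∀ (n : ℕ) (M : Subgroup G) [Fintype M] [Fintype C], Nat.card M = n →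
    ∀ (h : FixSetting p S M C) (Y : Subgroup G), ¬ p ∣ Nat.card Y →
    Y ≤ Subgroup.normalizer (M : Set G) → Y ≤ Subgroup.normalizer (S : Set G) → C ≤ Y →
    (∀ y ∈ Y, ∀ z ∈ Y, y * z * y⁻¹ * z⁻¹ ∈ C) →
    ∀ (θ : IrrCharacter M), (∀ s ∈ S, CInv M.subtype θ s) → ∀ ψ : IrrCharacter C,
      Corr p h.le θ ψ → (Ext θ (M ⊔ Y) ↔ Ext ψ Y) := by
  classical
  intro n
  induction n using Nat.strong_induction_on with
  | _ n ih =>
  intro M _ _ hn h Y hYp hYM hYS hCY hcomm θ hθ ψ hcorr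
  haveI : Fact p.Prime := ⟨h.prime⟩
  by_cases hMC : M ≤ C
  · have hMeq : M = C := le_antisymm hMC h.le
    subst hMeq
    have hθψ : θ = ψ := by
      by_contra hne
      apply hcorr
      rw [mult_eq_of_classInner_eq (Subgroup.inclusion h.le) θ ψ (n := 0) (by
        rw [show ((θ : M → ℂ) ∘ Subgroup.inclusion h.le) = (θ : M → ℂ) from rfl, classInner_irr,
          if_neg hne, Nat.cast_zero])]
      exact dvd_zero p
    rw [sup_eq_right.2 hCY, hθψ]
  -- the part of `S` centralising `M`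
  set R := S ⊓ Subgroup.centralizer (M : Set G) with hR
  have hcentM : ∀ g ∈ Subgroup.normalizer (M : Set G), ∀ x ∈ Subgroup.centralizer (M : Set G),
      g * x * g⁻¹ ∈ Subgroup.centralizer (M : Set G) := fun g hg x hx => by
    rw [Subgroup.mem_centralizer_iff] at hx ⊢
    intro m hm
    have h1 : g⁻¹ * m * g ∈ M := by
      simpa using (Subgroup.mem_normalizer_iff.1 (Subgroup.inv_mem _ hg) m).1 hm
    have h2 := hx _ h1
    calc m * (g * x * g⁻¹) = g * (g⁻¹ * m * g * x) * g⁻¹ := by group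
      _ = g * (x * (g⁻¹ * m * g)) * g⁻¹ := by rw [h2]
      _ = g * x * g⁻¹ * m := by group
  have hnorm : ∀ U : Subgroup G, ∀ T : Subgroup G,
      (∀ t ∈ T, ∀ x ∈ U, t * x * t⁻¹ ∈ U) → T ≤ Subgroup.normalizer (U : Set G) := by
    intro U T hTU t ht
    rw [Subgroup.mem_normalizer_iff]
    refine fun x => ⟨hTU t ht x, fun hx => ?_⟩
    simpa [mul_assoc] using hTU t⁻¹ (T.inv_mem ht) _ hx
  have hSR : S ≤ Subgroup.normalizer (R : Set G) := hnorm R S fun t ht x hx =>
    ⟨S.mul_mem (S.mul_mem ht hx.1) (S.inv_mem ht), hcentM t (h.normalizes ht) x hx.2⟩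
  have hYR : Y ≤ Subgroup.normalizer (R : Set G) := hnorm R Y fun t ht x hx =>
    ⟨(Subgroup.mem_normalizer_iff.1 (hYS ht) x).1 hx.1, hcentM t (hYM ht) x hx.2⟩
  have hRne : R ≠ S := by
    intro hRS
    apply hMC
    rw [h.fixed]
    intro m hm
    refine ⟨hm, Subgroup.mem_centralizer_iff.2 fun s hs => ?_⟩
    exact (Subgroup.mem_centralizer_iff.1 ((hRS ▸ hs : s ∈ R)).2 m hm).symm
  let Cand := {U : Subgroup G | R < U ∧ U ≤ S ∧ S ≤ Subgroup.normalizer (U : Set G) ∧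
    Y ≤ Subgroup.normalizer (U : Set G)}
  obtain ⟨S₁, hS₁, hmin⟩ := (Set.toFinite Cand).exists_minimal
    ⟨S, lt_of_le_of_ne inf_le_left hRne, le_rfl, Subgroup.le_normalizer, hYS⟩
  obtain ⟨hRS₁, hS₁S, hSS₁, hYS₁⟩ := hS₁
  -- `S` centralises `S₁ / R`
  have hcentral : ∀ s ∈ S, ∀ x ∈ S₁, s * x * s⁻¹ * x⁻¹ ∈ R := by
    haveI : (R.subgroupOf S).Normal := normal_subgroupOf_of_le hSR
    haveI : (S₁.subgroupOf S).Normal := normal_subgroupOf_of_le hSS₁
    let q : S →* S ⧸ R.subgroupOf S := QuotientGroup.mk' _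
    let U : Subgroup (S ⧸ R.subgroupOf S) := (S₁.subgroupOf S).map q
    haveI : U.Normal := Subgroup.Normal.map inferInstance q (QuotientGroup.mk'_surjective _)
    let V : Subgroup G := ((U ⊓ Subgroup.center (S ⧸ R.subgroupOf S)).comap q).map S.subtype
    have hmemV : ∀ x : G, x ∈ V ↔ ∃ hx : x ∈ S, x ∈ S₁ ∧ ∀ s ∈ S, s * x * s⁻¹ * x⁻¹ ∈ R := by
      intro x
      constructor
      · rintro ⟨⟨x, hx⟩, ⟨hU, hZ⟩, rfl⟩
        refine ⟨hx, ?_, fun s hs => ?_⟩
        · obtain ⟨⟨z, hz⟩, hzS, hze⟩ := hU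
          have h1 : z⁻¹ * x ∈ R := (QuotientGroup.eq (s := R.subgroupOf S)).1 hze
          show x ∈ S₁
          rw [show x = z * (z⁻¹ * x) by group]
          exact S₁.mul_mem hzS (hRS₁.le h1)
        · have h1 := Subgroup.mem_center_iff.1 hZ (q ⟨s, hs⟩)
          rw [← map_mul, ← map_mul] at h1
          have h2 : (s * x)⁻¹ * (x * s) ∈ R := (QuotientGroup.eq (s := R.subgroupOf S)).1 h1
          have h3 := (Subgroup.mem_normalizer_iff.1 (hSR (S.mul_mem hs hx)) _).1 (R.inv_mem h2)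
          simpa [mul_assoc] using h3
      · rintro ⟨hx, hx1, hc⟩
        refine ⟨⟨x, hx⟩, ⟨⟨⟨x, hx⟩, hx1, rfl⟩, Subgroup.mem_center_iff.2 fun t => ?_⟩, rfl⟩
        obtain ⟨⟨s, hs⟩, rfl⟩ := QuotientGroup.mk'_surjective _ t
        show q _ * q _ = q _ * q _
        rw [← map_mul, ← map_mul]
        refine QuotientGroup.eq.2 ?_
        show (s * x)⁻¹ * (x * s) ∈ R
        have h3 := (Subgroup.mem_normalizer_iff.1 (hSR (S.inv_mem (S.mul_mem hs hx))) _).1
          (R.inv_mem (hc s hs))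
        simpa [mul_assoc] using h3
    have hVS₁ : V ≤ S₁ := fun x hx => by obtain ⟨-, h1, -⟩ := (hmemV x).1 hx; exact h1
    have hVS : V ≤ S := hVS₁.trans hS₁S
    have hRV : R ≤ V := fun x hx => (hmemV x).2 ⟨hx.1, hRS₁.le hx, fun s hs =>
      R.mul_mem ((Subgroup.mem_normalizer_iff.1 (hSR hs) x).1 hx) (R.inv_mem hx)⟩
    have hVlt : R < V := by
      refine lt_of_le_of_ne hRV fun hRV' => ?_
      haveI : Finite (S ⧸ R.subgroupOf S) := inferInstance
      have hP : IsPGroup p (S ⧸ R.subgroupOf S) := h.pgroup.to_quotient _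
      let act : MulAction (ConjAct (S ⧸ R.subgroupOf S)) U := inferInstance
      have hUne : U ≠ ⊥ := by
        intro hU
        apply hRS₁.2
        intro x hx
        have h1 : q ⟨x, hS₁S hx⟩ ∈ U := ⟨⟨x, hS₁S hx⟩, hx, rfl⟩
        rw [hU, Subgroup.mem_bot] at h1
        exact (QuotientGroup.eq_one_iff (⟨x, hS₁S hx⟩ : S)).1 h1
      haveI : Nontrivial U := U.nontrivial_iff_ne_bot.2 hUne
      obtain ⟨k, hk0, hk⟩ := (hP.to_subgroup U).nontrivial_iff_card.1 inferInstance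
      obtain ⟨u, hu, hu1⟩ := (hP.of_equiv ConjAct.toConjAct).exists_fixed_point_of_prime_dvd_card_of_fixed_point
        U (by rw [hk]; exact dvd_pow_self p hk0.ne') (a := 1) (fun g => smul_one g)
      have hucent : (u : S ⧸ R.subgroupOf S) ∈ Subgroup.center _ :=
        Subgroup.mem_center_iff.2 fun t => by
          have h1 := congrArg Subtype.val (hu (ConjAct.toConjAct t))
          rw [ConjAct.Subgroup.val_conj_smul, ConjAct.smul_def, ConjAct.ofConjAct_toConjAct] at h1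
          exact mul_inv_eq_iff_eq_mul.1 h1
      obtain ⟨x, hx⟩ := QuotientGroup.mk'_surjective _ (u : S ⧸ R.subgroupOf S)
      have hxV : (x : G) ∈ V := ⟨x, ⟨by rw [show q x = _ from hx]; exact u.2,
        by rw [show q x = _ from hx]; exact hucent⟩, rfl⟩
      rw [← hRV'] at hxV
      refine hu1 (Subtype.ext ?_)
      rw [← hx]
      exact ((QuotientGroup.eq_one_iff x).2 hxV).symm
    have hSV : S ≤ Subgroup.normalizer (V : Set G) := hnorm V S fun t ht x hx => by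
      obtain ⟨-, hx1, hc⟩ := (hmemV x).1 hx
      rw [show t * x * t⁻¹ = (t * x * t⁻¹ * x⁻¹) * x by group]
      exact V.mul_mem (hRV (hc t ht)) hx
    have hYV : Y ≤ Subgroup.normalizer (V : Set G) := hnorm V Y fun t ht x hx => by
      obtain ⟨hxS, hx1, hc⟩ := (hmemV x).1 hx
      refine (hmemV _).2 ⟨(Subgroup.mem_normalizer_iff.1 (hYS ht) x).1 hxS,
        (Subgroup.mem_normalizer_iff.1 (hYS₁ ht) x).1 hx1, fun s hs => ?_⟩
      have hs' : t⁻¹ * s * t ∈ S := by
        simpa using (Subgroup.mem_normalizer_iff.1 (hYS (Y.inv_mem ht)) s).1 hs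
      rw [show s * (t * x * t⁻¹) * s⁻¹ * (t * x * t⁻¹)⁻¹ =
        t * ((t⁻¹ * s * t) * x * (t⁻¹ * s * t)⁻¹ * x⁻¹) * t⁻¹ by group]
      exact (Subgroup.mem_normalizer_iff.1 (hYR ht) _).1 (hc _ hs')
    intro s hs x hx
    have hVeq : V = S₁ := le_antisymm hVS₁ (hmin ⟨hVlt, hVS, hSV, hYV⟩ hVS₁)
    obtain ⟨-, -, hc⟩ := (hmemV x).1 (hVeq ▸ hx)
    exact hc s hs
  obtain ⟨A₀, hA₀, a, ha, hgen⟩ := exists_cyclic_layer S₁ R Y hRS₁.le hRS₁.ne hYS₁ hYR
    (hS₁S.trans hSR) (fun s hs t ht => hcentral s (hS₁S hs) t ht)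
    (fun y hy z hz s hs => by
      have hc : y * z * y⁻¹ * z⁻¹ ∈ C := hcomm y hy z hz
      have hw : (z * y) * s * (z * y)⁻¹ ∈ S :=
        (Subgroup.mem_normalizer_iff.1 (hYS (Y.mul_mem hz hy)) s).1 (hS₁S hs)
      have h2 := Subgroup.mem_centralizer_iff.1 (h.le_centralizer hc) _ hw
      rw [show y * z * s * (y * z)⁻¹ =
        (y * z * y⁻¹ * z⁻¹) * ((z * y) * s * (z * y)⁻¹) * (y * z * y⁻¹ * z⁻¹)⁻¹ by group, ← h2]
      convert R.one_mem using 1
      group)
    (fun V hRV hVS hYV => by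
      by_cases hV : V = R
      · exact Or.inl hV
      refine Or.inr (le_antisymm hVS (hmin
        ⟨lt_of_le_of_ne hRV (Ne.symm hV), hVS.trans hS₁S, ?_, hYV⟩ hVS))
      refine hnorm V S fun t ht x hx => ?_
      rw [show t * x * t⁻¹ = (t * x * t⁻¹ * x⁻¹) * x by group]
      exact V.mul_mem (hRV (hcentral t ht x (hVS hx))) hx)
  set A := S₁ ⊓ Subgroup.centralizer (A₀ : Set G) with hA
  have hA₀Y : A₀ ≤ Y := fun y hy => ((hA₀ y).1 hy).1
  have hS₁A : ∀ s ∈ S₁, ∃ c ∈ A, s⁻¹ * c ∈ R := by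
    intro s hs
    haveI : Group.IsNilpotent S₁ := (h.pgroup.to_le hS₁S).isNilpotent
    obtain ⟨k, hk⟩ := IsPGroup.iff_card.1 (h.pgroup.to_le hS₁S)
    refine CfsgLib.Coprime.exists_centralizing_rep A₀ S₁ (hA₀Y.trans hYS₁) ?_
      (Or.inr inferInstance) R hRS₁.le (hA₀Y.trans hYR) hs fun b hb => ?_
    · rw [hk]
      refine Nat.Coprime.pow_right k (Nat.Coprime.symm ((h.prime.coprime_iff_not_dvd).2 fun hd =>
        hYp (hd.trans (Subgroup.card_dvd_of_le hA₀Y))))
    · have h1 := ((hA₀ b).1 hb).2 s hs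
      have h2 := (Subgroup.mem_normalizer_iff.1 (hSR (S.inv_mem (hS₁S hs))) _).1 h1
      simpa [mul_assoc] using h2
  have hCA₀ : C ≤ A₀ := fun c hc => (hA₀ c).2 ⟨hCY hc, fun s hs => by
    rw [← Subgroup.mem_centralizer_iff.1 (h.le_centralizer hc) s (hS₁S hs), mul_inv_cancel_right,
      mul_inv_cancel]
    exact R.one_mem⟩
  have hYA₀ : Y ≤ Subgroup.normalizer (A₀ : Set G) := hnorm A₀ Y fun t ht b hb => by
    refine (hA₀ _).2 ⟨Y.mul_mem (Y.mul_mem ht (hA₀Y hb)) (Y.inv_mem ht), fun s hs => ?_⟩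
    have hs' : t⁻¹ * s * t ∈ S₁ := by
      simpa using (Subgroup.mem_normalizer_iff.1 (hYS₁ (Y.inv_mem ht)) s).1 hs
    rw [show (t * b * t⁻¹) * s * (t * b * t⁻¹)⁻¹ * s⁻¹ =
      t * (b * (t⁻¹ * s * t) * b⁻¹ * (t⁻¹ * s * t)⁻¹) * t⁻¹ by group]
    exact (Subgroup.mem_normalizer_iff.1 (hYR ht) _).1 (((hA₀ b).1 hb).2 _ hs')
  have hYAA : Y ≤ Subgroup.normalizer (A : Set G) := hnorm A Y fun t ht x hx =>
    ⟨(Subgroup.mem_normalizer_iff.1 (hYS₁ ht) x).1 hx.1, Subgroup.mem_centralizer_iff.2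
      fun b hb => by
        have h1 : t⁻¹ * b * t ∈ A₀ := by
          simpa using (Subgroup.mem_normalizer_iff.1 (hYA₀ (Y.inv_mem ht)) b).1 hb
        have h2 := Subgroup.mem_centralizer_iff.1 hx.2 _ h1
        calc b * (t * x * t⁻¹) = t * (t⁻¹ * b * t * x) * t⁻¹ := by group
          _ = t * (x * (t⁻¹ * b * t)) * t⁻¹ := by rw [h2]
          _ = t * x * t⁻¹ * b := by group⟩
  set C₁ := M ⊓ Subgroup.centralizer (A : Set G) with hC₁
  haveI : Fintype C₁ := Fintype.ofFinite _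
  have hAS : A ≤ S := inf_le_left.trans hS₁S
  have h₁ : FixSetting p A M C₁ :=
    { prime := h.prime
      pgroup := h.pgroup.to_le hAS
      coprime := h.coprime
      normalizes := hAS.trans h.normalizes
      fixed := rfl }
  have hC₁S₁ : ∀ x ∈ C₁, ∀ s ∈ S₁, s * x = x * s := by
    intro x hx s hs
    obtain ⟨c, hc, hcR⟩ := hS₁A s hs
    have h1 := Subgroup.mem_centralizer_iff.1 hx.2 c hc
    have h2 := Subgroup.mem_centralizer_iff.1 (inv_mem hcR.2) x hx.1
    calc s * x = c * ((s⁻¹ * c)⁻¹ * x) := by group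
      _ = c * (x * (s⁻¹ * c)⁻¹) := by rw [h2]
      _ = (c * x) * (s⁻¹ * c)⁻¹ := by group
      _ = (x * c) * (s⁻¹ * c)⁻¹ := by rw [h1]
      _ = x * s := by group
  have hCC₁ : C ≤ C₁ := fun c hc => ⟨h.le hc, Subgroup.mem_centralizer_iff.2 fun x hx =>
    Subgroup.mem_centralizer_iff.1 (h.le_centralizer hc) x (hAS hx)⟩
  have hC₁lt : Nat.card C₁ < Nat.card M := by
    refine lt_of_le_of_ne (Nat.le_of_dvd Nat.card_pos (Subgroup.card_dvd_of_le inf_le_left))
      fun he => hRS₁.2 fun s hs => ?_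
    have hCM : C₁ = M := Subgroup.eq_of_le_of_card_ge inf_le_left he.ge
    exact ⟨hS₁S hs, Subgroup.mem_centralizer_iff.2 fun x hx =>
      (hC₁S₁ x (hCM ▸ hx) s hs).symm⟩
  have hSC₁ : S ≤ Subgroup.normalizer (C₁ : Set G) := hnorm C₁ S fun t ht x hx =>
    ⟨(Subgroup.mem_normalizer_iff.1 (h.normalizes ht) x).1 hx.1, Subgroup.mem_centralizer_iff.2
      fun b hb => by
        have h1 : t⁻¹ * b * t ∈ S₁ := by
          simpa using (Subgroup.mem_normalizer_iff.1 (hSS₁ (S.inv_mem ht)) b).1 hb.1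
        have h2 := hC₁S₁ x hx _ h1
        calc b * (t * x * t⁻¹) = t * (t⁻¹ * b * t * x) * t⁻¹ := by group
          _ = t * (x * (t⁻¹ * b * t)) * t⁻¹ := by rw [h2]
          _ = t * x * t⁻¹ * b := by group⟩
  have hYC₁ : Y ≤ Subgroup.normalizer (C₁ : Set G) := fun y hy =>
    h₁.normalizer_fixed (hYM hy) (hYAA hy)
  obtain ⟨θ₁, hθ₁, -⟩ := h₁.existsUnique_corr fun x hx => hθ x (hAS hx)
  have hθ₁S : ∀ s ∈ S, CInv C₁.subtype θ₁ s := by
    intro s hs
    have hsM := h.normalizes hs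
    -- `S` need not normalise `A`; use that it normalises `S₁`, with the same fixed part
    have h₁' : FixSetting p S₁ M C₁ :=
      { prime := h.prime
        pgroup := h.pgroup.to_le hS₁S
        coprime := h.coprime
        normalizes := hS₁S.trans h.normalizes
        fixed := le_antisymm (fun x hx => ⟨hx.1, Subgroup.mem_centralizer_iff.2
          fun b hb => hC₁S₁ x hx b hb⟩) (fun x hx => ⟨hx.1, Subgroup.mem_centralizer_iff.2
          fun b hb => Subgroup.mem_centralizer_iff.1 hx.2 b hb.1⟩) }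
    exact (h₁'.cinv_iff hsM (hSS₁ hs) (fun x hx => hθ x (hS₁S hx)) hθ₁).1 (hθ s hs)
  have h₂ : FixSetting p S C₁ C :=
    { prime := h.prime
      pgroup := h.pgroup
      coprime := fun hd => h.coprime (hd.trans (Subgroup.card_dvd_of_le inf_le_left))
      normalizes := hSC₁
      fixed := le_antisymm (le_inf hCC₁ h.le_centralizer) (fun x hx => by
        rw [h.fixed]; exact ⟨hx.1.1, hx.2⟩) }
  obtain ⟨ψ₁, hψ₁, -⟩ := h₂.existsUnique_corr hθ₁S
  have hψeq : ψ₁ = ψ := h.corr_unique hθ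
    (h.corr_trans h₁ hCC₁ (fun x hx => hθ x (hAS hx)) hθ₁ hψ₁) hcorr
  rw [← hψeq]
  refine Iff.trans ?_ (ih _ (hn ▸ hC₁lt) C₁ rfl h₂ Y hYp hYC₁ hYS hCY hcomm θ₁ hθ₁S ψ₁ hψ₁)
  -- the cyclic step
  set Y₁ := C₁ ⊔ Y with hY₁
  have hmem₁ : ∀ x, x ∈ Y₁ ↔ ∃ c ∈ C₁, ∃ y ∈ Y, c * y = x := fun x =>
    mem_sup_iff_of_normalizes hYC₁
  have hMY₁ : M ⊔ Y = M ⊔ Y₁ := by
    rw [hY₁, ← sup_assoc, sup_eq_left.2 (inf_le_left : C₁ ≤ M)]
  rw [hMY₁]
  have hC₁A : C₁ ≤ Subgroup.normalizer (A : Set G) :=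
    inf_le_right.trans (Subgroup.centralizer_le_normalizer _)
  have hA₁cen : C₁ ⊔ A₀ ≤ Subgroup.centralizer (A : Set G) :=
    sup_le inf_le_right fun b hb => Subgroup.mem_centralizer_iff.2 fun x hx =>
      (Subgroup.mem_centralizer_iff.1 hx.2 b hb).symm
  refine ext_corr_step h₁ (Y := Y₁) (A := C₁ ⊔ A₀)
    (not_dvd_card_sup h.prime hYC₁
      (fun hd => h.coprime (hd.trans (Subgroup.card_dvd_of_le inf_le_left))) hYp)
    (sup_le (inf_le_left.trans Subgroup.le_normalizer) hYM) (sup_le hC₁A hYAA) le_sup_left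
    (sup_le_sup_left hA₀Y _) hA₁cen ?_ (Subgroup.mem_sup_right ha) ?_ ?_
    (fun x hx => hθ x (hAS hx)) hθ₁
  · refine sup_le (le_sup_left.trans Subgroup.le_normalizer) ?_
    exact (le_inf hYC₁ hYA₀).trans
      (Subgroup.normalizer_inf_normalizer_le_normalizer_sup C₁ A₀)
  · intro x hx
    obtain ⟨c, hc, y, hy, rfl⟩ := (hmem₁ x).1 hx
    obtain ⟨i, hi⟩ := hgen y hy
    refine ⟨i, ?_⟩
    rw [mul_assoc]
    exact Subgroup.mul_mem_sup hc hi
  · intro y hy z hz
    haveI := normal_subgroupOf_of_le (sup_le Subgroup.le_normalizer hYC₁ : Y₁ ≤ _)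
    let q : Y₁ →* Y₁ ⧸ C₁.subgroupOf Y₁ := QuotientGroup.mk' _
    obtain ⟨c, hc, v, hv, rfl⟩ := (hmem₁ y).1 hy
    obtain ⟨d, hd, w, hw, rfl⟩ := (hmem₁ z).1 hz
    let iY : Y →* Y₁ := Subgroup.inclusion le_sup_right
    let cY : Y₁ := ⟨c, Subgroup.mem_sup_left hc⟩
    let dY : Y₁ := ⟨d, Subgroup.mem_sup_left hd⟩
    have e1 : q cY = 1 := (QuotientGroup.eq_one_iff _).2 hc
    have e2 : q dY = 1 := (QuotientGroup.eq_one_iff _).2 hd
    have h1 : q (cY * iY ⟨v, hv⟩ * (dY * iY ⟨w, hw⟩) * (cY * iY ⟨v, hv⟩)⁻¹ *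
        (dY * iY ⟨w, hw⟩)⁻¹) = q (iY (⟨v, hv⟩ * ⟨w, hw⟩ * ⟨v, hv⟩⁻¹ * ⟨w, hw⟩⁻¹)) := by
      simp only [map_mul, map_inv, e1, e2, one_mul]
    have h2 : q (iY (⟨v, hv⟩ * ⟨w, hw⟩ * ⟨v, hv⟩⁻¹ * ⟨w, hw⟩⁻¹)) = 1 :=
      (QuotientGroup.eq_one_iff _).2 (hCC₁ (hcomm v hv w hw))
    exact (QuotientGroup.eq_one_iff (N := C₁.subgroupOf Y₁)
      (cY * iY ⟨v, hv⟩ * (dY * iY ⟨w, hw⟩) * (cY * iY ⟨v, hv⟩)⁻¹ * (dY * iY ⟨w, hw⟩)⁻¹)).1
      (h1.trans h2)

end CfsgLib.RelMcKay
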