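import Cfsg.Agent.Lib.RelMcKay.Corr
import Cfsg.Agent.Lib.Blocks.PRational
import Cfsg.Agent.Lib.CharDeg.ResidualSum
import Cfsg.Agent.Lib.BlockCover.CentralDefectBlock

/-!
# Parametrising the characters of degree prime to `p` of `M S`

`S` is a `p`-group normalising the `p'`-group `M`. Such a character `η` restricts to an
`S`-invariant irreducible character `θ` of `M`, and is determined by `θ` and the linear character
`μ` of `S` with `det η = μ ^ θ(1)` on `S`.
-/

set_option autoImplicit false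
set_option linter.unusedSectionVars false
set_option linter.style.haveILetI false
set_option linter.unusedSimpArgs false

noncomputable section

namespace CfsgLib.RelMcKay

open Cfsg CfsgLib.Characters CfsgLib.CharCorr
open scoped ComplexConjugate

universe u

section Ratio

variable {p : ℕ} {G L : Type u} [Group G] [Group L] [Fintype G] [Fintype L] {j : L →* G}

/-- The degree ratio divides the index. -/
theorem ratio_dvd (hj : Function.Injective j) (hn : j.range.Normal) (ν : IrrCharacter L)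
    {χ : IrrCharacter G} (h : Over j ν χ) :
    mult j χ ν * (stab hj hn ν).index ∣ j.range.index := by
  haveI : Fintype j.range := Fintype.ofFinite _
  haveI := hn
  have h1 := (over_iff j ν χ).1 h
  rw [← classInner_range hj ν] at h1
  obtain ⟨k, hk, hdvd⟩ :=
    CfsgLib.Ramified.degree_ratio_dvd_index j.range χ.2 (rangeIrr hj ν).2 h1
  have h3 : (rangeIrr hj ν : j.range → ℂ) 1 = (ν : L → ℂ) 1 := by simp [rangeIrr]
  rw [h3, irr_one_eq_charDegree, irr_one_eq_charDegree, degree_eq hj hn ν h, ← Nat.cast_mul,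
    Nat.cast_inj] at hk
  rwa [Nat.mul_right_cancel (charDegree_irr_pos ν) hk]

/-- Over a character of degree prime to `p`, with index prime to `p`, all degrees are prime
to `p`. -/
theorem degree_prime_to (hp : p.Prime) (hj : Function.Injective j) (hn : j.range.Normal)
    (ν : IrrCharacter L) {χ : IrrCharacter G} (h : Over j ν χ)
    (hν : ¬ p ∣ charDegree (ν : L → ℂ)) (hidx : ¬ p ∣ j.range.index) :
    ¬ p ∣ charDegree (χ : G → ℂ) := by
  rw [degree_eq hj hn ν h]
  exact hp.not_dvd_mul (fun hd => hidx (hd.trans (ratio_dvd hj hn ν h))) hν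

end Ratio

variable {G : Type u} [Group G] [Fintype G] {p : ℕ} {S M K : Subgroup G}

/-- `g` carries `η` to `η'`. -/
def ConjTo (g : G) (η η' : IrrCharacter K) : Prop :=
  ∀ k k' : K, (k' : G) = g * k * g⁻¹ → (η : K → ℂ) k' = (η' : K → ℂ) k

theorem conjTo_iff {g : G} (hg : g ∈ Subgroup.normalizer (K : Set G)) (η η' : IrrCharacter K) :
    ConjTo g η η' ↔ twistIrr (conjEquiv K hg) η = η' := by
  constructor
  · intro h
    exact Subtype.ext (funext fun m => h m _ rfl)
  · intro h k k' e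
    rw [← h, show k' = conjEquiv K hg k from Subtype.ext e]
    rfl

/-- `K = M S` for a `p`-group `S` normalising the `p'`-group `M`. -/
structure Semi (p : ℕ) (S M K : Subgroup G) : Prop where
  prime : p.Prime
  pgroup : IsPGroup p S
  coprime : ¬ p ∣ Nat.card M
  normalizes : S ≤ Subgroup.normalizer (M : Set G)
  eq : K = M ⊔ S

/-- `η` is the character with parameters `θ` and `μ`. -/
structure Data (hM : M ≤ K) (hS : S ≤ K) (η : IrrCharacter K) (θ : IrrCharacter M)
    (μ : S →* ℂˣ) : Prop where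
  res : ∀ m : M, (η : K → ℂ) (Subgroup.inclusion hM m) = (θ : M → ℂ) m
  det : ∀ s : S, detChar (η : K → ℂ) (Subgroup.inclusion hS s) =
    (μ s : ℂ) ^ charDegree (θ : M → ℂ)

namespace Semi

variable (h : Semi p S M K)

include h

theorem hM : M ≤ K := h.eq ▸ le_sup_left

theorem hS : S ≤ K := h.eq ▸ le_sup_right

theorem le_normalizer : K ≤ Subgroup.normalizer (M : Set G) :=
  h.eq ▸ sup_le Subgroup.le_normalizer h.normalizes

theorem exists_decomp {x : G} (hx : x ∈ K) : ∃ m ∈ M, ∃ s ∈ S, m * s = x := by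
  rw [h.eq, ← SetLike.mem_coe, Subgroup.coe_mul_of_right_le_normalizer_left M S h.normalizes] at hx
  exact hx

theorem eq_one_of_mem {x : G} (hxM : x ∈ M) (hxS : x ∈ S) : x = 1 := by
  obtain ⟨n, hn⟩ := h.pgroup ⟨x, hxS⟩
  have h1 : x ^ p ^ n = 1 := congrArg Subtype.val hn
  have h2 : x ^ Nat.card M = 1 := congrArg Subtype.val (pow_card_eq_one' (x := (⟨x, hxM⟩ : M)))
  have h3 := pow_gcd_eq_one.2 ⟨h1, h2⟩
  rwa [((h.prime.coprime_iff_not_dvd.2 h.coprime).pow_left n).gcd_eq_one, pow_one] at h3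

theorem exists_index : ∃ a : ℕ, (M.subgroupOf K).index = p ^ a := by
  haveI := normal_subgroupOf_of_le h.le_normalizer
  haveI : Fact p.Prime := ⟨h.prime⟩
  obtain ⟨b, hb⟩ := IsPGroup.iff_card.1 h.pgroup
  obtain ⟨a, ha⟩ := (Nat.dvd_prime_pow h.prime).1 (show (M.subgroupOf K).index ∣ p ^ b by
    rw [← hb, Subgroup.index_eq_card]
    refine Subgroup.card_dvd_of_surjective ((QuotientGroup.mk' (M.subgroupOf K)).comp
      (Subgroup.inclusion h.hS)) fun q => ?_
    obtain ⟨⟨x, hx⟩, rfl⟩ := QuotientGroup.mk_surjective q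
    obtain ⟨m, hm, s, hs, rfl⟩ := h.exists_decomp hx
    refine ⟨⟨s, hs⟩, ?_⟩
    show (QuotientGroup.mk _ : K ⧸ M.subgroupOf K) = QuotientGroup.mk _
    rw [QuotientGroup.eq]
    show s⁻¹ * (m * s) ∈ M
    simpa [mul_assoc] using
      (Subgroup.mem_normalizer_iff.1 (h.normalizes (S.inv_mem hs)) m).1 hm)
  exact ⟨a, ha.2⟩

theorem not_dvd_degree [Fintype M] (θ : IrrCharacter M) : ¬ p ∣ charDegree (θ : M → ℂ) :=
  fun hd => h.coprime (hd.trans (charDegree_irr_dvd_card θ))

theorem pow_eq [Fintype M] (θ : IrrCharacter M) {μ μ' : S →* ℂˣ}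
    (e : ∀ s, (μ s : ℂ) ^ charDegree (θ : M → ℂ) = (μ' s : ℂ) ^ charDegree (θ : M → ℂ)) :
    μ = μ' := by
  refine MonoidHom.ext fun s => ?_
  obtain ⟨n, hn⟩ := h.pgroup s
  have h1 : (μ s / μ' s) ^ p ^ n = 1 := by
    rw [div_pow, ← map_pow, ← map_pow, hn, map_one, map_one, div_one]
  have h2 : (μ s / μ' s) ^ charDegree (θ : M → ℂ) = 1 := by
    rw [div_pow, div_eq_one]
    refine Units.ext ?_
    rw [Units.val_pow_eq_pow_val, Units.val_pow_eq_pow_val]
    exact e s
  have h3 := pow_gcd_eq_one.2 ⟨h1, h2⟩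
  rw [((h.prime.coprime_iff_not_dvd.2 (h.not_dvd_degree θ)).pow_left n).gcd_eq_one, pow_one,
    div_eq_one] at h3
  exact h3

theorem data_unique_left [Fintype M] {η : IrrCharacter K} {θ θ' : IrrCharacter M}
    {μ μ' : S →* ℂˣ} (d : Data h.hM h.hS η θ μ) (d' : Data h.hM h.hS η θ' μ') :
    θ = θ' ∧ μ = μ' := by
  have e : θ = θ' := Subtype.ext (funext fun m => (d.res m).symm.trans (d'.res m))
  subst e
  exact ⟨rfl, h.pow_eq θ fun s => (d.det s).symm.trans (d'.det s)⟩

theorem inv_of_data {η : IrrCharacter K} {θ : IrrCharacter M} {μ : S →* ℂˣ}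
    (d : Data h.hM h.hS η θ μ) : ∀ s ∈ S, CInv M.subtype θ s := fun _ hs =>
  CInv.of_ext ⟨η, fun k _ => d.res k⟩ h.hM (h.hS hs)

/-- Every character of degree prime to `p` has parameters. -/
theorem exists_data [Fintype M] (η : IrrCharacter K) (hη : ¬ p ∣ charDegree (η : K → ℂ)) :
    ∃ θ μ, Data h.hM h.hS η θ μ := by
  classical
  haveI : Fintype K := Fintype.ofFinite _
  have hj : Function.Injective (Subgroup.inclusion h.hM) := Subgroup.inclusion_injective h.hM
  have hn : (Subgroup.inclusion h.hM).range.Normal := by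
    rw [Subgroup.inclusion_range]
    exact normal_subgroupOf_of_le h.le_normalizer
  obtain ⟨θ, hθ⟩ := CfsgLib.CharCorrQ.exists_mult_ne_zero (Subgroup.inclusion h.hM) η
  have hdeg := degree_eq hj hn θ hθ
  have hr : mult (Subgroup.inclusion h.hM) η θ * (stab hj hn θ).index = 1 := by
    have h1 := ratio_dvd hj hn θ hθ
    obtain ⟨a, ha⟩ := h.exists_index
    rw [Subgroup.inclusion_range, ha] at h1
    obtain ⟨b, -, hb⟩ := (Nat.dvd_prime_pow h.prime).1 h1
    rw [hb] at hdeg ⊢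
    rcases Nat.eq_zero_or_pos b with rfl | hb0
    · rfl
    · exact absurd (hdeg ▸ (dvd_pow_self p hb0.ne').mul_right _) hη
  rw [hr, one_mul] at hdeg
  have hres : ∀ m : M, (η : K → ℂ) (Subgroup.inclusion h.hM m) = (θ : M → ℂ) m := by
    refine congrFun (CfsgLib.CharDeg.eq_of_degree_eq (isCharacter_comp (irr_isCharacter η) _) θ
      ((over_iff _ θ η).1 hθ) ?_)
    show (η : K → ℂ) (Subgroup.inclusion h.hM 1) = _
    rw [map_one, irr_one_eq_charDegree, irr_one_eq_charDegree, hdeg]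
  haveI : Fact p.Prime := ⟨h.prime⟩
  obtain ⟨D, hD⟩ := CfsgLib.PRational.exists_detHom η.2
  let Dη : S →* ℂˣ := D.comp (Subgroup.inclusion h.hS)
  obtain ⟨b, hb⟩ := IsPGroup.iff_card.1 h.pgroup
  have hord : orderOf Dη ∣ p ^ b := orderOf_dvd_of_pow_eq_one (x := Dη) (MonoidHom.ext fun s => by
    rw [MonoidHom.pow_apply, ← map_pow, ← hb, pow_card_eq_one', map_one, MonoidHom.one_apply])
  obtain ⟨l, hl⟩ : ∃ l : ℕ, (Dη ^ charDegree (θ : M → ℂ)) ^ l = Dη :=
    exists_pow_eq_self_of_coprime (x := Dη) (Nat.Coprime.coprime_dvd_right hord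
      (((h.prime.coprime_iff_not_dvd.2 (h.not_dvd_degree θ)).pow_left b).symm))
  refine ⟨θ, Dη ^ l, hres, fun s => ?_⟩
  rw [congrFun hD, ← Units.val_pow_eq_pow_val, ← MonoidHom.pow_apply, ← pow_mul, mul_comm,
    pow_mul, hl]
  rfl

theorem ext_det [Fintype M] {θ : IrrCharacter M} :
    ∀ (e : IrrCharacter K), (∀ m : M, (e : K → ℂ) (Subgroup.inclusion h.hM m) = (θ : M → ℂ) m) →
      ∀ (e' : IrrCharacter K),
      (∀ m : M, (e' : K → ℂ) (Subgroup.inclusion h.hM m) = (θ : M → ℂ) m) →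
      (∀ s : S, detChar (e : K → ℂ) (Subgroup.inclusion h.hS s) =
        detChar (e' : K → ℂ) (Subgroup.inclusion h.hS s)) → e = e' := by
  intro e he e' he' hdet
  haveI := normal_subgroupOf_of_le h.le_normalizer
  have hϑ := isIrr_subgroupOf θ h.hM
  obtain ⟨D, hD⟩ := CfsgLib.PRational.exists_detHom e.2
  obtain ⟨D', hD'⟩ := CfsgLib.PRational.exists_detHom e'.2
  have hres : ∀ (x : IrrCharacter K),
      (∀ m : M, (x : K → ℂ) (Subgroup.inclusion h.hM m) = (θ : M → ℂ) m) →
      ∀ n : M.subgroupOf K, detChar (x : K → ℂ) (n : K) =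
        detChar (fun n : M.subgroupOf K => (θ : M → ℂ) ⟨n, n.2⟩) n := fun x hx n =>
    CfsgLib.CharDeg.detChar_res x.2 hϑ (fun n => hx ⟨n, n.2⟩) n
  have hDD : D = D' := by
    refine MonoidHom.ext fun k => ?_
    obtain ⟨m, hm, s, hs, hk⟩ := h.exists_decomp k.2
    rw [show k = Subgroup.inclusion h.hM ⟨m, hm⟩ * Subgroup.inclusion h.hS ⟨s, hs⟩ from
      Subtype.ext hk.symm, map_mul, map_mul]
    congr 1
    · refine Units.ext ?_
      rw [← congrFun hD, ← congrFun hD']
      exact (hres e he ⟨Subgroup.inclusion h.hM ⟨m, hm⟩, hm⟩).trans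
        (hres e' he' ⟨Subgroup.inclusion h.hM ⟨m, hm⟩, hm⟩).symm
    · refine Units.ext ?_
      rw [← congrFun hD, ← congrFun hD']
      exact hdet ⟨s, hs⟩
  obtain ⟨a, ha⟩ := h.exists_index
  have hu := CfsgLib.CharExtension.existsUnique_ext_det (M.subgroupOf K) hϑ
    (charDegree (θ : M → ℂ)) (irr_one_eq_charDegree θ)
    (by rw [ha]; exact (h.prime.coprime_iff_not_dvd.2 (h.not_dvd_degree θ)).pow_left a)
    ⟨_, e.2, fun n => he ⟨n, n.2⟩⟩ D (fun n => by rw [← congrFun hD]; exact hres e he n)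
  exact Subtype.ext (hu.unique ⟨e.2, fun n => he ⟨n, n.2⟩, hD⟩
    ⟨e'.2, fun n => he' ⟨n, n.2⟩, hD'.trans (by rw [hDD])⟩)

theorem data_unique_right [Fintype M] {η η' : IrrCharacter K} {θ : IrrCharacter M} {μ : S →* ℂˣ}
    (d : Data h.hM h.hS η θ μ) (d' : Data h.hM h.hS η' θ μ) : η = η' :=
  h.ext_det η d.res η' d'.res fun s => (d.det s).trans (d'.det s).symm

/-- The map to the `p`-part. -/
theorem exists_retraction : ∃ q : K →* S, ∀ m (hm : m ∈ M) s (hs : s ∈ S) (hk : m * s ∈ K),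
    q ⟨m * s, hk⟩ = ⟨s, hs⟩ := by
  have hex : ∀ k : K, ∃ s : S, (k : G) * (s : G)⁻¹ ∈ M := by
    intro k
    obtain ⟨m, hm, s, hs, hk⟩ := h.exists_decomp k.2
    exact ⟨⟨s, hs⟩, by rw [← hk, mul_inv_cancel_right]; exact hm⟩
  choose q hq using hex
  have huniq : ∀ (k : K) (s : S), (k : G) * (s : G)⁻¹ ∈ M → q k = s := by
    intro k s hs
    refine Subtype.ext ?_
    have h1 := M.mul_mem (M.inv_mem hs) (hq k)
    rw [show ((k : G) * (s : G)⁻¹)⁻¹ * ((k : G) * (q k : G)⁻¹) = (s : G) * (q k : G)⁻¹ by group]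
      at h1
    exact (mul_inv_eq_one.1 (h.eq_one_of_mem h1 (S.mul_mem s.2 (S.inv_mem (q k).2)))).symm
  refine ⟨MonoidHom.mk' q fun a b => huniq _ _ ?_, fun m hm s hs hk => huniq _ _ (by simpa using hm)⟩
  have h1 := (Subgroup.mem_normalizer_iff.1 (h.normalizes (q a).2) _).1 (hq b)
  have h2 := M.mul_mem (hq a) h1
  rw [show (a : G) * (q a : G)⁻¹ * ((q a : G) * ((b : G) * (q b : G)⁻¹) * (q a : G)⁻¹) =
    (a : G) * (b : G) * ((q a : G) * (q b : G))⁻¹ by group] at h2
  exact h2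

/-- Every pair of parameters occurs. -/
theorem exists_of_param [Fintype M] (θ : IrrCharacter M) (hθ : ∀ s ∈ S, CInv M.subtype θ s)
    (μ : S →* ℂˣ) : ∃ η, Data h.hM h.hS η θ μ := by
  classical
  haveI := normal_subgroupOf_of_le h.le_normalizer
  haveI : Fintype K := Fintype.ofFinite _
  obtain ⟨q, hq⟩ := h.exists_retraction
  obtain ⟨D, hD⟩ := CfsgLib.PRational.exists_detHom θ.2
  have hDinv : ∀ s (hs : s ∈ S) (m : M), D (conjEquiv M (h.normalizes hs) m) = D m := by
    intro s hs m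
    refine Units.ext ?_
    rw [← congrFun hD, ← congrFun hD]
    have e1 : (fun x : M => (θ : M → ℂ) (conjEquiv M (h.normalizes hs) x)) = (θ : M → ℂ) :=
      congrArg Subtype.val ((cinv_iff_twist (h.normalizes hs) θ).1 (hθ s hs))
    have e2 := CfsgLib.PRational.detChar_comp θ.2 (conjEquiv M (h.normalizes hs)).toMonoidHom
      (by simpa [e1] using θ.2)
    have e3 := congrFun e2 m
    simp only [MulEquiv.coe_toMonoidHom] at e3
    rw [e1] at e3
    exact e3.symm
  let mp : K → M := fun k => ⟨(k : G) * (q k : G)⁻¹, by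
    obtain ⟨m, hm, s, hs, hk⟩ := h.exists_decomp k.2
    have e : q k = ⟨s, hs⟩ := by
      rw [show k = ⟨m * s, by rw [hk]; exact k.2⟩ from Subtype.ext hk.symm]
      exact hq m hm s hs _
    rw [e]; simpa [← hk] using hm⟩
  let f : K →* ℂˣ := MonoidHom.mk' (fun k => D (mp k) * μ (q k) ^ charDegree (θ : M → ℂ))
    fun a b => by
      have e : mp (a * b) = mp a * conjEquiv M (h.normalizes (q a).2) (mp b) := Subtype.ext (by
        show (a : G) * (b : G) * ((q (a * b) : S) : G)⁻¹ =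
          (a : G) * (q a : G)⁻¹ * ((q a : G) * ((b : G) * (q b : G)⁻¹) * (q a : G)⁻¹)
        rw [map_mul, Subgroup.coe_mul]; group)
      rw [e, map_mul D, hDinv _ (q a).2, map_mul q, map_mul μ, mul_pow]
      exact mul_mul_mul_comm _ _ _ _
  have hq1 : ∀ m : M, q (Subgroup.inclusion h.hM m) = 1 := fun m => by
    have := hq m m.2 1 S.one_mem (by rw [mul_one]; exact h.hM m.2)
    simp only [mul_one] at this
    exact this
  have hqs : ∀ s : S, q (Subgroup.inclusion h.hS s) = s := fun s => by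
    have := hq 1 M.one_mem s s.2 (by rw [one_mul]; exact h.hS s.2)
    simp only [one_mul] at this
    exact this
  have hϑ := isIrr_subgroupOf θ h.hM
  have hfN : ∀ n : M.subgroupOf K,
      (f n : ℂ) = detChar (fun n : M.subgroupOf K => (θ : M → ℂ) ⟨n, n.2⟩) n := by
    intro n
    show ((D (mp n) * μ (q n) ^ _ : ℂˣ) : ℂ) = _
    have e : q (n : K) = 1 := hq1 ⟨n, n.2⟩
    rw [e, map_one, one_pow, mul_one, ← congrFun hD]
    have e2 := congrFun (CfsgLib.PRational.detChar_comp θ.2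
      (Subgroup.subgroupOfEquivOfLe h.hM).toMonoidHom hϑ) n
    refine Eq.trans ?_ e2.symm
    refine congrArg (detChar (θ : M → ℂ)) (Subtype.ext ?_)
    show (n : G) * ((q (n : K) : S) : G)⁻¹ = n
    rw [e]; simp
  obtain ⟨a, ha⟩ := h.exists_index
  have hinv : ∀ (g : K) (n : M.subgroupOf K), (θ : M → ℂ) ⟨((g * n * g⁻¹ : K) : G),
      (normal_subgroupOf_of_le h.le_normalizer).conj_mem (n : K) n.2 g⟩ = (θ : M → ℂ) ⟨n, n.2⟩ := by
    intro g n
    obtain ⟨m, hm, s, hs, hg⟩ := h.exists_decomp g.2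
    have h1 : (s : G) * (n : G) * s⁻¹ ∈ M :=
      (Subgroup.mem_normalizer_iff.1 (h.normalizes hs) _).1 n.2
    rw [← hθ s hs ⟨n, n.2⟩ ⟨_, h1⟩ rfl]
    refine cinv_of_mem hm ⟨_, h1⟩ _ ?_
    show (g : G) * n * (g : G)⁻¹ = m * (s * n * s⁻¹) * m⁻¹
    rw [← hg]; group
  have hcop : (M.subgroupOf K).index.Coprime (charDegree (θ : M → ℂ)) := by
    rw [ha]; exact (h.prime.coprime_iff_not_dvd.2 (h.not_dvd_degree θ)).pow_left a
  have hext := CfsgLib.CharExtension.extends_of_det (M.subgroupOf K) hϑ hinv _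
    (irr_one_eq_charDegree θ) hcop (fun k => (f k : ℂ))
    (isCharacter_of_irr (isIrrCharacter_of_hom f)) (by simp) hfN
  obtain ⟨η, ⟨hη, hres, hdet⟩, -⟩ := CfsgLib.CharExtension.existsUnique_ext_det (M.subgroupOf K)
    hϑ _ (irr_one_eq_charDegree θ) hcop hext f hfN
  refine ⟨⟨η, hη⟩, fun m => hres ⟨Subgroup.inclusion h.hM m, m.2⟩, fun s => ?_⟩
  rw [hdet]
  show ((D (mp _) * μ (q _) ^ _ : ℂˣ) : ℂ) = _
  have e : mp (Subgroup.inclusion h.hS s) = 1 := Subtype.ext (by
    show (s : G) * ((q (Subgroup.inclusion h.hS s) : S) : G)⁻¹ = 1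
    rw [hqs, mul_inv_cancel])
  rw [e, map_one, one_mul, hqs, Units.val_pow_eq_pow_val]

theorem normalizer_mem {g : G} (hgM : g ∈ Subgroup.normalizer (M : Set G))
    (hgS : g ∈ Subgroup.normalizer (S : Set G)) : g ∈ Subgroup.normalizer (K : Set G) := by
  rw [h.eq]
  exact Subgroup.normalizer_inf_normalizer_le_normalizer_sup M S ⟨hgM, hgS⟩

/-- Parameters of a conjugate. -/
theorem data_twist {g : G} (hgM : g ∈ Subgroup.normalizer (M : Set G))
    (hgS : g ∈ Subgroup.normalizer (S : Set G)) {η : IrrCharacter K} {θ : IrrCharacter M}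
    {μ : S →* ℂˣ} (d : Data h.hM h.hS η θ μ) :
    Data h.hM h.hS (twistIrr (conjEquiv K (h.normalizer_mem hgM hgS)) η)
      (twistIrr (conjEquiv M hgM) θ) (μ.comp (conjEquiv S hgS).toMonoidHom) := by
  refine ⟨fun m => ?_, fun s => ?_⟩
  · simp only [twistIrr_apply]
    rw [← d.res]
    rfl
  · have hd : charDegree (twistIrr (conjEquiv M hgM) θ : M → ℂ) = charDegree (θ : M → ℂ) := by
      simp [charDegree]
    rw [hd, MonoidHom.comp_apply]
    refine Eq.trans ?_ (d.det (conjEquiv S hgS s))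
    exact congrFun (CfsgLib.PRational.detChar_comp η.2
      (conjEquiv K (h.normalizer_mem hgM hgS)).toMonoidHom
      (twistIrr (conjEquiv K (h.normalizer_mem hgM hgS)) η).2) _

theorem conjTo_data [Fintype M] {g : G} (hgM : g ∈ Subgroup.normalizer (M : Set G))
    (hgS : g ∈ Subgroup.normalizer (S : Set G)) {η η' : IrrCharacter K} {θ θ' : IrrCharacter M}
    {μ μ' : S →* ℂˣ} (d : Data h.hM h.hS η θ μ) (d' : Data h.hM h.hS η' θ' μ') :
    ConjTo g η η' ↔ twistIrr (conjEquiv M hgM) θ = θ' ∧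
      μ.comp (conjEquiv S hgS).toMonoidHom = μ' := by
  rw [conjTo_iff (h.normalizer_mem hgM hgS)]
  constructor
  · intro e
    have h1 := h.data_twist hgM hgS d
    rw [e] at h1
    exact h.data_unique_left h1 d'
  · rintro ⟨e1, e2⟩
    have h1 := h.data_twist hgM hgS d
    rw [e1, e2] at h1
    exact h.data_unique_right h1 d'

end Semi

end CfsgLib.RelMcKay
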