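import Cfsg.Agent.Lib.RelMcKay.GoodBasis
import Cfsg.Agent.Lib.RelMcKay.Data

/-!
# Counts inside a subgroup through good cosets
-/

set_option autoImplicit false
set_option linter.unusedSectionVars false
set_option linter.style.haveILetI false

noncomputable section

namespace CfsgLib.RelMcKay

open Cfsg CfsgLib.Characters CfsgLib.CharCorr
open scoped ComplexConjugate

universe u

variable {G : Type u} [Group G] [Fintype G] {p : ℕ} {K H T Y : Subgroup G}

theorem incl_range_normal (hKH : K ≤ H) (hn : H ≤ Subgroup.normalizer (K : Set G)) :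
    (Subgroup.inclusion hKH).range.Normal := by
  rw [Subgroup.inclusion_range]
  exact normal_subgroupOf_of_le hn

theorem cinv_inclusion (hKH : K ≤ H) {η : IrrCharacter K} {g : H} :
    CInv (Subgroup.inclusion hKH) η g ↔ CInv K.subtype η (g : G) := by
  refine forall₂_congr fun l l' => imp_congr_left ⟨fun e => congrArg Subtype.val e, fun e => ?_⟩
  exact Subtype.ext e

/-- Clifford correspondence between two subgroups. -/
theorem cnt_to_stab [Fintype K] (hp : p.Prime) (hKT : K ≤ T) (hTH : T ≤ H)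
    (hn : H ≤ Subgroup.normalizer (K : Set G)) (η : IrrCharacter K)
    (hT : ∀ g ∈ H, g ∈ T ↔ CInv K.subtype η g) (hidx : ¬ p ∣ T.relIndex H) :
    cnt p (Subgroup.inclusion (hKT.trans hTH)) η = cnt p (Subgroup.inclusion hKT) η := by
  haveI : Fintype H := Fintype.ofFinite _
  rw [cnt_stab (j := Subgroup.inclusion (hKT.trans hTH))
    (Subgroup.inclusion_injective _) (incl_range_normal _ hn) η (T.subgroupOf H)
    (fun g => (Subgroup.mem_subgroupOf.trans (hT g g.2)).trans (cinv_inclusion _).symm)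
    (fun k => hKT k.2) hp hidx]
  exact cnt_congr (Subgroup.subgroupOfEquivOfLe hTH) (fun _ => Subtype.ext rfl) η

/-- The count over an invariant character of degree prime to `p`, index prime to `p`. -/
theorem cnt_eq_good [Fintype K] (hp : p.Prime) {η : IrrCharacter K} (S : InvSetting η T)
    (hη : ¬ p ∣ charDegree (η : K → ℂ)) (hidx : ¬ p ∣ K.relIndex T) (hYT : Y ≤ T)
    (hKY : ∀ t ∈ T, ∃ k ∈ K, ∃ y ∈ Y, k * y = t) :
    cnt p (Subgroup.inclusion S.le) η = Nat.card (Quot (goodRel η T Y)) := by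
  haveI : Fintype T := Fintype.ofFinite _
  rw [← card_over_eq S Y hYT hKY, cnt]
  refine Nat.card_congr (Equiv.subtypeEquivRight fun χ => ⟨fun h => h.2, fun h => ⟨?_, h⟩⟩)
  refine degree_prime_to hp (Subgroup.inclusion_injective S.le) (incl_range_normal _ S.normalizes)
    η h hη ?_
  rw [Subgroup.inclusion_range]
  exact hidx

/-- Both steps. -/
theorem cnt_sub_eq_good [Fintype K] (hp : p.Prime) (hKH : K ≤ H)
    (hn : H ≤ Subgroup.normalizer (K : Set G)) (η : IrrCharacter K)
    (hη : ¬ p ∣ charDegree (η : K → ℂ)) (hKT : K ≤ T) (hTH : T ≤ H)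
    (hT : ∀ g ∈ H, g ∈ T ↔ CInv K.subtype η g) (hidx : ¬ p ∣ K.relIndex H) (hYT : Y ≤ T)
    (hKY : ∀ t ∈ T, ∃ k ∈ K, ∃ y ∈ Y, k * y = t) :
    cnt p (Subgroup.inclusion hKH) η = Nat.card (Quot (goodRel η T Y)) := by
  have h1 : ¬ p ∣ K.relIndex T ∧ ¬ p ∣ T.relIndex H := by
    rw [← Subgroup.relIndex_mul_relIndex K T H hKT hTH] at hidx
    exact ⟨fun h => hidx (h.mul_right _), fun h => hidx (h.mul_left _)⟩
  rw [cnt_to_stab hp hKT hTH hn η hT h1.2]
  exact cnt_eq_good hp ⟨hKT, hTH.trans hn, fun t ht => (hT t (hTH ht)).1 ht⟩ hη h1.1 hYT hKY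

end CfsgLib.RelMcKay
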