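import Cfsg.Agent.Lib.RelMcKay.Scalar
import Cfsg.Agent.Lib.RelMcKay.SubCount
import Cfsg.Agent.Lib.RelMcKay.ExtCorr
import Cfsg.Agent.Lib.RelMcKay.Decompose

/-!
# The split situation `G = M N(S)`

`M` is a normal `p'`-subgroup and `S` a Sylow `p`-subgroup with `M S` normal. The characters of
`M S` and of `C S`, `C = M ∩ C(S)`, of degree prime to `p` are matched through their parameters.
-/

set_option autoImplicit false
set_option linter.unusedSectionVars false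
set_option linter.style.haveILetI false
set_option linter.unusedSimpArgs false

noncomputable section

namespace CfsgLib.RelMcKay

open Cfsg CfsgLib.Characters CfsgLib.CharCorr
open scoped ComplexConjugate

universe u

variable {G : Type u} [Group G] [Fintype G] {p : ℕ} {S M : Subgroup G}

/-- Commutators in a subgroup generated modulo `C` by two commuting elements. -/
theorem commutator_mem_of_pair {C : Subgroup G} {y h : G}
    (hy : y ∈ Subgroup.normalizer (C : Set G)) (hh : h ∈ Subgroup.normalizer (C : Set G))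
    (hc : h * y * h⁻¹ * y⁻¹ ∈ C) :
    ∀ a ∈ C ⊔ Subgroup.zpowers y ⊔ Subgroup.zpowers h,
      ∀ b ∈ C ⊔ Subgroup.zpowers y ⊔ Subgroup.zpowers h, a * b * a⁻¹ * b⁻¹ ∈ C := by
  set Z := C ⊔ Subgroup.zpowers y ⊔ Subgroup.zpowers h with hZ
  have hCZ : C ≤ Z := le_sup_left.trans le_sup_left
  have hyZ : y ∈ Z := Subgroup.mem_sup_left (Subgroup.mem_sup_right (Subgroup.mem_zpowers y))
  have hhZ : h ∈ Z := Subgroup.mem_sup_right (Subgroup.mem_zpowers h)
  have hn : Z ≤ Subgroup.normalizer (C : Set G) :=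
    sup_le (le_normalizer_sup_zpowers hy) (Subgroup.zpowers_le.2 hh)
  haveI := normal_subgroupOf_of_le hn
  let q : Z →* Z ⧸ C.subgroupOf Z := QuotientGroup.mk' _
  have hq1 : ∀ x : Z, (x : G) ∈ C → q x = 1 := fun x hx => (QuotientGroup.eq_one_iff x).2 hx
  have hcomm : q ⟨h, hhZ⟩ * q ⟨y, hyZ⟩ = q ⟨y, hyZ⟩ * q ⟨h, hhZ⟩ := by
    have h1 := hq1 (⟨h, hhZ⟩ * ⟨y, hyZ⟩ * ⟨h, hhZ⟩⁻¹ * ⟨y, hyZ⟩⁻¹) hc
    rw [map_mul, map_mul, map_mul, map_inv, map_inv, mul_inv_eq_one, mul_inv_eq_iff_eq_mul] at h1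
    exact h1
  have hclos : ∀ U : Subgroup Z, (∀ x : Z, (x : G) ∈ C → x ∈ U) → ⟨y, hyZ⟩ ∈ U → ⟨h, hhZ⟩ ∈ U →
      ∀ x : Z, x ∈ U := by
    intro U h1 h2 h3 x
    have hle : Z ≤ U.map Z.subtype := by
      refine sup_le (sup_le (fun a ha => ⟨⟨a, hCZ ha⟩, h1 _ ha, rfl⟩) ?_) ?_
      · exact Subgroup.zpowers_le.2 ⟨_, h2, rfl⟩
      · exact Subgroup.zpowers_le.2 ⟨_, h3, rfl⟩
    obtain ⟨x', hx', e⟩ := hle x.2
    exact (Subtype.ext e : x' = x) ▸ hx'
  have hcent : ∀ w : Z, (q w * q ⟨y, hyZ⟩ = q ⟨y, hyZ⟩ * q w) ∧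
      (q w * q ⟨h, hhZ⟩ = q ⟨h, hhZ⟩ * q w) := by
    intro w
    have := hclos ((Subgroup.centralizer {q ⟨y, hyZ⟩, q ⟨h, hhZ⟩}).comap q)
      (fun x hx => by
        rw [Subgroup.mem_comap, hq1 x hx]; exact Subgroup.one_mem _)
      (Subgroup.mem_centralizer_iff.2 (by rintro a (rfl | rfl); exacts [rfl, hcomm]))
      (Subgroup.mem_centralizer_iff.2 (by rintro a (rfl | rfl); exacts [hcomm.symm, rfl])) w
    have h2 := Subgroup.mem_centralizer_iff.1 this
    exact ⟨(h2 _ (Or.inl rfl)).symm, (h2 _ (Or.inr rfl)).symm⟩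
  intro a ha b hb
  have h1 : ∀ w : Z, q w * q ⟨b, hb⟩ = q ⟨b, hb⟩ * q w := by
    intro w
    have := hclos ((Subgroup.centralizer {q w}).comap q)
      (fun x hx => by rw [Subgroup.mem_comap, hq1 x hx]; exact Subgroup.one_mem _)
      (Subgroup.mem_centralizer_iff.2 (by rintro c rfl; exact (hcent w).1))
      (Subgroup.mem_centralizer_iff.2 (by rintro c rfl; exact (hcent w).2)) ⟨b, hb⟩
    exact Subgroup.mem_centralizer_iff.1 this _ rfl
  refine (QuotientGroup.eq_one_iff (N := C.subgroupOf Z)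
    (⟨a, ha⟩ * ⟨b, hb⟩ * ⟨a, ha⟩⁻¹ * ⟨b, hb⟩⁻¹)).1 ?_
  show q _ = 1
  rw [map_mul, map_mul, map_mul, map_inv, map_inv, h1, mul_inv_cancel_right, mul_inv_cancel]

/-- Good cosets tested on representatives. -/
theorem good_iff_of_cover {K T Y : Subgroup G} {η : IrrCharacter K}
    (hn : T ≤ Subgroup.normalizer (K : Set G)) (hYT : Y ≤ T)
    (hKY : ∀ t ∈ T, ∃ k ∈ K, ∃ y ∈ Y, k * y = t) {y : G} (hy : y ∈ T) :
    Good η T y ↔ ∀ h ∈ Y, y * h * y⁻¹ * h⁻¹ ∈ K →
      Ext η (K ⊔ Subgroup.zpowers y ⊔ Subgroup.zpowers h) := by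
  refine ⟨fun H h hh => H h (hYT hh), fun H h hh hc => ?_⟩
  obtain ⟨k, hk, w, hw, rfl⟩ := hKY h hh
  have hyk : y * k * y⁻¹ ∈ K := (Subgroup.mem_normalizer_iff.1 (hn hy) k).1 hk
  have hc' : y * w * y⁻¹ * w⁻¹ ∈ K := by
    have h1 := K.mul_mem (K.mul_mem (K.inv_mem hyk) hc) hk
    rwa [show (y * k * y⁻¹)⁻¹ * (y * (k * w) * y⁻¹ * (k * w)⁻¹) * k = y * w * y⁻¹ * w⁻¹ by group]
      at h1
  have he : K ⊔ Subgroup.zpowers y ⊔ Subgroup.zpowers (k * w) =
      K ⊔ Subgroup.zpowers y ⊔ Subgroup.zpowers w := by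
    set A := K ⊔ Subgroup.zpowers y
    have hkA : k ∈ A := Subgroup.mem_sup_left hk
    refine le_antisymm (sup_le le_sup_left (Subgroup.zpowers_le.2 ?_))
      (sup_le le_sup_left (Subgroup.zpowers_le.2 ?_))
    · exact Subgroup.mul_mem_sup hkA (Subgroup.mem_zpowers w)
    · have h2 := Subgroup.mul_mem_sup (A.inv_mem hkA) (Subgroup.mem_zpowers (k * w))
      rwa [inv_mul_cancel_left] at h2
  rw [he]
  exact H w hw hc'

/-- The situation. -/
structure SplitSetting (p : ℕ) (S M : Subgroup G) : Prop where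
  prime : p.Prime
  pgroup : IsPGroup p S
  index : ¬ p ∣ S.index
  normal : M.Normal
  coprime : ¬ p ∣ Nat.card M
  cover : ∀ g : G, ∃ m ∈ M, ∃ n ∈ Subgroup.normalizer (S : Set G), m * n = g

/-- The fixed part. -/
abbrev fixedPart (S M : Subgroup G) : Subgroup G := M ⊓ Subgroup.centralizer (S : Set G)

namespace SplitSetting

variable (h : SplitSetting p S M)

include h

theorem semi : Semi p S M (M ⊔ S) :=
  ⟨h.prime, h.pgroup, h.coprime, fun s _ => by
    haveI := h.normal; rw [Subgroup.normalizer_eq_top]; trivial, rfl⟩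

theorem fixed : FixSetting p S M (fixedPart S M) :=
  ⟨h.prime, h.pgroup, h.coprime, h.semi.normalizes, rfl⟩

theorem semi' : Semi p S (fixedPart S M) ((fixedPart S M) ⊔ S) :=
  ⟨h.prime, h.pgroup, fun hd => h.coprime (hd.trans (Subgroup.card_dvd_of_le inf_le_left)),
    fun _ hs => h.fixed.normalizer_fixed (h.semi.normalizes hs) (Subgroup.le_normalizer hs), rfl⟩

theorem mem_normalizer (g : G) : g ∈ Subgroup.normalizer (M : Set G) := by
  haveI := h.normal; rw [Subgroup.normalizer_eq_top]; trivial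

theorem normal_sup : (M ⊔ S).Normal := by
  refine ⟨fun x hx g => ?_⟩
  obtain ⟨m, hm, n, hn, rfl⟩ := h.cover g
  have h1 : n * x * n⁻¹ ∈ M ⊔ S :=
    (Subgroup.mem_normalizer_iff.1 (h.semi.normalizer_mem (h.mem_normalizer n) hn) x).1 hx
  rw [show m * n * x * (m * n)⁻¹ = m * (n * x * n⁻¹) * m⁻¹ by group]
  exact Subgroup.mul_mem _ (Subgroup.mul_mem _ (Subgroup.mem_sup_left hm) h1)
    (Subgroup.inv_mem _ (Subgroup.mem_sup_left hm))

theorem mem_fixedPart {x : G} (hx : x ∈ M) (hxS : x ∈ Subgroup.normalizer (S : Set G)) :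
    x ∈ (fixedPart S M) := by
  refine ⟨hx, Subgroup.mem_centralizer_iff.2 fun s hs => ?_⟩
  have h1 : x * s * x⁻¹ * s⁻¹ ∈ S :=
    S.mul_mem ((Subgroup.mem_normalizer_iff.1 hxS s).1 hs) (S.inv_mem hs)
  have h2 : x * s * x⁻¹ * s⁻¹ ∈ M := by
    rw [show x * s * x⁻¹ * s⁻¹ = x * (s * x⁻¹ * s⁻¹) by group]
    exact M.mul_mem hx ((Subgroup.mem_normalizer_iff.1 (h.mem_normalizer s) _).1 (M.inv_mem hx))
  have h3 := h.semi.eq_one_of_mem h2 h1
  rw [mul_inv_eq_one, mul_inv_eq_iff_eq_mul] at h3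
  exact h3.symm

theorem sup_le_normalizer : (fixedPart S M) ⊔ S ≤ Subgroup.normalizer (S : Set G) :=
  sup_le (inf_le_right.trans (Subgroup.centralizer_le_normalizer _)) Subgroup.le_normalizer

theorem normalizer_le_normalizer_sup :
    Subgroup.normalizer (S : Set G) ≤ Subgroup.normalizer (((fixedPart S M) ⊔ S : Subgroup G) : Set G) :=
  fun n hn => h.semi'.normalizer_mem (h.fixed.normalizer_fixed (h.mem_normalizer n) hn) hn

theorem eq_fixedPart_of_coprime {Y : Subgroup G} (hY : ¬ p ∣ Nat.card Y)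
    (hYS : Y ≤ Subgroup.normalizer (S : Set G)) {x : G} (hxY : x ∈ Y) (hx : x ∈ M ⊔ S) :
    x ∈ (fixedPart S M) := by
  obtain ⟨q, hq⟩ := h.semi.exists_retraction
  obtain ⟨m, hm, s, hs, e⟩ := h.semi.exists_decomp hx
  have hqx : q ⟨x, hx⟩ = ⟨s, hs⟩ := by
    subst e; exact hq m hm s hs hx
  obtain ⟨n, hn⟩ := h.pgroup ⟨s, hs⟩
  have h1 : (⟨s, hs⟩ : S) ^ Nat.card Y = 1 := by
    rw [← hqx, ← map_pow, show (⟨x, hx⟩ : ↥(M ⊔ S)) ^ Nat.card Y = 1 from Subtype.ext (by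
      rw [SubmonoidClass.coe_pow, OneMemClass.coe_one]
      exact (SubmonoidClass.coe_pow (⟨x, hxY⟩ : Y) _).symm.trans
        (congrArg Subtype.val pow_card_eq_one')), map_one]
  have h2 := pow_gcd_eq_one.2 ⟨hn, h1⟩
  rw [((h.prime.coprime_iff_not_dvd.2 hY).pow_left n).gcd_eq_one, pow_one] at h2
  have hs1 : s = 1 := congrArg Subtype.val h2
  subst hs1
  rw [mul_one] at e
  subst e
  exact h.mem_fixedPart hm (hYS hxY)

end SplitSetting

end CfsgLib.RelMcKay
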