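import Cfsg.Agent.Lib.RelMcKay.Transfer
import Cfsg.Agent.Lib.CharCorr.Solvable
import Cfsg.Agent.Lib.Coprime.Action

/-!
# The correspondence for a `p`-subgroup normalising a `p'`-subgroup
-/

set_option autoImplicit false
set_option linter.unusedSectionVars false
set_option linter.style.haveILetI false
set_option linter.unusedSimpArgs false

noncomputable section

namespace CfsgLib.RelMcKay

open Cfsg CfsgLib.Characters CfsgLib.CharCorr
open scoped ComplexConjugate

universe u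

variable {G : Type u} [Group G] [Fintype G] {p : ℕ} {S M C : Subgroup G}

/-- A `p`-group `S` normalises the `p'`-group `M`; `C` is the fixed part. -/
structure FixSetting (p : ℕ) (S M C : Subgroup G) : Prop where
  prime : p.Prime
  pgroup : IsPGroup p S
  coprime : ¬ p ∣ Nat.card M
  normalizes : S ≤ Subgroup.normalizer (M : Set G)
  fixed : C = M ⊓ Subgroup.centralizer (S : Set G)

/-- The two characters correspond. -/
def Corr [Fintype C] (p : ℕ) (hCM : C ≤ M) (θ : IrrCharacter M) (ψ : IrrCharacter C) : Prop :=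
  ¬ p ∣ mult (Subgroup.inclusion hCM) θ ψ

theorem not_dvd_card_sup (hp : p.Prime) {A : Subgroup G} (hA : A ≤ Subgroup.normalizer (M : Set G))
    (hM : ¬ p ∣ Nat.card M) (hA' : ¬ p ∣ Nat.card A) : ¬ p ∣ Nat.card (M ⊔ A : Subgroup G) := by
  intro h
  set X := M ⊔ A
  haveI : (M.subgroupOf X).Normal := normal_subgroupOf_of_le (sup_le Subgroup.le_normalizer hA)
  rw [Subgroup.card_eq_card_quotient_mul_card_subgroup (M.subgroupOf X)] at h
  rcases hp.dvd_mul.1 h with h | h
  · refine hA' (h.trans ?_)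
    refine Subgroup.card_dvd_of_surjective ((QuotientGroup.mk' (M.subgroupOf X)).comp
      (Subgroup.inclusion (le_sup_right : A ≤ X))) fun q => ?_
    obtain ⟨⟨x, hx⟩, rfl⟩ := QuotientGroup.mk_surjective q
    obtain ⟨m, hm, a, ha, rfl⟩ := (Set.ext_iff.1
      (Subgroup.coe_mul_of_right_le_normalizer_left M A hA) x).1 hx
    refine ⟨⟨a, ha⟩, ?_⟩
    show (QuotientGroup.mk _ : X ⧸ M.subgroupOf X) = QuotientGroup.mk _
    rw [QuotientGroup.eq]
    show (a⁻¹ * (m * a)) ∈ M
    have h1 := (Subgroup.mem_normalizer_iff.1 (hA (A.inv_mem ha)) m).1 hm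
    simpa [mul_assoc] using h1
  · rw [Nat.card_congr (Subgroup.subgroupOfEquivOfLe (le_sup_left : M ≤ X)).toEquiv] at h
    exact hM h

theorem cinv_of_twist {g : G} {hg : g ∈ Subgroup.normalizer (M : Set G)} {θ : IrrCharacter M}
    (h : ∀ m : M, (θ : M → ℂ) ⟨g * m * g⁻¹, (Subgroup.mem_normalizer_iff.1 hg m).1 m.2⟩ =
      (θ : M → ℂ) m) : CInv M.subtype θ g := fun l l' e => by
  rw [← h l]
  exact congrArg (θ : M → ℂ) (Subtype.ext e)

/-- Conjugation as an automorphism of a normalised subgroup. -/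
def conjEquiv (M : Subgroup G) {g : G} (hg : g ∈ Subgroup.normalizer (M : Set G)) : M ≃* M where
  toFun m := ⟨g * m * g⁻¹, (Subgroup.mem_normalizer_iff.1 hg m).1 m.2⟩
  invFun m := ⟨g⁻¹ * m * g, by
    simpa using (Subgroup.mem_normalizer_iff.1 (Subgroup.inv_mem _ hg) m).1 m.2⟩
  left_inv m := Subtype.ext (by simp [mul_assoc])
  right_inv m := Subtype.ext (by simp [mul_assoc])
  map_mul' a b := Subtype.ext (by simp [mul_assoc])

theorem cinv_iff_twist {g : G} (hg : g ∈ Subgroup.normalizer (M : Set G)) (θ : IrrCharacter M) :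
    CInv M.subtype θ g ↔ twistIrr (conjEquiv M hg) θ = θ := by
  constructor
  · intro h
    exact Subtype.ext (funext fun m => h m _ rfl)
  · intro h
    exact cinv_of_twist (hg := hg) fun m => congrFun (congrArg Subtype.val h) m

theorem cinv_of_mem {θ : IrrCharacter M} {g : G} (hg : g ∈ M) : CInv M.subtype θ g :=
  fun l l' e => (congrArg (θ : M → ℂ) (Subtype.ext (show (l' : G) = g * l * g⁻¹ from e) :
    l' = ⟨g, hg⟩ * l * ⟨g, hg⟩⁻¹)).trans (irr_isClassFunction θ l ⟨g, hg⟩)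

namespace FixSetting

variable (h : FixSetting p S M C)

include h

theorem le : C ≤ M := h.fixed ▸ inf_le_left

theorem le_centralizer : C ≤ Subgroup.centralizer (S : Set G) := h.fixed ▸ inf_le_right

theorem conj_mem : ∀ s ∈ S, ∀ m ∈ M, s * m * s⁻¹ ∈ M :=
  fun s hs m hm => (Subgroup.mem_normalizer_iff.1 (h.normalizes hs) m).1 hm

/-- The action. -/
def act : S →* MulAut M := subgroupAct M S h.conj_mem

theorem isFixedHom : IsFixedHom h.act (Subgroup.inclusion h.le) where
  injective := Subgroup.inclusion_injective h.le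
  fixed s c := Subtype.ext (by
    rw [act, subgroupAct_coe]
    have h2 : (s : G) * c = c * s := Subgroup.mem_centralizer_iff.1 (h.le_centralizer c.2) s s.2
    show (s : G) * (c : G) * (s : G)⁻¹ = c
    rw [h2, mul_inv_cancel_right])
  exists_of_fixed x hx := by
    refine ⟨⟨x, ?_⟩, Subtype.ext rfl⟩
    rw [h.fixed]
    refine ⟨x.2, Subgroup.mem_centralizer_iff.2 fun s hs => ?_⟩
    have h2 := congrArg Subtype.val (hx ⟨s, hs⟩)
    rw [act, subgroupAct_coe] at h2
    exact mul_inv_eq_iff_eq_mul.1 h2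

theorem inv_iff (θ : IrrCharacter M) : Inv h.act θ ↔ ∀ s ∈ S, CInv M.subtype θ s := by
  rw [act, inv_subgroupAct_iff]
  rfl

theorem normalizer_fixed {g : G} (hgM : g ∈ Subgroup.normalizer (M : Set G))
    (hgS : g ∈ Subgroup.normalizer (S : Set G)) : g ∈ Subgroup.normalizer (C : Set G) := by
  have key : ∀ g, g ∈ Subgroup.normalizer (M : Set G) → g ∈ Subgroup.normalizer (S : Set G) →
      ∀ c ∈ C, g * c * g⁻¹ ∈ C := by
    intro g hgM hgS c hc
    rw [h.fixed] at hc ⊢
    refine ⟨(Subgroup.mem_normalizer_iff.1 hgM c).1 hc.1,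
      Subgroup.mem_centralizer_iff.2 fun s hs => ?_⟩
    have h1 : g⁻¹ * s * g ∈ S := by
      simpa using (Subgroup.mem_normalizer_iff.1 (Subgroup.inv_mem _ hgS) s).1 hs
    have h2 := Subgroup.mem_centralizer_iff.1 hc.2 _ h1
    calc s * (g * c * g⁻¹) = g * (g⁻¹ * s * g * c) * g⁻¹ := by group
      _ = g * (c * (g⁻¹ * s * g)) * g⁻¹ := by rw [h2]
      _ = g * c * g⁻¹ * s := by group
  rw [Subgroup.mem_normalizer_iff]
  refine fun c => ⟨key g hgM hgS c, fun hc => ?_⟩
  have h1 := key g⁻¹ (Subgroup.inv_mem _ hgM) (Subgroup.inv_mem _ hgS) _ hc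
  simpa [mul_assoc] using h1

variable [Fintype M] [Fintype C]

theorem existsUnique_corr {θ : IrrCharacter M} (hθ : ∀ s ∈ S, CInv M.subtype θ s) :
    ∃! ψ, Corr p h.le θ ψ :=
  existsUnique_mult h.prime h.pgroup h.isFixedHom h.coprime ((h.inv_iff θ).2 hθ)

theorem corr_unique {θ : IrrCharacter M} (hθ : ∀ s ∈ S, CInv M.subtype θ s)
    {ψ ψ' : IrrCharacter C} (h1 : Corr p h.le θ ψ) (h2 : Corr p h.le θ ψ') : ψ = ψ' :=
  (h.existsUnique_corr hθ).unique h1 h2

theorem exists_of_fixed_char (ψ : IrrCharacter C) :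
    ∃ θ : IrrCharacter M, (∀ s ∈ S, CInv M.subtype θ s) ∧ Corr p h.le θ ψ :=
  let ⟨θ, h1, h2⟩ := exists_mult h.prime h.pgroup h.isFixedHom h.coprime ψ
  ⟨θ, (h.inv_iff θ).1 h1, h2⟩

theorem corr_injective {θ θ' : IrrCharacter M} (hθ : ∀ s ∈ S, CInv M.subtype θ s)
    (hθ' : ∀ s ∈ S, CInv M.subtype θ' s) {ψ : IrrCharacter C} (h1 : Corr p h.le θ ψ)
    (h2 : Corr p h.le θ' ψ) : θ = θ' :=
  mult_injective h.prime h.pgroup h.isFixedHom h.coprime ((h.inv_iff θ).2 hθ)
    ((h.inv_iff θ').2 hθ') h1 h2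

theorem corr_twist {g : G} (hgM : g ∈ Subgroup.normalizer (M : Set G))
    (hgS : g ∈ Subgroup.normalizer (S : Set G)) {θ : IrrCharacter M} {ψ : IrrCharacter C}
    (h1 : Corr p h.le θ ψ) : Corr p h.le (twistIrr (conjEquiv M hgM) θ)
      (twistIrr (conjEquiv C (h.normalizer_fixed hgM hgS)) ψ) := by
  rw [Corr, mult_twist (Subgroup.inclusion h.le) _ _ (fun c => Subtype.ext rfl)]
  exact h1

theorem inv_twist {g : G} (hgM : g ∈ Subgroup.normalizer (M : Set G))
    (hgS : g ∈ Subgroup.normalizer (S : Set G)) {θ : IrrCharacter M}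
    (hθ : ∀ s ∈ S, CInv M.subtype θ s) :
    ∀ s ∈ S, CInv M.subtype (twistIrr (conjEquiv M hgM) θ) s := by
  intro s hs l l' e
  refine hθ _ ((Subgroup.mem_normalizer_iff.1 hgS s).1 hs) (conjEquiv M hgM l)
    (conjEquiv M hgM l') ?_
  have e' : (l' : G) = s * l * s⁻¹ := e
  show g * (l' : G) * g⁻¹ = g * s * g⁻¹ * (g * l * g⁻¹) * (g * s * g⁻¹)⁻¹
  rw [e']; group

/-- The correspondence commutes with the normaliser. -/
theorem cinv_iff {g : G} (hgM : g ∈ Subgroup.normalizer (M : Set G))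
    (hgS : g ∈ Subgroup.normalizer (S : Set G)) {θ : IrrCharacter M}
    (hθ : ∀ s ∈ S, CInv M.subtype θ s) {ψ : IrrCharacter C} (h1 : Corr p h.le θ ψ) :
    CInv M.subtype θ g ↔ CInv C.subtype ψ g := by
  have h2 := h.corr_twist hgM hgS h1
  rw [cinv_iff_twist hgM, cinv_iff_twist (h.normalizer_fixed hgM hgS)]
  constructor
  · intro e
    rw [e] at h2
    exact h.corr_unique hθ h2 h1
  · intro e
    rw [e] at h2
    exact h.corr_injective (h.inv_twist hgM hgS hθ) hθ h2 h1

/-- Correspondence in two steps. -/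
theorem corr_trans {C₁ : Subgroup G} [Fintype C₁] {A : Subgroup G} (h' : FixSetting p A M C₁)
    (hC : C ≤ C₁) {θ : IrrCharacter M} (hθ : ∀ a ∈ A, CInv M.subtype θ a)
    {θ₁ : IrrCharacter C₁} (h1 : Corr p h'.le θ θ₁) {ψ : IrrCharacter C}
    (h2 : Corr p hC θ₁ ψ) : Corr p h.le θ ψ := by
  classical
  haveI : Fact p.Prime := ⟨h.prime⟩
  rw [Corr, ← ZMod.natCast_eq_zero_iff,
    show Subgroup.inclusion h.le = (Subgroup.inclusion h'.le).comp (Subgroup.inclusion hC) from rfl,
    CfsgLib.CharCorrQ.mult_comp, Nat.cast_sum, Finset.sum_eq_single θ₁ (fun η _ hη => ?_) (by simp)]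
  · rw [Nat.cast_mul, mul_eq_zero, not_or, ZMod.natCast_eq_zero_iff, ZMod.natCast_eq_zero_iff]
    exact ⟨h1, h2⟩
  · rw [Nat.cast_mul, (ZMod.natCast_eq_zero_iff _ _).2
      (by_contra fun hc => hη (h'.corr_unique hθ hc h1)), zero_mul]

end FixSetting

/-- A group with all its linear twists distinct over an invariant character restricts to it. -/
theorem res_eq_of_twists {H K : Subgroup G} [Fintype H] [Fintype K] (hKH : K ≤ H)
    (hn : H ≤ Subgroup.normalizer (K : Set G))
    (hab : ∀ a ∈ H, ∀ b ∈ H, a * b * a⁻¹ * b⁻¹ ∈ K) {θ : IrrCharacter K}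
    (hinv : ∀ a ∈ H, CInv K.subtype θ a) {ξ : IrrCharacter H}
    (hξ : Over (Subgroup.inclusion hKH) θ ξ)
    (hdist : ∀ μ μ' : H →* ℂˣ, (∀ k : K, μ (Subgroup.inclusion hKH k) = 1) →
      (∀ k : K, μ' (Subgroup.inclusion hKH k) = 1) →
      (∀ x, (ξ : H → ℂ) x * (μ x : ℂ) = (ξ : H → ℂ) x * (μ' x : ℂ)) → μ = μ') :
    ∀ k : K, (ξ : H → ℂ) (Subgroup.inclusion hKH k) = (θ : K → ℂ) k := by
  classical
  haveI := normal_subgroupOf_of_le hn
  haveI : Fintype (K.subgroupOf H) := Fintype.ofFinite _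
  set N := K.subgroupOf H with hN
  set t : N → ℂ := fun n => (θ : K → ℂ) ⟨n, n.2⟩
  have ht : IsIrrCharacter N t := isIrr_subgroupOf θ hKH
  have hti : ∀ (g : H) (n : N), t ⟨g * n * g⁻¹, (inferInstance : N.Normal).conj_mem n.1 n.2 g⟩ =
      t n := fun g n => hinv g g.2 ⟨n, n.2⟩ _ rfl
  obtain ⟨k, Cs, hk, hirr, hcard, hind, hC, -⟩ :=
    CfsgLib.OddOrder.CliffordInd.indFun_invariant_abelian N ht hti fun a b => hab a a.2 b b.2
  have hover : classInner (fun n : N => (ξ : H → ℂ) n) t ≠ 0 := by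
    rw [classInner_subgroupOf_res hKH]
    exact (over_iff _ θ ξ).1 hξ
  let Λ := {μ : H →* ℂˣ // ∀ k : K, μ (Subgroup.inclusion hKH k) = 1}
  have hmem : ∀ μ : Λ, (fun x => (ξ : H → ℂ) x * (μ.1 x : ℂ)) ∈ Cs := by
    intro μ
    have hi := CfsgLib.LinearTwist.isIrr_mul_hom ξ.2 μ.1
    by_contra hnot
    apply hover
    have h1 : classInner (indFun N t) (fun x => (ξ : H → ℂ) x * (μ.1 x : ℂ)) = 0 := by
      rw [hind, classInner_smul_left, classInner_sum_left,
        Finset.sum_eq_zero (fun χ hχ => classInner_irr_ne (hirr χ hχ) hi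
          (fun e => hnot (e ▸ hχ))), mul_zero]
    rw [CfsgLib.Induction.classInner_indFun N t (isClassFunction_of_isCharacter
      (isCharacter_of_irr hi)), classInner_conj_symm, map_eq_zero] at h1
    rw [← h1]
    congr 1
    funext n
    rw [show μ.1 (n : H) = 1 from μ.2 ⟨n, n.2⟩, Units.val_one, mul_one]
  have hΛ : N.index ≤ Nat.card Λ := by
    letI : CommGroup (H ⧸ N) :=
      { (inferInstance : Group (H ⧸ N)) with
        mul_comm := fun a b => by
          obtain ⟨x, rfl⟩ := QuotientGroup.mk_surjective a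
          obtain ⟨y, rfl⟩ := QuotientGroup.mk_surjective b
          rw [← QuotientGroup.mk_mul, ← QuotientGroup.mk_mul, QuotientGroup.eq, hN,
            Subgroup.mem_subgroupOf]
          have h := hab _ (H.inv_mem y.2) _ (H.inv_mem x.2)
          simpa [mul_assoc] using h }
    haveI : Finite ((H ⧸ N) →* ℂˣ) := Nat.finite_of_card_ne_zero (by
      rw [CommGroup.card_monoidHom_of_hasEnoughRootsOfUnity]; exact Nat.card_pos.ne')
    rw [Subgroup.index_eq_card, ← CommGroup.card_monoidHom_of_hasEnoughRootsOfUnity (H ⧸ N) ℂ]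
    haveI : Finite Λ := by
      refine Finite.of_injective (β := ↥Cs) (fun μ => ⟨_, hmem μ⟩) fun μ μ' e => ?_
      exact Subtype.ext (hdist _ _ μ.2 μ'.2 fun x => congrFun (congrArg Subtype.val e) x)
    refine Nat.card_le_card_of_injective (fun β => ⟨β.comp (QuotientGroup.mk' N), fun a => by
      show β (QuotientGroup.mk' N (Subgroup.inclusion hKH a)) = 1
      rw [show QuotientGroup.mk' N (Subgroup.inclusion hKH a) = 1 from
        (QuotientGroup.eq_one_iff _).2 (show ((a : K) : G) ∈ K from a.2), map_one]⟩) ?_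
    intro β β' e
    exact MonoidHom.ext fun q => by
      obtain ⟨x, rfl⟩ := QuotientGroup.mk_surjective q
      exact DFunLike.congr_fun (congrArg Subtype.val e) x
  have hle : Nat.card Λ ≤ Cs.card := by
    rw [show Cs.card = Nat.card ↥Cs by simp]
    refine Nat.card_le_card_of_injective (fun μ => ⟨_, hmem μ⟩) fun μ μ' e => ?_
    exact Subtype.ext (hdist _ _ μ.2 μ'.2 fun x => congrFun (congrArg Subtype.val e) x)
  have hk1 : k = 1 := by
    have h1 : 1 ≤ Cs.card :=
      Finset.card_pos.2 ⟨_, hmem ⟨1, fun _ => rfl⟩⟩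
    have h2 : k ^ 2 * Cs.card ≤ 1 * Cs.card := by rw [hcard, one_mul]; exact hΛ.trans hle
    have h3 : k ^ 2 ≤ 1 := Nat.le_of_mul_le_mul_right h2 h1
    nlinarith
  have hξC : (ξ : H → ℂ) ∈ Cs := by
    have h1 := hmem ⟨1, fun _ => rfl⟩
    simpa using h1
  obtain ⟨-, hdeg⟩ := hC _ hξC
  have hres := CfsgLib.Ramified.res_eq_smul_of_invariant N ξ.2 ht hti hover
  have he : classInner (fun n : N => (ξ : H → ℂ) n) t = 1 := by
    have h1 := congrFun hres 1
    simp only [Pi.smul_apply, smul_eq_mul] at h1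
    rw [show ((1 : N) : H) = 1 from rfl, hdeg, hk1, Nat.cast_one, one_mul] at h1
    exact mul_right_cancel₀ (irr_one_ne_zero (⟨t, ht⟩ : IrrCharacter N))
      (by rw [one_mul]; exact h1.symm)
  intro a
  have h1 := congrFun hres ⟨Subgroup.inclusion hKH a, a.2⟩
  rw [he, one_smul] at h1
  exact h1

end CfsgLib.RelMcKay
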