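import Cfsg.Agent.Lib.RelMcKay.Basic
import Cfsg.Agent.Lib.CharCorr.InvariantTriple
import Cfsg.Agent.Lib.BlockCover.CentralDefectBlock

/-!
# Moving an invariant character to a central subgroup

`π : Γ →* G` is onto with central kernel acting by scalars on the character `σ`, which restricts
to `θ` along a section `j` over the normal subgroup `N`. For every `H` containing `N` the
characters of `H` over `θ` correspond to those of a subgroup of `Γ ⧸ j N` over a linear character
of a central subgroup.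
-/

set_option autoImplicit false
set_option linter.unusedSectionVars false
set_option linter.style.haveILetI false

noncomputable section

namespace CfsgLib.RelMcKay

open Cfsg CfsgLib.Characters CfsgLib.CharCorr CfsgLib.NormalAvg
open scoped ComplexConjugate

universe u

variable {p : ℕ} {G L : Type u} [Group G] [Group L] [Fintype G] [Fintype L]

/-- Over a linear character of a central subgroup means scalar there. -/
theorem over_central_iff (j : L →* G) (hjc : ∀ l, j l ∈ Subgroup.center G) (f : L →* ℂˣ)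
    (χ : IrrCharacter G) :
    Over j (⟨_, isIrrCharacter_of_hom f⟩ : IrrCharacter L) χ ↔
      ∀ l g, (χ : G → ℂ) (j l * g) = (f l : ℂ) * (χ : G → ℂ) g := by
  have h1 := irr_one_ne_zero χ
  rw [over_iff]
  let w : L → ℂ := fun l => (χ : G → ℂ) (j l) / (χ : G → ℂ) 1
  let μ : L →* ℂˣ := MonoidHom.toHomUnits
    { toFun := w
      map_one' := by simp [w, h1]
      map_mul' := fun a b => by
        simp only [w, map_mul]
        rw [CfsgLib.CentralDefect.apply_central_mul χ (hjc a)]
        ring }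
  have hμ : ∀ a, (μ a : ℂ) = w a := fun _ => rfl
  have hres : (fun l => (χ : G → ℂ) (j l)) = (χ : G → ℂ) 1 • fun l => (μ l : ℂ) := by
    funext a; simp [hμ, w, mul_div_cancel₀ _ h1]
  rw [hres, classInner_smul_left]
  constructor
  · intro h l g
    have he : (fun a => (μ a : ℂ)) = fun a => (f a : ℂ) := by
      by_contra hne
      exact h (by rw [classInner_irr_ne (isIrrCharacter_of_hom μ) (isIrrCharacter_of_hom f) hne,
        mul_zero])
    rw [CfsgLib.CentralDefect.apply_central_mul χ (hjc l), ← congrFun he l, hμ]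
  · intro h
    have he : (fun a => (μ a : ℂ)) = fun a => (f a : ℂ) := funext fun a => by
      have := h a 1
      rw [mul_one] at this
      rw [hμ]
      simp only [w, this, mul_div_assoc, div_self h1, mul_one]
    rw [he, classInner_irr_self (isIrrCharacter_of_hom f), mul_one]
    exact h1

section Cover

variable {N : Subgroup G} [hNn : N.Normal] {θ : IrrCharacter N}
  {Γ : Type u} [Group Γ] [Fintype Γ] {π : Γ →* G} (hπ : Function.Surjective π)
  {σ : Γ → ℂ} (hσ : IsCharacter Γ σ) {j : N →* Γ} [hjn : j.range.Normal]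
  (hπj : ∀ n, π (j n) = n) (hσj : ∀ n, σ (j n) = (θ : N → ℂ) n)
  (hker : ∀ z, π z = 1 → z ∈ Subgroup.center Γ ∧ ∃ c : ℂˣ, ∀ y, σ (y * z) = (c : ℂ) * σ y)

/-- The map of the cover to `G ⧸ N`. -/
def coverProj : Γ ⧸ j.range →* G ⧸ N :=
  QuotientGroup.lift j.range ((QuotientGroup.mk' N).comp π) (by
    rintro _ ⟨n, rfl⟩
    rw [MonoidHom.mem_ker, MonoidHom.comp_apply, hπj]
    exact (QuotientGroup.eq_one_iff _).2 n.2)

theorem coverProj_mk (l : Γ) : coverProj hπj (l : Γ ⧸ j.range) = ((π l : G) : G ⧸ N) := rfl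

/-- The subgroup of the cover belonging to `H`. -/
def coverSub (H : Subgroup G) : Subgroup (Γ ⧸ j.range) :=
  (H.map (QuotientGroup.mk' N)).comap (coverProj hπj)

theorem mk_mem_coverSub {H : Subgroup G} (hNH : N ≤ H) {l : Γ} :
    (l : Γ ⧸ j.range) ∈ coverSub hπj H ↔ π l ∈ H := by
  show QuotientGroup.mk' N (π l) ∈ H.map (QuotientGroup.mk' N) ↔ _
  rw [← Subgroup.mem_comap (f := QuotientGroup.mk' N),
    Subgroup.comap_map_eq_self (by rwa [QuotientGroup.ker_mk'])]

/-- The central part of the cover. -/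
def coverIncl : π.ker →* Γ ⧸ j.range := (QuotientGroup.mk' j.range).comp π.ker.subtype

include hπj in
theorem coverIncl_injective : Function.Injective (coverIncl (π := π) (j := j)) := by
  refine (injective_iff_map_eq_one _).2 fun z hz => ?_
  obtain ⟨n, hn⟩ := (QuotientGroup.eq_one_iff (z : Γ)).1 hz
  have h1 : (n : G) = 1 := by rw [← hπj n, hn]; exact z.2
  refine Subtype.ext ?_
  rw [← hn, show n = 1 from Subtype.ext h1, map_one, Subgroup.coe_one]

include hker in
theorem coverIncl_center (z : π.ker) :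
    coverIncl (j := j) z ∈ Subgroup.center (Γ ⧸ j.range) := by
  refine Subgroup.mem_center_iff.2 fun w => ?_
  obtain ⟨l, rfl⟩ := QuotientGroup.mk_surjective w
  show (l : Γ ⧸ j.range) * ((z : Γ) : Γ ⧸ j.range) = _
  rw [← QuotientGroup.mk_mul, Subgroup.mem_center_iff.1 (hker z z.2).1 l]
  rfl

theorem coverIncl_range : (coverIncl (π := π) (j := j)).range = (coverProj hπj).ker := by
  ext q
  obtain ⟨l, rfl⟩ := QuotientGroup.mk_surjective q
  rw [MonoidHom.mem_ker, coverProj_mk, QuotientGroup.eq_one_iff]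
  constructor
  · rintro ⟨z, hz⟩
    have h1 : ((π (z : Γ) : G) : G ⧸ N) = ((π l : G) : G ⧸ N) := by
      rw [← coverProj_mk hπj, ← coverProj_mk hπj]; exact congrArg _ hz
    rw [z.2, QuotientGroup.mk_one] at h1
    exact (QuotientGroup.eq_one_iff _).1 h1.symm
  · intro hl
    refine ⟨⟨l * (j ⟨π l, hl⟩)⁻¹, by
      rw [MonoidHom.mem_ker, map_mul, map_inv, hπj, mul_inv_cancel]⟩, ?_⟩
    show ((l * (j ⟨π l, hl⟩)⁻¹ : Γ) : Γ ⧸ j.range) = l
    rw [QuotientGroup.mk_mul, QuotientGroup.mk_inv,
      (QuotientGroup.eq_one_iff (N := j.range) (j ⟨π l, hl⟩)).2 ⟨_, rfl⟩, inv_one, mul_one]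

include hπ in
theorem coverProj_surjective : Function.Surjective (coverProj hπj) := by
  intro q
  obtain ⟨g, rfl⟩ := QuotientGroup.mk_surjective q
  obtain ⟨l, rfl⟩ := hπ g
  exact ⟨(l : Γ ⧸ j.range), rfl⟩

include hπj hσ hσj hker in
/-- The scalars of the kernel, inverted. -/
theorem exists_coverChar : ∃ lam : π.ker →* ℂˣ,
    ∀ (z : π.ker) (y : Γ), σ ((z : Γ) * y) * (lam z : ℂ) = σ y := by
  have hd : (θ : N → ℂ) 1 ≠ 0 := irr_one_ne_zero θ
  have hσ1 : σ 1 = (θ : N → ℂ) 1 := by rw [← map_one j, hσj]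
  choose c hc using fun z : π.ker => (hker z z.2).2
  refine ⟨MonoidHom.mk' (fun z => (c z)⁻¹) fun a b => ?_, fun z y => ?_⟩
  · rw [← mul_inv]
    congr 1
    refine Units.ext ?_
    have h1 := hc (a * b) 1
    have h2 := hc b (a : Γ)
    have h3 := hc a 1
    rw [one_mul, hσ1] at h1 h3
    rw [h3] at h2
    have h4 : σ ((a : Γ) * b) = σ ((a * b : π.ker) : Γ) := rfl
    rw [h4, h1, ← mul_assoc] at h2
    have h5 := mul_right_cancel₀ hd h2
    rw [Units.val_mul, h5, mul_comm]
  · rw [← Subgroup.mem_center_iff.1 (hker z z.2).1 y, hc z y]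
    show (c z : ℂ) * σ y * (((c z)⁻¹ : ℂˣ) : ℂ) = σ y
    rw [mul_comm (c z : ℂ), mul_assoc, ← Units.val_mul, mul_inv_cancel, Units.val_one, mul_one]

variable [Fintype N]

include hπ hσ hσj hker in
/-- **The correspondence.** -/
theorem cnt_cover (hp : p.Prime) (hθ : ¬ p ∣ charDegree (θ : N → ℂ)) (lam : π.ker →* ℂˣ)
    (hlam : ∀ (z : π.ker) (y : Γ), σ ((z : Γ) * y) * (lam z : ℂ) = σ y) (H : Subgroup G)
    (hNH : N ≤ H) [Fintype π.ker] (hι : ∀ z, coverIncl (π := π) z ∈ coverSub hπj H) :
    cnt p (Subgroup.inclusion hNH) θ =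
      cnt p (incl (coverIncl (π := π) (j := j)) (coverSub hπj H) hι)
        (⟨_, isIrrCharacter_of_hom lam⟩ : IrrCharacter π.ker) := by
  classical
  set H' := coverSub hπj H
  haveI : Fintype H' := Fintype.ofFinite _
  haveI : Fintype H := Fintype.ofFinite _
  let Yt : Subgroup Γ := H.comap π
  haveI : Fintype Yt := Fintype.ofFinite _
  let jY : N →* Yt := j.codRestrict Yt fun n => by
    show π (j n) ∈ H
    rw [hπj]; exact hNH n.2
  have hjYinj : Function.Injective jY := fun a b h => Subtype.ext (by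
    rw [← hπj a, ← hπj b]; exact congrArg (fun x : Yt => π (x : Γ)) h)
  haveI : jY.range.Normal := ⟨by
    rintro _ ⟨n, rfl⟩ g
    obtain ⟨n', hn'⟩ := hjn.conj_mem _ ⟨n, rfl⟩ (g : Γ)
    exact ⟨n', Subtype.ext hn'⟩⟩
  haveI : Fintype jY.range := Fintype.ofFinite _
  let f : Yt →* H' := ((QuotientGroup.mk' j.range).comp Yt.subtype).codRestrict H' fun y =>
    (mk_mem_coverSub hπj hNH).2 y.2
  have hf : Function.Surjective f := by
    rintro ⟨q, hq⟩
    obtain ⟨l, rfl⟩ := QuotientGroup.mk_surjective q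
    exact ⟨⟨l, (mk_mem_coverSub hπj hNH).1 hq⟩, rfl⟩
  have hfj : ∀ n, f (jY n) = 1 := fun n =>
    Subtype.ext ((QuotientGroup.eq_one_iff (j n)).2 ⟨n, rfl⟩)
  have hfker : ∀ a b : Yt, f a = f b → ∃ m : jY.range, (m : Yt) * b = a := by
    intro a b e
    obtain ⟨n, hn⟩ := (QuotientGroup.eq_one_iff (N := j.range) ((a : Γ) * (b : Γ)⁻¹)).1 (by
      rw [QuotientGroup.mk_mul, QuotientGroup.mk_inv, mul_inv_eq_one]
      exact congrArg Subtype.val e)
    exact ⟨⟨jY n, n, rfl⟩, Subtype.ext (show j n * (b : Γ) = a by rw [hn, inv_mul_cancel_right])⟩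
  let πY : Yt →* H := (π.comp Yt.subtype).codRestrict H fun y => y.2
  have hπY : Function.Surjective πY := by
    rintro ⟨g, hg⟩
    obtain ⟨l, rfl⟩ := hπ g
    exact ⟨⟨l, hg⟩, rfl⟩
  have hπjY : ∀ n, πY (jY n) = Subgroup.inclusion hNH n := fun n => Subtype.ext (hπj n)
  let σY : Yt → ℂ := fun y => σ y
  have hσY : IsCharacter Yt σY := CfsgLib.Clifford.isCharacter_pullback hσ Yt.subtype
  let e := MonoidHom.ofInjective hjYinj
  have hresσ : (fun x : jY.range => σY x) = ((twistIrr e.symm θ : IrrCharacter _) : _ → ℂ) := by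
    funext x
    obtain ⟨n, rfl⟩ := e.surjective x
    show σ (j n) = (θ : N → ℂ) (e.symm (e n))
    rw [e.symm_apply_apply, hσj]
  have hres : IsIrrCharacter jY.range fun x : jY.range => σY x := hresσ ▸ (twistIrr e.symm θ).2
  have hone : pairAvg jY.range σY σY = fun _ => 1 := pairAvg_self jY.range hσY hres
  let kerY : π.ker →* Yt := π.ker.subtype.codRestrict Yt fun z => by
    show π (z : Γ) ∈ H
    rw [z.2]; exact H.one_mem
  -- forward
  have hfwd : ∀ ω : IrrCharacter H',
      Over (incl (coverIncl (π := π) (j := j)) H' hι)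
        (⟨_, isIrrCharacter_of_hom lam⟩ : IrrCharacter π.ker) ω →
      ∃ χ : IrrCharacter H, (∀ y : Yt, (χ : H → ℂ) (πY y) = σY y * (ω : H' → ℂ) (f y)) ∧
        Over (Subgroup.inclusion hNH) θ χ ∧
        charDegree (χ : H → ℂ) = charDegree (θ : N → ℂ) * charDegree (ω : H' → ℂ) := by
    intro ω hω
    rw [over_central_iff _ (fun z => Subgroup.mem_center_iff.2 fun w => Subtype.ext
      (Subgroup.mem_center_iff.1 (coverIncl_center hker z) (w : Γ ⧸ j.range)))] at hω
    let F : Yt → ℂ := fun y => σY y * (ω : H' → ℂ) (f y)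
    have hωY : IsIrrCharacter Yt (fun y => (ω : H' → ℂ) (f y)) :=
      CfsgLib.Clifford.isIrrCharacter_pullback ω.2 f hf
    have hFc : IsCharacter Yt F := isCharacter_mul hσY (isCharacter_of_irr hωY)
    have hFirr : IsIrrCharacter Yt F := by
      refine CfsgLib.Clifford.isIrr_of_norm_one hFc ?_
      have h := classInner_avgN_left jY.range (fun y => σY y * conj (σY y))
        (f := fun y => (ω : H' → ℂ) (f y) * conj ((ω : H' → ℂ) (f y))) (by
          rintro ⟨_, n, rfl⟩ y
          simp only [map_mul, hfj, one_mul])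
      rw [show avgN jY.range (fun y => σY y * conj (σY y)) = fun _ => 1 from hone] at h
      refine Eq.trans ?_ (classInner_irr_self hωY)
      unfold classInner at h ⊢
      refine Eq.trans ?_ (h.symm.trans ?_)
      · congr 1
        exact Finset.sum_congr rfl fun y _ => by simp [F]; ring
      · congr 1
        exact Finset.sum_congr rfl fun y _ => by simp; ring
    have hconst : ∀ a b : Yt, πY a = πY b → F a = F b := by
      intro a b hab
      have hz : π ((a : Γ) * (b : Γ)⁻¹) = 1 := by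
        rw [map_mul, map_inv, show π (a : Γ) = π (b : Γ) from congrArg Subtype.val hab,
          mul_inv_cancel]
      set z : π.ker := ⟨(a : Γ) * (b : Γ)⁻¹, hz⟩
      have h1 : a = kerY z * b := Subtype.ext (inv_mul_cancel_right (a : Γ) (b : Γ)).symm
      have h2 : f (kerY z) = incl (coverIncl (π := π) (j := j)) H' hι z := Subtype.ext rfl
      show σY a * (ω : H' → ℂ) (f a) = σY b * (ω : H' → ℂ) (f b)
      rw [h1, map_mul, h2, hω z (f b)]
      have h3 : σY (kerY z * b) * (lam z : ℂ) = σY b := hlam z b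
      rw [← h3]; ring
    let χ : H → ℂ := fun g => F (Function.surjInv hπY g)
    have hχF : ∀ y, χ (πY y) = F y := fun y => hconst _ _ (Function.surjInv_eq hπY _)
    have hχ : IsIrrCharacter H χ := CfsgLib.CharCorrQ.isIrrCharacter_of_pullback πY hπY (by
      convert hFirr using 1
      funext y
      exact hχF y)
    have hχN : ∀ n, χ (Subgroup.inclusion hNH n) = (ω : H' → ℂ) 1 * (θ : N → ℂ) n := fun n => by
      rw [← hπjY, hχF]
      show σY (jY n) * (ω : H' → ℂ) (f (jY n)) = _
      rw [hfj, mul_comm]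
      exact congrArg (_ * ·) (hσj n)
    refine ⟨⟨χ, hχ⟩, hχF, (over_iff _ _ _).2 ?_, ?_⟩
    · rw [show (fun n => χ (Subgroup.inclusion hNH n)) = (ω : H' → ℂ) 1 • (θ : N → ℂ) from
        funext hχN, classInner_smul_left, classInner_irr_self θ.2, mul_one]
      exact irr_one_ne_zero ω
    · have h1 := hχN 1
      rw [map_one, show χ 1 = ((⟨χ, hχ⟩ : IrrCharacter H) : H → ℂ) 1 from rfl,
        irr_one_eq_charDegree, irr_one_eq_charDegree, irr_one_eq_charDegree, ← Nat.cast_mul,
        Nat.cast_inj] at h1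
      rw [mul_comm]
      exact h1
  choose F hF1 hF2 hF3 using hfwd
  let Φ : {ω : IrrCharacter H' // ¬ p ∣ charDegree (ω : H' → ℂ) ∧
      Over (incl (coverIncl (π := π) (j := j)) H' hι)
        (⟨_, isIrrCharacter_of_hom lam⟩ : IrrCharacter π.ker) ω} →
      {χ : IrrCharacter H // ¬ p ∣ charDegree (χ : H → ℂ) ∧ Over (Subgroup.inclusion hNH) θ χ} :=
    fun ω => ⟨F ω.1 ω.2.2, by rw [hF3]; exact hp.not_dvd_mul hθ ω.2.1, hF2 _ _⟩
  refine (Nat.card_eq_of_bijective Φ ⟨?_, ?_⟩).symm
  · intro ω ω' e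
    have hpa : ∀ ω : IrrCharacter H',
        pairAvg jY.range (fun y => σY y * (ω : H' → ℂ) (f y)) σY = fun y => (ω : H' → ℂ) (f y) := by
      intro ω
      funext y
      have h1 := congrFun hone y
      rw [pairAvg_apply] at h1 ⊢
      rw [← mul_one ((ω : H' → ℂ) (f y)), ← h1, ← mul_assoc,
        mul_comm ((ω : H' → ℂ) (f y)) (_⁻¹ : ℂ), mul_assoc]
      congr 1
      rw [Finset.mul_sum]
      refine Finset.sum_congr rfl fun m _ => ?_
      obtain ⟨n, hn⟩ := m.2
      rw [map_mul f, ← hn, hfj, one_mul]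
      ring
    have e1 : F ω.1 ω.2.2 = F ω'.1 ω'.2.2 := congrArg Subtype.val e
    have e2 : (fun y => σY y * (ω.1 : H' → ℂ) (f y)) = fun y => σY y * (ω'.1 : H' → ℂ) (f y) :=
      funext fun y => by rw [← hF1 ω.1 ω.2.2, ← hF1 ω'.1 ω'.2.2, e1]
    have e3 := (hpa ω.1).symm.trans ((congrArg (pairAvg jY.range · σY) e2).trans (hpa ω'.1))
    exact Subtype.ext (Subtype.ext (funext fun q => by
      obtain ⟨y, rfl⟩ := hf q
      exact congrFun e3 y))
  · rintro ⟨χ, hd, ho⟩
    let ψ : Yt → ℂ := fun y => (χ : H → ℂ) (πY y)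
    have hψ : IsIrrCharacter Yt ψ := CfsgLib.Clifford.isIrrCharacter_pullback χ.2 πY hπY
    have hover : classInner (fun x : jY.range => ψ x) (fun x : jY.range => σY x) ≠ 0 := by
      rw [hresσ, ← classInner_comp_equiv e]
      have h1 := (over_iff _ _ _).1 ho
      convert h1 using 2
      · funext n
        show (χ : H → ℂ) (πY (jY n)) = _
        rw [hπjY]
      · funext n
        show (θ : N → ℂ) (e.symm (e n)) = _
        rw [e.symm_apply_apply]
    have hη := isIrrCharacter_pairAvg jY.range hψ hσY hres hover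
    have hmul := CfsgLib.CharCorrQ.mul_pairAvg_eq jY.range hσY hres hψ hover
    set η := pairAvg jY.range ψ σY
    let ω : H' → ℂ := fun q => η (Function.surjInv hf q)
    have hω : ∀ y, ω (f y) = η y := fun y => by
      obtain ⟨m, hm⟩ := hfker _ _ (Function.surjInv_eq hf (f y))
      show η _ = _
      rw [← hm]
      exact avgN_mul_left _ _ m y
    have hωirr : IsIrrCharacter H' ω := CfsgLib.CharCorrQ.isIrrCharacter_of_pullback f hf (by
      convert hη using 1
      funext y
      exact hω y)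
    have hωo : Over (incl (coverIncl (π := π) (j := j)) H' hι)
        (⟨_, isIrrCharacter_of_hom lam⟩ : IrrCharacter π.ker) ⟨ω, hωirr⟩ := by
      rw [over_central_iff _ (fun z => Subgroup.mem_center_iff.2 fun w => Subtype.ext
        (Subgroup.mem_center_iff.1 (coverIncl_center hker z) (w : Γ ⧸ j.range)))]
      intro z q
      obtain ⟨y, rfl⟩ := hf q
      rw [show incl (coverIncl (π := π) (j := j)) H' hι z = f (kerY z) from Subtype.ext rfl,
        ← map_mul]
      show ω _ = _ * ω _
      rw [hω, hω]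
      show pairAvg jY.range ψ σY (kerY z * y) = _ * pairAvg jY.range ψ σY y
      rw [pairAvg_apply, pairAvg_apply, mul_left_comm (lam z : ℂ),
        Finset.mul_sum _ _ (lam z : ℂ)]
      congr 1
      refine Finset.sum_congr rfl fun m _ => ?_
      have hc : (m : Yt) * (kerY z * y) = kerY z * ((m : Yt) * y) := by
        have hm : Commute ((m : Yt) : Γ) (z : Γ) := Subgroup.mem_center_iff.1 (hker z z.2).1 _
        exact Subtype.ext (hm.left_comm (y : Γ))
      have h4 : σY (kerY z * ((m : Yt) * y)) * (lam z : ℂ) = σY ((m : Yt) * y) := hlam z _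
      have h5 : ψ (kerY z * ((m : Yt) * y)) = ψ ((m : Yt) * y) := by
        show (χ : H → ℂ) (πY _) = _
        rw [map_mul, show πY (kerY z) = 1 from Subtype.ext z.2, one_mul]
      have h6 : (lam z : ℂ) * conj (lam z : ℂ) = 1 := by
        rw [← irr_apply_inv ⟨_, isIrrCharacter_of_hom lam⟩ z]
        simp
      rw [hc, h5, ← h4, map_mul]
      linear_combination (-(ψ ((m : Yt) * y)) * conj (σY (kerY z * ((m : Yt) * y)))) * h6
    have heq : F ⟨ω, hωirr⟩ hωo = χ := Subtype.ext (funext fun g => by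
      obtain ⟨y, rfl⟩ := hπY g
      rw [hF1]
      show σY y * ω (f y) = ψ y
      rw [hω]
      exact congrFun hmul y)
    have hdω : ¬ p ∣ charDegree (⟨ω, hωirr⟩ : IrrCharacter H').1 := fun h' => hd (by
      rw [← heq, hF3]; exact h'.mul_left _)
    exact ⟨⟨⟨ω, hωirr⟩, hdω, hωo⟩, Subtype.ext heq⟩

end Cover

end CfsgLib.RelMcKay
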