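import Cfsg.Agent.Lib.RelMcKay.Basic
import Cfsg.Agent.Lib.Blk4.Gallagher

/-!
# Characters over an invariant character and good cosets

`η` is an irreducible character of `K`, fixed by `T`. The irreducible characters of `T` over `η`
are as many as the classes of cosets `K y` such that `η` extends to every `K⟨y, h⟩` with `h`
commuting with `y` modulo `K`.
-/

set_option autoImplicit false
set_option linter.unusedSectionVars false
set_option linter.style.haveILetI false
set_option linter.unusedSimpArgs false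

noncomputable section

namespace CfsgLib.RelMcKay

open Cfsg CfsgLib.Characters CfsgLib.CharCorr CfsgLib.NormalAvg
open scoped ComplexConjugate

universe u

variable {G : Type u} [Group G] [Fintype G]

/-- `η` extends to an irreducible character of `H`. -/
def Ext {K : Subgroup G} (η : IrrCharacter K) (H : Subgroup G) : Prop :=
  ∃ χ : IrrCharacter H, ∀ (k : K) (h : (k : G) ∈ H), (χ : H → ℂ) ⟨k, h⟩ = (η : K → ℂ) k

/-- The cosets on which characters over `η` can be non-zero. -/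
def Good {K : Subgroup G} (η : IrrCharacter K) (T : Subgroup G) (g : G) : Prop :=
  ∀ h ∈ T, g * h * g⁻¹ * h⁻¹ ∈ K → Ext η (K ⊔ Subgroup.zpowers g ⊔ Subgroup.zpowers h)

theorem normal_subgroupOf_of_le {K H : Subgroup G}
    (h : H ≤ Subgroup.normalizer (K : Set G)) : (K.subgroupOf H).Normal :=
  ⟨fun x hx g => (Subgroup.mem_normalizer_iff.1 (h g.2) (x : G)).1 hx⟩

theorem le_normalizer_sup_zpowers {K : Subgroup G} {y : G}
    (hy : y ∈ Subgroup.normalizer (K : Set G)) :
    K ⊔ Subgroup.zpowers y ≤ Subgroup.normalizer (K : Set G) :=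
  sup_le Subgroup.le_normalizer (Subgroup.zpowers_le.2 hy)

theorem mem_sup_zpowers_iff {K : Subgroup G} {y : G}
    (hy : y ∈ Subgroup.normalizer (K : Set G)) {x : G} :
    x ∈ K ⊔ Subgroup.zpowers y ↔ ∃ k ∈ K, ∃ i : ℤ, k * y ^ i = x := by
  rw [← SetLike.mem_coe, Subgroup.coe_mul_of_right_le_normalizer_left K _
    (Subgroup.zpowers_le.2 hy), Set.mem_mul]
  constructor
  · rintro ⟨k, hk, z, hz, rfl⟩
    obtain ⟨i, rfl⟩ := Subgroup.mem_zpowers_iff.1 hz
    exact ⟨k, hk, i, rfl⟩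
  · rintro ⟨k, hk, i, rfl⟩
    exact ⟨k, hk, y ^ i, Subgroup.zpow_mem_zpowers y i, rfl⟩

/-- Restrictions along an inclusion into the subgroup. -/
theorem classInner_subgroupOf_res {K H : Subgroup G} [Fintype K] [Fintype (K.subgroupOf H)]
    (hKH : K ≤ H) (φ : H → ℂ) (η : IrrCharacter K) :
    classInner (fun n : K.subgroupOf H => φ n)
        (fun n : K.subgroupOf H => (η : K → ℂ) ⟨n, n.2⟩) =
      classInner (fun k : K => φ (Subgroup.inclusion hKH k)) (η : K → ℂ) := by
  rw [← CfsgLib.CharCorr.classInner_comp_equiv (Subgroup.subgroupOfEquivOfLe hKH)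
    (fun k : K => φ (Subgroup.inclusion hKH k)) (η : K → ℂ)]
  rfl

variable {K : Subgroup G} (η : IrrCharacter K)

theorem isIrr_subgroupOf {H : Subgroup G} (hKH : K ≤ H) :
    IsIrrCharacter (K.subgroupOf H) (fun n : K.subgroupOf H => (η : K → ℂ) ⟨n, n.2⟩) :=
  isIrrCharacter_comp_equiv η.2 (Subgroup.subgroupOfEquivOfLe hKH)

variable {η}

/-- An extension stays irreducible on `K`. -/
theorem res_irr_of_ext {H : Subgroup G} (hKH : K ≤ H) {ε : IrrCharacter H}
    (hε : ∀ k : K, (ε : H → ℂ) (Subgroup.inclusion hKH k) = (η : K → ℂ) k) :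
    IsIrrCharacter (K.subgroupOf H) (fun n : K.subgroupOf H => (ε : H → ℂ) n) := by
  have h : (fun n : K.subgroupOf H => (ε : H → ℂ) n) =
      fun n : K.subgroupOf H => (η : K → ℂ) ⟨n, n.2⟩ :=
    funext fun n => hε ⟨n, n.2⟩
  rw [h]; exact isIrr_subgroupOf η hKH

/-- An extension is non-zero somewhere on every coset. -/
theorem exists_ne_zero_coset {H : Subgroup G} (hKH : K ≤ H)
    (hn : H ≤ Subgroup.normalizer (K : Set G)) {ε : IrrCharacter H}
    (hε : ∀ k : K, (ε : H → ℂ) (Subgroup.inclusion hKH k) = (η : K → ℂ) k) (x : H) :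
    ∃ k : K, (ε : H → ℂ) (Subgroup.inclusion hKH k * x) ≠ 0 := by
  classical
  haveI := normal_subgroupOf_of_le hn
  haveI : Fintype (K.subgroupOf H) := Fintype.ofFinite _
  by_contra h
  push Not at h
  have h1 := congrFun (pairAvg_self (K.subgroupOf H) (irr_isCharacter ε) (res_irr_of_ext hKH hε)) x
  rw [pairAvg_apply, Finset.sum_eq_zero (fun n _ => by
    have := h ⟨n, n.2⟩
    rw [show Subgroup.inclusion hKH ⟨(n : H), n.2⟩ * x = (n : H) * x from rfl] at this
    rw [this, zero_mul]), mul_zero] at h1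
  exact zero_ne_one h1

/-- A character over `η` is proportional to an extension on every coset. -/
theorem exists_scalar_coset {H : Subgroup G} [Fintype K] (hKH : K ≤ H)
    (hn : H ≤ Subgroup.normalizer (K : Set G)) {ε : IrrCharacter H}
    (hε : ∀ k : K, (ε : H → ℂ) (Subgroup.inclusion hKH k) = (η : K → ℂ) k)
    {φ : IrrCharacter H} (hφ : Over (Subgroup.inclusion hKH) η φ) (x : H) :
    ∃ c : ℂ, ∀ k : K, (φ : H → ℂ) (Subgroup.inclusion hKH k * x) =
      c * (ε : H → ℂ) (Subgroup.inclusion hKH k * x) := by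
  classical
  haveI := normal_subgroupOf_of_le hn
  haveI : Fintype (K.subgroupOf H) := Fintype.ofFinite _
  haveI : Fintype H := Fintype.ofFinite _
  have hne : classInner (fun n : K.subgroupOf H => (φ : H → ℂ) n)
      (fun n : K.subgroupOf H => (ε : H → ℂ) n) ≠ 0 := by
    rw [show (fun n : K.subgroupOf H => (ε : H → ℂ) n) =
      fun n : K.subgroupOf H => (η : K → ℂ) ⟨n, n.2⟩ from funext fun n => hε ⟨n, n.2⟩,
      classInner_subgroupOf_res hKH]
    exact (over_iff _ η φ).1 hφ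
  have h := CfsgLib.CharCorrQ.mul_pairAvg_eq (K.subgroupOf H) (irr_isCharacter ε)
    (res_irr_of_ext hKH hε) φ.2 hne
  refine ⟨pairAvg (K.subgroupOf H) (φ : H → ℂ) (ε : H → ℂ) x, fun k => ?_⟩
  have h2 := congrFun h (Subgroup.inclusion hKH k * x)
  rw [← h2, Pi.mul_apply, mul_comm]
  congr 1
  exact avgN_mul_left (K.subgroupOf H) _ ⟨Subgroup.inclusion hKH k, k.2⟩ x

/-- A character of `K⟨y⟩` not over `η` is orthogonal to an extension on each coset. -/
theorem sum_coset_eq_zero {H : Subgroup G} [Fintype K] (hKH : K ≤ H)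
    (hn : H ≤ Subgroup.normalizer (K : Set G)) {ε : IrrCharacter H}
    (hε : ∀ k : K, (ε : H → ℂ) (Subgroup.inclusion hKH k) = (η : K → ℂ) k)
    {ψ : H → ℂ} (hψ : IsCharacter H ψ)
    (h0 : classInner (fun k : K => ψ (Subgroup.inclusion hKH k)) (η : K → ℂ) = 0) (x : H) :
    ∑ k : K, (ε : H → ℂ) (Subgroup.inclusion hKH k * x) *
      conj (ψ (Subgroup.inclusion hKH k * x)) = 0 := by
  classical
  haveI := normal_subgroupOf_of_le hn
  haveI : Fintype (K.subgroupOf H) := Fintype.ofFinite _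
  haveI : Fintype H := Fintype.ofFinite _
  have h1 : classInner (fun n : K.subgroupOf H => (ε : H → ℂ) n)
      (fun n : K.subgroupOf H => ψ n) = 0 := by
    rw [classInner_conj_symm, show (fun n : K.subgroupOf H => (ε : H → ℂ) n) =
      fun n : K.subgroupOf H => (η : K → ℂ) ⟨n, n.2⟩ from funext fun n => hε ⟨n, n.2⟩,
      classInner_subgroupOf_res hKH, h0, map_zero]
  have h2 := congrFun (pairAvg_eq_zero (K.subgroupOf H) (irr_isCharacter ε) hψ h1) x
  rw [pairAvg_apply, Pi.zero_apply, mul_eq_zero] at h2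
  rcases h2 with h2 | h2
  · simp at h2
  · refine (Fintype.sum_equiv (Subgroup.subgroupOfEquivOfLe hKH).toEquiv _ _ fun n => ?_).symm.trans h2
    rfl

/-- An invariant character extends over a cyclic step. -/
theorem ext_cyclic {H : Subgroup G} {y : G} (hy : y ∈ Subgroup.normalizer (K : Set G))
    (hH : H = K ⊔ Subgroup.zpowers y) (hinv : CInv K.subtype η y) : Ext η H := by
  classical
  have hKH : K ≤ H := hH ▸ le_sup_left
  have hn : H ≤ Subgroup.normalizer (K : Set G) := hH ▸ le_normalizer_sup_zpowers hy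
  haveI := normal_subgroupOf_of_le hn
  let N := K.subgroupOf H
  let yH : H := ⟨y, hH ▸ Subgroup.mem_sup_right (Subgroup.mem_zpowers y)⟩
  have hmem : ∀ x : H, ∃ k : N, ∃ i : ℤ, (k : H) * yH ^ i = x := by
    intro x
    obtain ⟨k, hk, i, hki⟩ := (mem_sup_zpowers_iff hy).1 (hH ▸ x.2 : (x : G) ∈ K ⊔ _)
    exact ⟨⟨⟨k, hKH hk⟩, hk⟩, i, Subtype.ext (by simpa [yH] using hki)⟩
  haveI : IsCyclic (H ⧸ N) := by
    refine ⟨⟨QuotientGroup.mk yH, fun q => ?_⟩⟩
    obtain ⟨x, rfl⟩ := QuotientGroup.mk_surjective q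
    obtain ⟨k, i, rfl⟩ := hmem x
    refine ⟨i, ?_⟩
    rw [QuotientGroup.mk_mul, (QuotientGroup.eq_one_iff (k : H)).2 k.2, one_mul,
      QuotientGroup.mk_zpow]
  have hinv' : ∀ (g : H) (n : N), (η : K → ℂ) ⟨((g * n * g⁻¹ : H) : G),
      (inferInstance : N.Normal).conj_mem (n : H) n.2 g⟩ = (η : K → ℂ) ⟨n, n.2⟩ := by
    let A : Subgroup H := CfsgLib.Clifford.inertia (inferInstance : N.Normal)
      (fun n : N => (η : K → ℂ) ⟨n, n.2⟩)
    have hNA : N ≤ A := CfsgLib.Clifford.le_inertia _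
      (isClassFunction_of_isCharacter (isCharacter_of_irr (isIrr_subgroupOf η hKH)))
    have hyA : yH ∈ A := CfsgLib.Clifford.mem_inertia.2 fun n =>
      hinv ⟨n, n.2⟩ _ (by simp [yH])
    intro g n
    obtain ⟨k, i, rfl⟩ := hmem g
    exact CfsgLib.Clifford.mem_inertia.1 (A.mul_mem (hNA k.2) (A.zpow_mem hyA i)) n
  obtain ⟨χ, hχ, hres⟩ := CfsgLib.CharExtension.extends_of_isCyclic N
    (ϑ := fun n : N => (η : K → ℂ) ⟨n, n.2⟩) (isIrr_subgroupOf η hKH) hinv'
  exact ⟨⟨χ, hχ⟩, fun k h => hres ⟨⟨k, h⟩, k.2⟩⟩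

/-- An extension invariant on the generating coset extends further. -/
theorem ext_of_inv_coset {H H' : Subgroup G} [Fintype K] {y h : G}
    (hy : y ∈ Subgroup.normalizer (K : Set G)) (hH : H = K ⊔ Subgroup.zpowers y)
    (hh : h ∈ Subgroup.normalizer (K : Set G)) (hcomm : h * y * h⁻¹ * y⁻¹ ∈ K)
    (hinv : CInv K.subtype η h) {ε : IrrCharacter H}
    (hε : ∀ (k : K) (hk : (k : G) ∈ H), (ε : H → ℂ) ⟨k, hk⟩ = (η : K → ℂ) k)
    (hc : ∀ (x x' : H), (x : G) * y⁻¹ ∈ K → (x' : G) = h * x * h⁻¹ →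
      (ε : H → ℂ) x' = (ε : H → ℂ) x)
    (hH' : H' = H ⊔ Subgroup.zpowers h) : Ext η H' := by
  classical
  have hKH : K ≤ H := hH ▸ le_sup_left
  have hn : H ≤ Subgroup.normalizer (K : Set G) := hH ▸ le_normalizer_sup_zpowers hy
  have hconj : ∀ x ∈ H, h * x * h⁻¹ ∈ H := by
    intro x hx
    rw [hH, mem_sup_zpowers_iff hy] at hx
    obtain ⟨k, hk, i, rfl⟩ := hx
    rw [show h * (k * y ^ i) * h⁻¹ = (h * k * h⁻¹) * (h * y * h⁻¹) ^ i by
      rw [conj_zpow]; group]
    refine H.mul_mem (hKH ((Subgroup.mem_normalizer_iff.1 hh k).1 hk)) (H.zpow_mem ?_ i)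
    rw [show h * y * h⁻¹ = (h * y * h⁻¹ * y⁻¹) * y by group]
    exact H.mul_mem (hKH hcomm) (hH ▸ Subgroup.mem_sup_right (Subgroup.mem_zpowers y))
  let c : H →* H :=
    { toFun := fun x => ⟨h * x * h⁻¹, hconj x x.2⟩
      map_one' := Subtype.ext (by simp)
      map_mul' := fun a b => Subtype.ext (by simp [mul_assoc]) }
  have hcbij : Function.Bijective c := by
    refine Finite.injective_iff_bijective.1 fun a b e => Subtype.ext ?_
    have := congrArg Subtype.val e
    simpa [c] using this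
  let ε' : IrrCharacter H := twistIrr (MulEquiv.ofBijective c hcbij) ε
  have hε' : ∀ x : H, (ε' : H → ℂ) x = (ε : H → ℂ) (c x) := fun x => rfl
  have hres' : ∀ k : K, (ε' : H → ℂ) (Subgroup.inclusion hKH k) = (η : K → ℂ) k := by
    intro k
    rw [hε']
    have h1 : h * k * h⁻¹ ∈ K := (Subgroup.mem_normalizer_iff.1 hh k).1 k.2
    exact (hε ⟨_, h1⟩ (hKH h1)).trans (hinv k ⟨_, h1⟩ rfl)
  have hres : ∀ k : K, (ε : H → ℂ) (Subgroup.inclusion hKH k) = (η : K → ℂ) k :=
    fun k => hε k (hKH k.2)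
  haveI := normal_subgroupOf_of_le hn
  haveI : Fintype (K.subgroupOf H) := Fintype.ofFinite _
  haveI : Fintype H := Fintype.ofFinite _
  let yH : H := ⟨y, hH ▸ Subgroup.mem_sup_right (Subgroup.mem_zpowers y)⟩
  have hmem : ∀ x : H, ∃ k : K.subgroupOf H, ∃ i : ℤ, (k : H) * yH ^ i = x := by
    intro x
    obtain ⟨k, hk, i, hki⟩ := (mem_sup_zpowers_iff hy).1 (hH ▸ x.2 : (x : G) ∈ K ⊔ _)
    exact ⟨⟨⟨k, hKH hk⟩, hk⟩, i, Subtype.ext (by simpa [yH] using hki)⟩
  have hgen : ∀ q : H ⧸ K.subgroupOf H, ∃ i : ℤ, q = (QuotientGroup.mk yH) ^ i := by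
    intro q
    obtain ⟨x, rfl⟩ := QuotientGroup.mk_surjective q
    obtain ⟨k, i, rfl⟩ := hmem x
    exact ⟨i, by rw [QuotientGroup.mk_mul, (QuotientGroup.eq_one_iff (k : H)).2 k.2, one_mul,
      QuotientGroup.mk_zpow]⟩
  obtain ⟨μ, hμ, hμeq⟩ := CfsgLib.Blk4.Gallagher.exists_linear_factor (K.subgroupOf H)
    (fun a b => by
      obtain ⟨i, rfl⟩ := hgen a
      obtain ⟨l, rfl⟩ := hgen b
      rw [← zpow_add, ← zpow_add, add_comm]) ε' ε (res_irr_of_ext hKH hres) (by
      have e1 : (fun n : K.subgroupOf H => (ε' : H → ℂ) n) =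
          fun n : K.subgroupOf H => (η : K → ℂ) ⟨n, n.2⟩ := funext fun n => hres' ⟨n, n.2⟩
      have e2 : (fun n : K.subgroupOf H => (ε : H → ℂ) n) =
          fun n : K.subgroupOf H => (η : K → ℂ) ⟨n, n.2⟩ := funext fun n => hres ⟨n, n.2⟩
      rw [e1, e2, classInner_irr_self (isIrr_subgroupOf η hKH)]
      exact one_ne_zero)
  obtain ⟨k, hk⟩ := exists_ne_zero_coset hKH hn hres yH
  have hμy : μ yH = 1 := by
    have h1 := congrFun hμeq (Subgroup.inclusion hKH k * yH)
    rw [hε', hc _ (c (Subgroup.inclusion hKH k * yH)) (by simp [yH]) rfl, map_mul,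
      show μ (Subgroup.inclusion hKH k) = 1 from hμ ⟨_, k.2⟩, one_mul] at h1
    exact Units.ext (mul_left_cancel₀ hk (by rw [Units.val_one, mul_one]; exact h1.symm))
  have hμ1 : ∀ x, μ x = 1 := by
    intro x
    obtain ⟨n, i, rfl⟩ := hmem x
    rw [map_mul, map_zpow, hμy, hμ n, one_zpow, mul_one]
  have hinvH : CInv H.subtype ε h := by
    intro x x' e
    rw [show x' = c x from Subtype.ext e, ← hε', congrFun hμeq x, hμ1, Units.val_one, mul_one]
  have hhn : h ∈ Subgroup.normalizer (H : Set G) := by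
    refine mem_normalizer_of_conj_mem ?_
    exact hconj
  obtain ⟨χ, hχ⟩ := ext_cyclic hhn hH' hinvH
  exact ⟨χ, fun k hk' => (hχ ⟨k, hKH k.2⟩ hk').trans (hε k (hKH k.2))⟩
where
  mem_normalizer_of_conj_mem {H : Subgroup G} {h : G} (hc : ∀ x ∈ H, h * x * h⁻¹ ∈ H) :
      h ∈ Subgroup.normalizer (H : Set G) := by
    rw [Subgroup.mem_normalizer_iff]
    let f : H → H := fun x => ⟨h * x * h⁻¹, hc x x.2⟩
    have hf : Function.Surjective f := Finite.surjective_of_injective fun a b e => Subtype.ext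
      (by simpa [f] using congrArg Subtype.val e)
    refine fun x => ⟨hc x, fun hx => ?_⟩
    obtain ⟨⟨z, hz⟩, hzx⟩ := hf ⟨_, hx⟩
    have : z = x := by simpa [f] using congrArg Subtype.val hzx
    exact this ▸ hz

end CfsgLib.RelMcKay
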