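import Cfsg.Agent.Lib.RelMcKay.Data
import Cfsg.Agent.Lib.RelMcKay.Decompose
import Cfsg.Agent.Lib.PCore.PSolvable
import Mathlib.GroupTheory.SchurZassenhaus

/-!
# Sylow subgroups, conjugates of invariant characters and factors of `p`-solvable groups
-/

set_option autoImplicit false
set_option linter.unusedSectionVars false
set_option linter.style.haveILetI false

noncomputable section

namespace CfsgLib.RelMcKay

open Cfsg CfsgLib.Characters CfsgLib.CharCorr

universe u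

variable {p : ℕ} {G : Type u} [Group G] [Fintype G]

/-- Two Sylow subgroups inside `T` are conjugate in `T`. -/
theorem exists_conj_in (hp : p.Prime) {S S' T : Subgroup G} (hS : IsPGroup p S)
    (hidx : ¬ p ∣ S.index) (hS' : IsPGroup p S') (hST : S ≤ T) (hS'T : S' ≤ T) :
    ∃ t ∈ T, ∀ x ∈ S', t * x * t⁻¹ ∈ S := by
  haveI : Fact p.Prime := ⟨hp⟩
  have h1 : ¬ p ∣ (S.subgroupOf T).index := fun hd => hidx (hd.trans
    (Dvd.intro _ (Subgroup.relIndex_mul_index hST)))
  let P : Sylow p T := (hS.of_equiv (Subgroup.subgroupOfEquivOfLe hST).symm).toSylow h1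
  obtain ⟨Q, hQ⟩ :=
    (hS'.of_equiv (Subgroup.subgroupOfEquivOfLe hS'T).symm).exists_le_sylow
  obtain ⟨t, ht⟩ := MulAction.exists_smul_eq T Q P
  refine ⟨t, t.2, fun x hx => ?_⟩
  have h2 : (⟨x, hS'T hx⟩ : T) ∈ (Q : Subgroup T) := hQ hx
  have h3 : t * ⟨x, hS'T hx⟩ * t⁻¹ ∈ ((t • Q : Sylow p T) : Subgroup T) := by
    rw [Sylow.smul_def]
    exact ⟨_, h2, rfl⟩
  rw [ht] at h3
  exact h3

theorem mem_normalizer_of_conj {S : Subgroup G} {g : G} (h : ∀ x ∈ S, g * x * g⁻¹ ∈ S) :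
    g ∈ Subgroup.normalizer (S : Set G) := by
  rw [Subgroup.mem_normalizer_iff]
  let f : S → S := fun x => ⟨g * x * g⁻¹, h x x.2⟩
  have hf : Function.Surjective f := Finite.surjective_of_injective fun a b e =>
    Subtype.ext (by simpa [f] using congrArg Subtype.val e)
  refine fun x => ⟨h x, fun hx => ?_⟩
  obtain ⟨⟨z, hz⟩, hzx⟩ := hf ⟨_, hx⟩
  have : z = x := by simpa [f] using congrArg Subtype.val hzx
  exact this ▸ hz

/-- A central subgroup does not change the normaliser of a Sylow subgroup. -/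
theorem normalizer_central_sup (hp : p.Prime) {S R : Subgroup G} (hS : IsPGroup p S)
    (hidx : ¬ p ∣ S.index) (hR : R ≤ Subgroup.center G) :
    Subgroup.normalizer ((R ⊔ S : Subgroup G) : Set G) = Subgroup.normalizer (S : Set G) := by
  haveI : Fact p.Prime := ⟨hp⟩
  have hRn : ∀ g : G, ∀ r ∈ R, g * r * g⁻¹ = r := fun g r hr => by
    rw [Subgroup.mem_center_iff.1 (hR hr) g, mul_inv_cancel_right]
  have hle : R ⊔ S ≤ Subgroup.normalizer (S : Set G) := sup_le (fun r hr =>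
    mem_normalizer_of_conj fun x hx => by
      rw [← Subgroup.mem_center_iff.1 (hR hr) x, mul_inv_cancel_right]; exact hx)
    Subgroup.le_normalizer
  refine le_antisymm (fun n hn => mem_normalizer_of_conj fun x hx => ?_)
    (fun n hn => mem_normalizer_of_conj fun x hx => ?_)
  · -- the conjugate is a `p`-subgroup normalising `S`
    let S' := S.map (MulAut.conj n).toMonoidHom
    have hS' : IsPGroup p S' := hS.map _
    have hS'le : S' ≤ Subgroup.normalizer (S : Set G) := by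
      rintro _ ⟨y, hy, rfl⟩
      exact hle ((Subgroup.mem_normalizer_iff.1 hn y).1 (Subgroup.mem_sup_right hy))
    have := (hS.toSylow hidx).is_maximal' (hS'.to_sup_of_normal_right' hS hS'le) le_sup_right
    rw [IsPGroup.toSylow_coe] at this
    exact this.le (Subgroup.mem_sup_left ⟨x, hx, rfl⟩)
  · obtain ⟨r, hr, s, hs, rfl⟩ : ∃ r ∈ R, ∃ s ∈ S, r * s = x := by
      have hSR : S ≤ Subgroup.normalizer (R : Set G) := fun s _ =>
        mem_normalizer_of_conj fun r hr => by rw [hRn s r hr]; exact hr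
      rw [← SetLike.mem_coe, Subgroup.coe_mul_of_right_le_normalizer_left R S hSR] at hx
      exact hx
    rw [show n * (r * s) * n⁻¹ = (n * r * n⁻¹) * (n * s * n⁻¹) by group, hRn n r hr]
    exact Subgroup.mul_mem_sup hr ((Subgroup.mem_normalizer_iff.1 hn s).1 hs)

/-- A factor of a `p`-solvable group above a proper normal subgroup. -/
theorem exists_factor_above (hp : p.Prime) (hG : IsPSolvable p G) (R : Subgroup G) [R.Normal]
    (hR : R ≠ ⊤) : ∃ M : Subgroup G, M.Normal ∧ R < M ∧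
      ((∃ m : ℕ, R.relIndex M = p ^ m) ∨ ¬ p ∣ R.relIndex M) := by
  obtain ⟨n, C, h0, hn, hm, hN, hF⟩ := hG
  have hex : ∃ i : Fin n, C i.castSucc ≤ R ∧ ¬ C i.succ ≤ R := by
    by_contra hne
    push Not at hne
    have hall : ∀ i : Fin (n + 1), C i ≤ R := by
      intro i
      induction i using Fin.induction with
      | zero => rw [h0]; exact bot_le
      | succ i ih => exact hne i ih
    exact hR (top_le_iff.1 (hn ▸ hall (Fin.last n)))
  obtain ⟨i, hi1, hi2⟩ := hex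
  haveI := hN i.succ
  have hd : R.relIndex (C i.succ ⊔ R) ∣ (C i.castSucc).relIndex (C i.succ) := by
    rw [Subgroup.relIndex_sup_right]
    exact Subgroup.relIndex_dvd_of_le_left _ hi1
  refine ⟨C i.succ ⊔ R, Subgroup.sup_normal _ _,
    lt_of_le_of_ne le_sup_right fun e => hi2 (sup_eq_right.1 e.symm), ?_⟩
  rcases hF i with ⟨m, hm'⟩ | hc
  · rw [hm'] at hd
    obtain ⟨k, -, hk⟩ := (Nat.dvd_prime_pow hp).1 hd
    exact Or.inl ⟨k, hk⟩
  · exact Or.inr fun h => hp.coprime_iff_not_dvd.1 hc.symm (h.trans hd)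

/-- Contributing characters have a conjugate invariant under a given Sylow subgroup. -/
theorem exists_inv_conj {K : Type u} [Group K] [Fintype K] {i : K →* G} (hp : p.Prime)
    (hi : Function.Injective i) (hn : i.range.Normal) {S : Subgroup G} (hS : IsPGroup p S)
    (hidx : ¬ p ∣ S.index) {η : IrrCharacter K} (hc : cnt p i η ≠ 0) :
    ∃ ξ, GConj i η ξ ∧ ∀ s ∈ S, CInv i ξ s := by
  haveI : Fact p.Prime := ⟨hp⟩
  obtain ⟨⟨χ, hd, ho⟩⟩ := (Nat.card_ne_zero.1 hc).1
  set T := stab hi hn η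
  have hTi : ¬ p ∣ T.index := fun h => hd (by
    rw [degree_eq hi hn η ho]; exact (h.mul_left _).mul_right _)
  obtain ⟨P⟩ : Nonempty (Sylow p T) := inferInstance
  let S' := (P : Subgroup T).map T.subtype
  have hS'T : S' ≤ T := Subgroup.map_subtype_le _
  have hS' : IsPGroup p S' := P.isPGroup'.map _
  have hi' : ¬ p ∣ S'.index := by
    rw [← Subgroup.relIndex_mul_index hS'T, Subgroup.relIndex, Subgroup.subgroupOf,
      Subgroup.comap_map_eq_self_of_injective T.subtype_injective]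
    exact hp.not_dvd_mul P.not_dvd_index hTi
  obtain ⟨g, -, hg⟩ := exists_conj_in hp hS' hi' hS (le_top : S' ≤ ⊤) le_top
  choose f hf using exists_conj hn g
  have hf1 : Function.Injective f := fun a b e => hi (by
    have := congrArg i e
    rw [hf, hf] at this
    simpa using this)
  let e : K ≃* K := MulEquiv.ofBijective (MonoidHom.mk' f fun a b => hi (by
    rw [map_mul, hf, hf, hf, map_mul]; group)) (Finite.injective_iff_bijective.1 hf1)
  refine ⟨twistIrr e η, ⟨g, fun k k' h => ?_⟩, fun s hs k k' h => ?_⟩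
  · show (η : K → ℂ) k' = (η : K → ℂ) (f k)
    rw [hi ((hf k).trans h.symm)]
  · show (η : K → ℂ) (f k') = (η : K → ℂ) (f k)
    refine (mem_stab hi hn η).1 (hS'T (hg s hs)) (f k) (f k') ?_
    rw [hf, hf, h]
    group

/-- Invariant conjugates are conjugate under the normaliser. -/
theorem exists_normalizer_conj {K : Type u} [Group K] [Fintype K] {i : K →* G} (hp : p.Prime)
    (hi : Function.Injective i) (hn : i.range.Normal) {S : Subgroup G} (hS : IsPGroup p S)
    (hidx : ¬ p ∣ S.index) {ξ ξ' : IrrCharacter K} (hξ : ∀ s ∈ S, CInv i ξ s)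
    (hξ' : ∀ s ∈ S, CInv i ξ' s) (h : GConj i ξ ξ') :
    ∃ n ∈ Subgroup.normalizer (S : Set G),
      ∀ k k' : K, i k' = n * i k * n⁻¹ → (ξ : K → ℂ) k' = (ξ' : K → ℂ) k := by
  obtain ⟨g, hg⟩ := h
  set T := stab hi hn ξ
  have hST : S ≤ T := fun s hs => (mem_stab hi hn ξ).2 (hξ s hs)
  let S' := S.map (MulAut.conj g).toMonoidHom
  have hS'T : S' ≤ T := by
    rintro _ ⟨s, hs, rfl⟩
    refine (mem_stab hi hn ξ).2 fun k k' e => ?_
    obtain ⟨k₀, hk₀⟩ := exists_conj hn g⁻¹ k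
    obtain ⟨k₁, hk₁⟩ := exists_conj hn g⁻¹ k'
    rw [hg k₀ k (by rw [hk₀]; group), hg k₁ k' (by rw [hk₁]; group)]
    refine hξ' s hs k₀ k₁ ?_
    have e' : i k' = g * s * g⁻¹ * i k * (g * s * g⁻¹)⁻¹ := e
    rw [hk₁, hk₀, e']
    group
  obtain ⟨t, ht, htx⟩ := exists_conj_in hp hS hidx (hS.map _) hST hS'T
  refine ⟨t * g, mem_normalizer_of_conj fun x hx => ?_, fun k k' e => ?_⟩
  · have h1 := htx (g * x * g⁻¹) ⟨x, hx, rfl⟩
    rwa [show t * g * x * (t * g)⁻¹ = t * (g * x * g⁻¹) * t⁻¹ by group]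
  · obtain ⟨k₂, hk₂⟩ := exists_conj hn g k
    rw [← hg k k₂ hk₂]
    exact (mem_stab hi hn ξ).1 ht k₂ k' (by rw [e, hk₂]; group)

/-- The part of order prime to `p` above a central subgroup. -/
theorem exists_pPrime_part (hp : p.Prime) {S R M : Subgroup G} (hS : IsPGroup p S)
    (hidx : ¬ p ∣ S.index) [hM : M.Normal] (hR : R ≤ Subgroup.center G) (hRM : R ≤ M)
    (hfac : ¬ p ∣ R.relIndex M) :
    ∃ M₀ : Subgroup G, M₀.Normal ∧ ¬ p ∣ Nat.card M₀ ∧ M₀ ⊔ S = M ⊔ S := by
  haveI : Fact p.Prime := ⟨hp⟩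
  haveI : R.Normal := ⟨fun r hr g => by
    rwa [Subgroup.mem_center_iff.1 (hR hr) g, mul_inv_cancel_right]⟩
  set P1 := S ⊓ M
  have hP1R : P1 ≤ R := by
    intro x hx
    haveI : (R.subgroupOf M).Normal := ‹R.Normal›.subgroupOf M
    obtain ⟨n, hn⟩ := hS ⟨x, hx.1⟩
    have h1 : (QuotientGroup.mk (⟨x, hx.2⟩ : M) : M ⧸ R.subgroupOf M) ^ p ^ n = 1 := by
      rw [← QuotientGroup.mk_pow, show (⟨x, hx.2⟩ : M) ^ p ^ n = 1 from
        Subtype.ext ((SubmonoidClass.coe_pow _ _).trans (congrArg Subtype.val hn)),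
        QuotientGroup.mk_one]
    have h2 : (QuotientGroup.mk (⟨x, hx.2⟩ : M) : M ⧸ R.subgroupOf M) ^ R.relIndex M = 1 := by
      rw [Subgroup.relIndex, Subgroup.index_eq_card]; exact pow_card_eq_one'
    have h3 := pow_gcd_eq_one.2 ⟨h1, h2⟩
    rw [((hp.coprime_iff_not_dvd.2 hfac).pow_left n).gcd_eq_one, pow_one,
      QuotientGroup.eq_one_iff] at h3
    exact h3
  have hP1c : ∀ x ∈ P1, ∀ g : G, g * x = x * g := fun x hx g =>
    Subgroup.mem_center_iff.1 (hR (hP1R hx)) g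
  haveI : (P1.subgroupOf M).Normal := ⟨fun x hx g => by
    show ((g * x * g⁻¹ : M) : G) ∈ P1
    rw [Subgroup.coe_mul, Subgroup.coe_mul, InvMemClass.coe_inv, hP1c (x : G) hx, mul_inv_cancel_right]
    exact hx⟩
  have hidxM : ¬ p ∣ (P1.subgroupOf M).index := by
    show ¬ p ∣ P1.relIndex M
    have e1 := Subgroup.relIndex_mul_relIndex P1 M (S ⊔ M) inf_le_right le_sup_right
    have e2 := Subgroup.relIndex_mul_relIndex P1 S (S ⊔ M) inf_le_left le_sup_left
    rw [Subgroup.relIndex_sup_right] at e1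
    rw [show P1.relIndex S = M.relIndex S from Subgroup.inf_relIndex_left S M, mul_comm, ← e1] at e2
    have e3 := Nat.eq_of_mul_eq_mul_right (Nat.pos_of_ne_zero (M.subgroupOf S).index_ne_zero_of_finite) e2
    exact fun h => hidx ((e3 ▸ h).trans (Dvd.intro _ (Subgroup.relIndex_mul_index le_sup_left)))
  obtain ⟨b, hb⟩ := IsPGroup.iff_card.1 ((hS.to_le (inf_le_left : P1 ≤ S)).of_equiv
    (Subgroup.subgroupOfEquivOfLe (inf_le_right : P1 ≤ M)).symm)
  obtain ⟨Q, hQ⟩ := Subgroup.exists_right_complement'_of_coprime (N := P1.subgroupOf M)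
    (by rw [hb]; exact (hp.coprime_iff_not_dvd.2 hidxM).pow_left b)
  set M₀ := Q.map M.subtype
  have hM₀M : M₀ ≤ M := Subgroup.map_subtype_le Q
  have hcard : Nat.card M₀ = (P1.subgroupOf M).index := by
    rw [Nat.card_congr (Q.equivMapOfInjective M.subtype M.subtype_injective).toEquiv.symm]
    exact hQ.symm.index_eq_card.symm
  have hp0 : ¬ p ∣ Nat.card M₀ := hcard ▸ hidxM
  have hdec : ∀ x ∈ M, ∃ a ∈ P1, ∃ q ∈ M₀, a * q = x := fun x hx => by
    obtain ⟨⟨a, q⟩, he⟩ := hQ.2 ⟨x, hx⟩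
    exact ⟨(a : M), a.2, (q : M), ⟨q, q.2, rfl⟩, congrArg Subtype.val he⟩
  refine ⟨M₀, ⟨fun x hx g => ?_⟩, hp0, ?_⟩
  · obtain ⟨a, ha, q, hq, e⟩ := hdec _ (hM.conj_mem x (hM₀M hx) g)
    have hc : Commute a q := (hP1c a ha q).symm
    have h1 : (g * x * g⁻¹) ^ Nat.card M₀ = 1 := by
      rw [conj_pow, show x ^ Nat.card M₀ = 1 from (SubmonoidClass.coe_pow (⟨x, hx⟩ : M₀) _).symm.trans
        (congrArg Subtype.val pow_card_eq_one'), mul_one, mul_inv_cancel]
    have h2 : q ^ Nat.card M₀ = 1 := (SubmonoidClass.coe_pow (⟨q, hq⟩ : M₀) _).symm.trans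
      (congrArg Subtype.val pow_card_eq_one')
    rw [← e, hc.mul_pow, h2, mul_one] at h1
    obtain ⟨n, hn⟩ := hS ⟨a, ha.1⟩
    have h3 := pow_gcd_eq_one.2 ⟨congrArg Subtype.val hn, h1⟩
    rw [((hp.coprime_iff_not_dvd.2 hp0).pow_left n).gcd_eq_one, pow_one] at h3
    rw [← e, show a = 1 from h3, one_mul]
    exact hq
  · refine le_antisymm (sup_le_sup_right hM₀M _) (sup_le (fun x hx => ?_) le_sup_right)
    obtain ⟨a, ha, q, hq, rfl⟩ := hdec x hx
    exact Subgroup.mul_mem _ (Subgroup.mem_sup_right ha.1) (Subgroup.mem_sup_left hq)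

end CfsgLib.RelMcKay
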