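import Cfsg.Agent.Lib.RelMcKay.Core
import Cfsg.Agent.Lib.RelMcKay.Cover
import Cfsg.Agent.Lib.RelMcKay.SylowTools

/-!
# The relative count for `p`-solvable groups

By induction on the index of the normal subgroup: reduce to an invariant character, then to a
central subgroup, then pass to a larger normal subgroup with a `p`- or `p'`-factor.
-/

set_option autoImplicit false
set_option linter.unusedSectionVars false
set_option linter.style.haveILetI false

noncomputable section

namespace CfsgLib.RelMcKay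

open Cfsg CfsgLib.Characters CfsgLib.CharCorr

universe u

/-- The statement at index `n`. -/
def Claim (p : ℕ) (n : ℕ) : Prop :=
  ∀ (G L : Type u) [Group G] [Group L] [Fintype G] [Fintype L] (j : L →* G),
    Function.Injective j → j.range.Normal → IsPSolvable p G → j.range.index = n →
    ∀ (S : Subgroup G), IsPGroup p S → ¬ p ∣ S.index → ∀ ν : IrrCharacter L,
      (∀ s ∈ S, CInv j ν s) →
      ∀ hN : ∀ l, j l ∈ Subgroup.normalizer ((j.range ⊔ S : Subgroup G) : Set G),
        cnt p j ν = cnt p (incl j _ hN) ν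

variable {p : ℕ} {G L : Type u} [Group G] [Group L] [Fintype G] [Fintype L] {j : L →* G}

theorem relIndex_sup_of_normal (A M : Subgroup G) [M.Normal] :
    A.relIndex (A ⊔ M) = A.relIndex M := by
  have e1 := Subgroup.relIndex_mul_relIndex (A ⊓ M) M (A ⊔ M) inf_le_right le_sup_right
  have e2 := Subgroup.relIndex_mul_relIndex (A ⊓ M) A (A ⊔ M) inf_le_left le_sup_left
  rw [Subgroup.relIndex_sup_right, Subgroup.inf_relIndex_right] at e1
  rw [Subgroup.inf_relIndex_left, mul_comm, ← e1] at e2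
  exact Nat.eq_of_mul_eq_mul_right
    (Nat.pos_of_ne_zero (M.subgroupOf A).index_ne_zero_of_finite) e2

theorem range_incl {T : Subgroup G} (h : ∀ l, j l ∈ T) :
    (incl j T h).range = j.range.subgroupOf T := by
  ext x
  exact ⟨fun ⟨l, hl⟩ => ⟨l, congrArg Subtype.val hl⟩, fun ⟨l, hl⟩ => ⟨l, Subtype.ext hl⟩⟩

theorem not_dvd_relIndex_of_le (S : Subgroup G) (hidx : ¬ p ∣ S.index) {T : Subgroup G}
    (hST : S ≤ T) : ¬ p ∣ (S.subgroupOf T).index := fun hd =>
  hidx (hd.trans (Dvd.intro _ (Subgroup.relIndex_mul_index hST)))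

/-- The induction hypothesis inside a proper subgroup. -/
theorem claim_sub (hp : p.Prime) (IH : ∀ m < j.range.index, Claim.{u} p m)
    (hj : Function.Injective j) (hn : j.range.Normal) (hG : IsPSolvable p G) {S : Subgroup G}
    (hS : IsPGroup p S) (hidx : ¬ p ∣ S.index) (ν : IrrCharacter L)
    (hν : ∀ s ∈ S, CInv j ν s) {T : Subgroup G} (hT : T ≠ ⊤) (hRT : j.range ⊔ S ≤ T)
    (hjT : ∀ l, j l ∈ T)
    (hjN : ∀ l, j l ∈ Subgroup.normalizer ((j.range ⊔ S : Subgroup G) : Set G) ⊓ T) :
    cnt p (incl j T hjT) ν =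
      cnt p (incl j (Subgroup.normalizer ((j.range ⊔ S : Subgroup G) : Set G) ⊓ T) hjN) ν := by
  haveI : Fact p.Prime := ⟨hp⟩
  haveI : Fintype T := Fintype.ofFinite _
  have hRle : j.range ≤ T := le_sup_left.trans hRT
  have hlt : (incl j T hjT).range.index < j.range.index := by
    rw [range_incl, ← Subgroup.relIndex_mul_index hRle]
    refine (Nat.lt_mul_iff_one_lt_right ?_).2 ?_
    · exact Nat.pos_of_ne_zero Subgroup.index_ne_zero_of_finite
    · have h1 : T.index ≠ 1 := fun h => hT (Subgroup.index_eq_one.1 h)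
      have h2 : T.index ≠ 0 := Subgroup.index_ne_zero_of_finite
      omega
  have he : Subgroup.normalizer
      (((incl j T hjT).range ⊔ S.subgroupOf T : Subgroup T) : Set T) =
      (Subgroup.normalizer ((j.range ⊔ S : Subgroup G) : Set G) ⊓ T).subgroupOf T := by
    rw [range_incl, ← Subgroup.subgroupOf_sup hRle (le_sup_right.trans hRT),
      ← Subgroup.subgroupOf_normalizer_eq hRT, Subgroup.inf_subgroupOf_right]
  have hj1 : ∀ l, incl j T hjT l ∈
      (Subgroup.normalizer ((j.range ⊔ S : Subgroup G) : Set G) ⊓ T).subgroupOf T := fun l => hjN l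
  have hj2 : ∀ l, incl j T hjT l ∈ Subgroup.normalizer
      (((incl j T hjT).range ⊔ S.subgroupOf T : Subgroup T) : Set T) := fun l => he ▸ hj1 l
  rw [IH _ hlt T L (incl j T hjT) (incl_injective hjT hj) (range_incl_normal hjT hn)
      (CfsgLib.PCore.isPSolvable_subgroup hG T) rfl (S.subgroupOf T)
      (hS.of_equiv (Subgroup.subgroupOfEquivOfLe (le_sup_right.trans hRT)).symm)
      (not_dvd_relIndex_of_le S hidx (le_sup_right.trans hRT)) ν
      (fun s hs => (cinv_incl hjT).2 (hν _ hs)) hj2,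
    cnt_eq_of_eq _ he _ hj1, cnt_subgroupOf j inf_le_right hjN hjT]

/-- Passing from a central subgroup to a larger normal subgroup. -/
theorem claim_central (hp : p.Prime) (IH : ∀ m < j.range.index, Claim.{u} p m)
    (hj : Function.Injective j) (hjc : ∀ l, j l ∈ Subgroup.center G) (hG : IsPSolvable p G)
    {S : Subgroup G} (hS : IsPGroup p S) (hidx : ¬ p ∣ S.index) (ν : IrrCharacter L)
    (hN : ∀ l, j l ∈ Subgroup.normalizer ((j.range ⊔ S : Subgroup G) : Set G)) :
    cnt p j ν = cnt p (incl j _ hN) ν := by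
  classical
  haveI : Fact p.Prime := ⟨hp⟩
  have hRc : j.range ≤ Subgroup.center G := by rintro _ ⟨l, rfl⟩; exact hjc l
  haveI hn : j.range.Normal := ⟨fun r hr g => by
    rwa [Subgroup.mem_center_iff.1 (hRc hr) g, mul_inv_cancel_right]⟩
  have hν : ∀ g : G, CInv j ν g := fun g l l' e => by
    rw [show l' = l from hj (by rw [e, Subgroup.mem_center_iff.1 (hjc l) g, mul_inv_cancel_right])]
  have hnc := normalizer_central_sup hp hS hidx hRc
  by_cases hR : j.range = ⊤
  · have hh : ∀ l, j l ∈ (⊤ : Subgroup G) := fun _ => Subgroup.mem_top _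
    exact ((cnt_eq_of_eq j (show Subgroup.normalizer ((j.range ⊔ S : Subgroup G) : Set G) = ⊤ by
      rw [hR, top_sup_eq, Subgroup.normalizer_eq_top]) hN hh ν).trans (cnt_top j hh ν)).symm
  obtain ⟨M, hMn, hRM, hfac⟩ := exists_factor_above hp hG j.range hR
  haveI := hMn
  haveI : Fintype M := Fintype.ofFinite _
  have hjM : ∀ l, j l ∈ M := fun l => hRM.le ⟨l, rfl⟩
  let jA : L →* M := j.codRestrict M hjM
  set H := Subgroup.normalizer ((M ⊔ S : Subgroup G) : Set G) with hH
  haveI : Fintype H := Fintype.ofFinite _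
  have hMH : M ≤ H := le_sup_left.trans Subgroup.le_normalizer
  have hSH : S ≤ H := le_sup_right.trans Subgroup.le_normalizer
  have hjH : ∀ l, j l ∈ H := fun l => hMH (hjM l)
  have hNS : Subgroup.normalizer (S : Set G) ≤ H := fun g hg =>
    Subgroup.normalizer_inf_normalizer_le_normalizer_sup M S
      ⟨by rw [Subgroup.normalizer_eq_top]; trivial, hg⟩
  have hrA : M.subtype.range.Normal := by rw [Subgroup.range_subtype]; infer_instance
  have hnM : H ≤ Subgroup.normalizer (M : Set G) := by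
    rw [Subgroup.normalizer_eq_top]; exact le_top
  have hrB : (Subgroup.inclusion hMH).range.Normal := by
    rw [Subgroup.inclusion_range]; exact hMn.subgroupOf H
  have hiA := M.subtype_injective
  have hiB := Subgroup.inclusion_injective hMH
  have hlt : M.subtype.range.index < j.range.index := by
    rw [Subgroup.range_subtype, ← Subgroup.relIndex_mul_index hRM.le]
    refine lt_mul_of_one_lt_left (Nat.pos_of_ne_zero Subgroup.index_ne_zero_of_finite) ?_
    have h1 : j.range.relIndex M ≠ 1 := fun h => hRM.not_ge (Subgroup.relIndex_eq_one.1 h)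
    have h2 : j.range.relIndex M ≠ 0 := (j.range.subgroupOf M).index_ne_zero_of_finite
    omega
  have hup : ∀ {a b : IrrCharacter M}, GConj (Subgroup.inclusion hMH) a b →
      GConj M.subtype a b := fun ⟨g, hg⟩ =>
    ⟨g, fun k k' e => hg k k' (Subtype.ext e)⟩
  have hover : ∀ {a b : IrrCharacter M}, GConj M.subtype a b → Over jA ν a → Over jA ν b := by
    rintro a b ⟨g, hg⟩ h
    rw [over_iff] at h ⊢
    convert h using 2
    funext l
    refine (hg (jA l) (jA l) ?_).symm
    show j l = g * j l * g⁻¹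
    rw [Subgroup.mem_center_iff.1 (hjc l) g, mul_inv_cancel_right]
  -- the count over the larger subgroup
  have hmid : ∀ ξ : IrrCharacter M, (∀ s ∈ S, CInv M.subtype ξ s) →
      cnt p M.subtype ξ = cnt p (Subgroup.inclusion hMH) ξ := by
    intro ξ hξ
    have he : Subgroup.normalizer ((M.subtype.range ⊔ S : Subgroup G) : Set G) = H := by
      rw [Subgroup.range_subtype]
    rw [IH _ hlt G M M.subtype hiA hrA hG rfl S hS hidx ξ hξ (fun m => he ▸ hMH m.2),
      cnt_eq_of_eq _ he _ (fun m => hMH m.2)]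
    rfl
  have step1 : cnt p j ν = cnt p (incl j H hjH) ν := by
    refine cnt_comp_eq (i' := Subgroup.inclusion hMH) (j := jA) (j' := jA) hiA hrA hiB hrB
      (fun η ξ => ∃ ξ₀, (∀ s ∈ S, CInv M.subtype ξ₀ s) ∧ GConj M.subtype η ξ₀ ∧
        GConj (Subgroup.inclusion hMH) ξ₀ ξ) ?_ ?_ ?_ ?_
    · intro η ho hc
      obtain ⟨ξ, hg, hξ⟩ := exists_inv_conj hp hiA hrA hS hidx hc
      refine ⟨ξ, ⟨ξ, hξ, hg, GConj.refl' hrB ξ hiB⟩, hover hg ho, ?_⟩
      rw [← hmid ξ hξ, ← cnt_gconj hiA hrA hg]
      exact hc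
    · intro η ho hc
      obtain ⟨ξ, hg, hξ⟩ := exists_inv_conj hp hiB hrB
        (hS.of_equiv (Subgroup.subgroupOfEquivOfLe hSH).symm)
        (not_dvd_relIndex_of_le S hidx hSH) hc
      have hξ' : ∀ s ∈ S, CInv M.subtype ξ s := fun s hs =>
        (cinv_inclusion hMH).1 (hξ ⟨s, hSH hs⟩ hs)
      refine ⟨ξ, ⟨ξ, hξ', GConj.refl' hrA ξ hiA, hg.symm' hrB⟩, hover (hup hg) ho, ?_⟩
      rw [hmid ξ hξ', ← cnt_gconj hiB hrB hg]
      exact hc
    · rintro η η' ξ ξ' ⟨a, ha, h1, h2⟩ ⟨b, hb, h1', h2'⟩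
      constructor
      · intro h
        obtain ⟨n, hn', hab⟩ := exists_normalizer_conj hp hiA hrA hS hidx ha hb
          (((h1.symm' hrA).trans' hrA h).trans' hrA h1')
        have h3 : GConj (Subgroup.inclusion hMH) a b :=
          ⟨⟨n, hNS hn'⟩, fun k k' e => hab k k' (congrArg Subtype.val e)⟩
        exact ((h2.symm' hrB).trans' hrB h3).trans' hrB h2'
      · intro h
        have h3 : GConj M.subtype a b :=
          hup ((h2.trans' hrB h).trans' hrB (h2'.symm' hrB))
        exact (h1.trans' hrA h3).trans' hrA (h1'.symm' hrA)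
    · rintro η ξ ⟨a, ha, h1, h2⟩
      rw [cnt_gconj hiA hrA h1, hmid a ha, cnt_gconj hiB hrB h2]
  rw [step1]
  have hRSH : j.range ⊔ S ≤ H := sup_le (hRM.le.trans hMH) hSH
  have hNH : Subgroup.normalizer ((j.range ⊔ S : Subgroup G) : Set G) ≤ H := hnc ▸ hNS
  by_cases hHt : H = ⊤
  · have hh : ∀ l, j l ∈ (⊤ : Subgroup G) := fun _ => Subgroup.mem_top _
    rw [(cnt_eq_of_eq j hHt hjH hh ν).trans (cnt_top j hh ν)]
    rcases hfac with ⟨m, hm⟩ | hfac
    · -- `p`-factor
      have h1 : (j.range ⊔ S).relIndex M = 1 := by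
        have hd1 : (j.range ⊔ S).relIndex M ∣ p ^ m :=
          hm ▸ Subgroup.relIndex_dvd_of_le_left M le_sup_left
        have hd2 : ¬ p ∣ (j.range ⊔ S).relIndex M := by
          rw [← relIndex_sup_of_normal]
          intro hd
          refine hidx (hd.trans ((Dvd.intro _ (Subgroup.relIndex_mul_index le_sup_left)).trans ?_))
          exact Subgroup.index_dvd_of_le le_sup_right
        obtain ⟨k, -, hk⟩ := (Nat.dvd_prime_pow hp).1 hd1
        rcases Nat.eq_zero_or_pos k with rfl | hk0
        · simpa using hk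
        · exact absurd (hk ▸ dvd_pow_self p hk0.ne') hd2
      have e : M ⊔ S = j.range ⊔ S :=
        le_antisymm (sup_le (Subgroup.relIndex_eq_one.1 h1) le_sup_right)
          (sup_le_sup_right hRM.le S)
      exact ((cnt_eq_of_eq j (show Subgroup.normalizer ((j.range ⊔ S : Subgroup G) : Set G) = ⊤ by
        rw [← e]; exact hHt) hN hh ν).trans (cnt_top j hh ν)).symm
    · -- factor of order prime to `p`
      obtain ⟨M₀, hM₀n, hM₀p, he⟩ := exists_pPrime_part hp (M := M) hS hidx hRc hRM.le hfac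
      have hdec : ∀ x ∈ M₀ ⊔ S, ∃ m ∈ M₀, ∃ s ∈ S, m * s = x := fun x hx => by
        rw [← SetLike.mem_coe, Subgroup.coe_mul_of_right_le_normalizer_left M₀ S
          (by haveI := hM₀n; rw [Subgroup.normalizer_eq_top]; exact le_top)] at hx
        exact hx
      have hcover : ∀ g : G, ∃ m ∈ M₀, ∃ n ∈ Subgroup.normalizer (S : Set G), m * n = g := by
        intro g
        have hle : S.map (MulAut.conj g).toMonoidHom ≤ M ⊔ S := by
          rintro _ ⟨s, hs, rfl⟩
          have hgH : g ∈ H := hHt ▸ Subgroup.mem_top g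
          exact (Subgroup.mem_normalizer_iff.1 hgH s).1 (Subgroup.mem_sup_right hs)
        obtain ⟨t, ht, htx⟩ := exists_conj_in hp hS hidx (hS.map _) le_sup_right hle
        have htg : t * g ∈ Subgroup.normalizer (S : Set G) := mem_normalizer_of_conj fun x hx => by
          have h1 := htx (g * x * g⁻¹) ⟨x, hx, rfl⟩
          rwa [show t * g * x * (t * g)⁻¹ = t * (g * x * g⁻¹) * t⁻¹ by group]
        obtain ⟨m, hm, s, hs, hms⟩ := hdec t⁻¹ (he ▸ Subgroup.inv_mem _ ht)
        refine ⟨m, hm, s * (t * g), Subgroup.mul_mem _ (Subgroup.le_normalizer hs) htg, ?_⟩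
        rw [← mul_assoc, hms, inv_mul_cancel_left]
      have hjS : ∀ l, j l ∈ Subgroup.normalizer (S : Set G) := fun l => hnc ▸ hN l
      rw [cnt_core ⟨hp, hS, hidx, hM₀n, hM₀p, hcover⟩ j hjc
        (fun l => he.symm ▸ Subgroup.mem_sup_left (hjM l)) ν hjS]
      exact cnt_eq_of_eq j hnc.symm hjS hN ν
  · rw [claim_sub hp IH hj hn hG hS hidx ν (fun s _ => hν s) hHt hRSH hjH
      (fun l => ⟨hN l, hjH l⟩)]
    exact cnt_eq_of_eq j (inf_eq_left.2 hNH) _ hN ν

theorem cnt_range (hj : Function.Injective j) [Fintype j.range] (ν : IrrCharacter L)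
    {H : Subgroup G} (hH : j.range ≤ H) :
    cnt p (incl j H fun l => hH ⟨l, rfl⟩) ν =
      cnt p (Subgroup.inclusion hH) (rangeIrr hj ν) := by
  refine Nat.card_congr (Equiv.subtypeEquivRight fun χ => and_congr_right fun _ => ?_)
  rw [over_iff, over_iff, ← classInner_comp_equiv (MonoidHom.ofInjective hj)
    (fun n : j.range => (χ : H → ℂ) (Subgroup.inclusion hH n))]
  refine Eq.to_iff ?_
  congr 2
  funext l
  exact (rangeIrr_apply hj ν l).symm

/-- An invariant character is moved to a central subgroup. -/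
theorem claim_invariant (hp : p.Prime) (IH : ∀ m < j.range.index, Claim.{u} p m)
    (hj : Function.Injective j) [hn : j.range.Normal] (hG : IsPSolvable p G) {S : Subgroup G}
    (hS : IsPGroup p S) (hidx : ¬ p ∣ S.index) (ν : IrrCharacter L) (hν : ∀ g, CInv j ν g)
    (hdeg : ¬ p ∣ charDegree (ν : L → ℂ))
    (hN : ∀ l, j l ∈ Subgroup.normalizer ((j.range ⊔ S : Subgroup G) : Set G)) :
    cnt p j ν = cnt p (incl j _ hN) ν := by
  classical
  haveI : Fact p.Prime := ⟨hp⟩
  haveI : Fintype j.range := Fintype.ofFinite _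
  set θ := rangeIrr hj ν with hθ
  have hθd : ¬ p ∣ charDegree (θ : j.range → ℂ) := by
    simpa [θ, charDegree, rangeIrr] using hdeg
  obtain ⟨Γ, _, hΓ, π, σ, j', hπ, hσ, hπj, hσj, hj'n, hker⟩ :=
    CfsgLib.InvariantTriple.exists_lift j.range θ (fun x n =>
      CfsgLib.Clifford.mem_inertia.1 ((mem_inertia_range hj hn ν x).2 (hν x)) n)
  haveI := hΓ
  haveI : Fintype Γ := Fintype.ofFinite Γ
  haveI := hj'n
  haveI : Fintype π.ker := Fintype.ofFinite _
  haveI : Fintype (Γ ⧸ j'.range) := Fintype.ofFinite _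
  obtain ⟨lam, hlam⟩ := exists_coverChar hσ hπj hσj hker
  set ι := coverIncl (π := π) (j := j') with hι
  set φ := coverProj hπj with hφ
  set q := QuotientGroup.mk' j.range with hq
  have hφs : Function.Surjective φ := coverProj_surjective hπ hπj
  have hιφ : ι.range = φ.ker := coverIncl_range hπj
  have hιmem : ∀ (H : Subgroup G) (z : π.ker), ι z ∈ coverSub hπj H := fun H z => by
    show φ (ι z) ∈ H.map q
    have h0 : ι z ∈ φ.ker := hιφ ▸ ⟨z, rfl⟩
    rw [MonoidHom.mem_ker.1 h0]
    exact Subgroup.one_mem _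
  set P := j.range ⊔ S with hP
  have hcomap : ∀ H : Subgroup G, j.range ≤ H → (H.map q).comap q = H := fun H hH =>
    Subgroup.comap_map_eq_self (by rwa [hq, QuotientGroup.ker_mk'])
  -- a Sylow subgroup of the cover
  set P' := coverSub hπj P with hP'
  obtain ⟨Q⟩ : Nonempty (Sylow p P') := inferInstance
  set S' := (Q : Subgroup P').map P'.subtype
  have hS'P : S' ≤ P' := Subgroup.map_subtype_le _
  have hS'rel : ¬ p ∣ S'.relIndex P' := by
    rw [Subgroup.relIndex, Subgroup.subgroupOf,
      Subgroup.comap_map_eq_self_of_injective P'.subtype_injective]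
    exact Q.not_dvd_index
  have hP'idx : P'.index = P.index := by
    rw [hP', coverSub, Subgroup.index_comap_of_surjective _ hφs,
      Subgroup.index_map_eq _ (QuotientGroup.mk'_surjective _)
        (by rw [QuotientGroup.ker_mk']; exact le_sup_left)]
  have hS'idx : ¬ p ∣ S'.index := by
    rw [← Subgroup.relIndex_mul_index hS'P, hP'idx]
    exact hp.not_dvd_mul hS'rel (fun h => hidx (h.trans (Subgroup.index_dvd_of_le le_sup_right)))
  have hker' : φ.ker ≤ P' := fun x hx => by
    show φ x ∈ P.map q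
    rw [MonoidHom.mem_ker.1 hx]; exact Subgroup.one_mem _
  have hsup : ι.range ⊔ S' = P' := by
    refine le_antisymm (sup_le (hιφ.trans_le hker') hS'P) (Subgroup.relIndex_eq_one.1 ?_)
    have hd1 : (ι.range ⊔ S').relIndex P' ∣ j.range.relIndex P := by
      refine (Subgroup.relIndex_dvd_of_le_left P' le_sup_left).trans (dvd_of_eq ?_)
      rw [hιφ, Subgroup.relIndex_ker, hP', coverSub,
        Subgroup.map_comap_eq_self_of_surjective hφs, ← Subgroup.relIndex_ker,
        QuotientGroup.ker_mk']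
    have hd2 : ¬ p ∣ (ι.range ⊔ S').relIndex P' := fun h =>
      hS'rel (h.trans (Subgroup.relIndex_dvd_of_le_left P' le_sup_right))
    obtain ⟨b, hb⟩ := IsPGroup.iff_card.1 hS
    have hd3 : j.range.relIndex P ∣ p ^ b := by
      rw [hP, Subgroup.relIndex_sup_left, ← hb]
      exact Subgroup.index_dvd_card _
    obtain ⟨k, -, hk⟩ := (Nat.dvd_prime_pow hp).1 (hd1.trans hd3)
    rcases Nat.eq_zero_or_pos k with rfl | hk0
    · simpa using hk
    · exact absurd (hk ▸ dvd_pow_self p hk0.ne') hd2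
  have hnorm : Subgroup.normalizer ((ι.range ⊔ S' : Subgroup (Γ ⧸ j'.range)) : Set (Γ ⧸ j'.range)) =
      coverSub hπj (Subgroup.normalizer (P : Set G)) := by
    rw [hsup, hP', coverSub, coverSub, ← Subgroup.comap_normalizer_eq_of_surjective _ hφs]
    congr 1
    conv_rhs => rw [← hcomap P le_sup_left,
      ← Subgroup.comap_normalizer_eq_of_surjective _ (QuotientGroup.mk'_surjective _)]
    rw [Subgroup.map_comap_eq_self_of_surjective (QuotientGroup.mk'_surjective _)]
  have hidx' : ι.range.index = j.range.index := by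
    rw [hιφ, Subgroup.index_ker, MonoidHom.range_eq_top.2 hφs, Subgroup.card_top,
      ← Subgroup.index_eq_card]
  have hιc : ∀ z, ι z ∈ Subgroup.center (Γ ⧸ j'.range) := coverIncl_center hker
  have hsolv : IsPSolvable p (Γ ⧸ j'.range) := by
    refine CfsgLib.PCore.isPSolvable_extension φ.ker ?_ (CfsgLib.PCore.isPSolvable_of_equiv
      (QuotientGroup.quotientKerEquivOfSurjective φ hφs).symm
      (CfsgLib.PCore.isPSolvable_quotient hG _))
    haveI : Group.IsSolvable φ.ker := Group.isSolvable_of_comm fun a b => Subtype.ext (by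
      obtain ⟨z, hz⟩ : (b : Γ ⧸ j'.range) ∈ ι.range := hιφ.symm ▸ b.2
      show (a : Γ ⧸ j'.range) * b = b * a
      rw [← hz]
      exact Subgroup.mem_center_iff.1 (hιc z) _)
    exact CfsgLib.PCore.isPSolvable_of_isSolvable
  have hR' : j.range ≤ Subgroup.normalizer (P : Set G) := le_sup_left.trans Subgroup.le_normalizer
  have htop : coverSub hπj (⊤ : Subgroup G) = ⊤ := by
    rw [coverSub, Subgroup.map_top_of_surjective _ (QuotientGroup.mk'_surjective _),
      Subgroup.comap_top]
  calc cnt p j ν = cnt p (incl j ⊤ fun l => (le_top : j.range ≤ ⊤) ⟨l, rfl⟩) ν := (cnt_top _ _ _).symm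
    _ = cnt p (Subgroup.inclusion (le_top : j.range ≤ ⊤)) θ := cnt_range hj ν le_top
    _ = cnt p (incl ι _ (hιmem ⊤)) (⟨_, isIrrCharacter_of_hom lam⟩ : IrrCharacter π.ker) :=
      cnt_cover hπ hσ hπj hσj hker hp hθd lam hlam ⊤ le_top (hιmem ⊤)
    _ = cnt p ι (⟨_, isIrrCharacter_of_hom lam⟩ : IrrCharacter π.ker) := by
      exact (cnt_eq_of_eq ι htop (hιmem ⊤) (fun _ => Subgroup.mem_top _) _).trans
        (cnt_top ι (fun _ => Subgroup.mem_top _) _)
    _ = cnt p (incl ι _ (fun z => hnorm.symm ▸ hιmem _ z))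
        (⟨_, isIrrCharacter_of_hom lam⟩ : IrrCharacter π.ker) :=
      claim_central hp (fun m hm => IH m (hidx' ▸ hm)) (coverIncl_injective hπj) hιc hsolv
        (Q.isPGroup'.map _) hS'idx _ _
    _ = cnt p (incl ι _ (hιmem (Subgroup.normalizer (P : Set G))))
        (⟨_, isIrrCharacter_of_hom lam⟩ : IrrCharacter π.ker) := cnt_eq_of_eq ι hnorm _ _ _
    _ = cnt p (Subgroup.inclusion hR') θ :=
      (cnt_cover hπ hσ hπj hσj hker hp hθd lam hlam _ hR' (hιmem _)).symm
    _ = cnt p (incl j _ hN) ν := (cnt_range hj ν hR').symm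

omit [Group G] [Group L] [Fintype G] [Fintype L] in
/-- **The induction.** -/
theorem claim_all (hp : p.Prime) : ∀ n, Claim.{u} p n := by
  intro n
  induction n using Nat.strong_induction_on with
  | _ n IH =>
  intro G L _ _ _ _ j hj hn hG hidxn S hS hidx ν hν hN
  classical
  haveI : Fact p.Prime := ⟨hp⟩
  subst hidxn
  haveI := hn
  set P := j.range ⊔ S
  set N := Subgroup.normalizer (P : Set G)
  haveI : Fintype N := Fintype.ofFinite _
  have hnN := range_incl_normal hN hn
  have hjiN := incl_injective hN hj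
  by_cases hd : p ∣ charDegree (ν : L → ℂ)
  · rw [cnt_eq_zero_of_dvd hj hn ν hd, cnt_eq_zero_of_dvd hjiN hnN ν hd]
  by_cases hall : ∀ g, CInv j ν g
  · exact claim_invariant hp IH hj hG hS hidx ν hall hd hN
  set T := stab hj hn ν
  have hjT : ∀ l, j l ∈ T := apply_mem_stab hj hn ν
  have hST : S ≤ T := fun s hs => (mem_stab hj hn ν).2 (hν s hs)
  have hT : T ≠ ⊤ := fun e => hall fun g => (mem_stab hj hn ν).1 (by rw [show stab hj hn ν = T from rfl, e]; trivial)
  have hPT : P ≤ T := sup_le (by rintro _ ⟨l, rfl⟩; exact hjT l) hST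
  have hTidx : ¬ p ∣ T.index := fun h => hidx (h.trans (Subgroup.index_dvd_of_le hST))
  have hjNT : ∀ l, j l ∈ N ⊓ T := fun l => ⟨hN l, hjT l⟩
  have hA : cnt p j ν = cnt p (incl j T hjT) ν :=
    cnt_stab hj hn ν T (fun g => mem_stab hj hn ν) hjT hp hTidx
  have hSN : S ≤ N := le_sup_right.trans Subgroup.le_normalizer
  have hB : cnt p (incl j N hN) ν = cnt p (incl j (N ⊓ T) hjNT) ν := by
    have hidx2 : ¬ p ∣ (T.subgroupOf N).index := fun h =>
      not_dvd_relIndex_of_le S hidx hSN
        (h.trans (Subgroup.relIndex_dvd_of_le_left N hST))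
    rw [cnt_stab hjiN hnN ν (T.subgroupOf N)
      (fun g => Subgroup.mem_subgroupOf.trans ((mem_stab hj hn ν).trans (cinv_incl hN).symm))
      (fun l => hjT l) hp hidx2,
      cnt_eq_of_eq _ (Subgroup.inf_subgroupOf_left T N).symm (fun l => hjT l)
        (fun l => show incl j N hN l ∈ (N ⊓ T).subgroupOf N from ⟨hN l, hjT l⟩),
      cnt_subgroupOf j inf_le_left hjNT hN]
  rw [hA, hB]
  exact claim_sub hp IH hj hn hG hS hidx ν hν hT hPT hjT hjNT

end CfsgLib.RelMcKay
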