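import Cfsg.Agent.Lib.RelMcKay.Data

/-!
# Values on central elements
-/

set_option autoImplicit false
set_option linter.unusedSectionVars false
set_option linter.style.haveILetI false

noncomputable section

namespace CfsgLib.RelMcKay

open Cfsg CfsgLib.Characters CfsgLib.CharCorr
open scoped ComplexConjugate

universe u

variable {G : Type u} [Group G] [Fintype G]

/-- A central element acts by a scalar. -/
theorem exists_central_scalar (η : IrrCharacter G) {z : G} (hz : z ∈ Subgroup.center G) :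
    ∃ c : ℂ, c ^ Nat.card G = 1 ∧
      (∀ (n : ℕ) (g : G), (η : G → ℂ) (z ^ n * g) = c ^ n * (η : G → ℂ) g) ∧
      detChar (η : G → ℂ) z = c ^ charDegree (η : G → ℂ) := by
  obtain ⟨d, ρ, hρ, hc⟩ := η.2
  haveI := hρ
  obtain ⟨c, hcz⟩ := CfsgLib.CharScalar.center_scalar ρ hz
  have hpow : ∀ n : ℕ, ρ (z ^ n) = c ^ n • (1 : Module.End ℂ (Fin d → ℂ)) := fun n => by
    rw [map_pow, hcz, smul_pow, one_pow]
  have hdeg : charDegree (η : G → ℂ) = d := by
    rw [charDegree, ← hc]; simp
  refine ⟨c, ?_, fun n g => ?_, ?_⟩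
  · have h1 := hpow (Nat.card G)
    rw [pow_card_eq_one', map_one] at h1
    have h2 := congrArg (LinearMap.trace ℂ _) h1
    rw [LinearMap.trace_one, CfsgLib.CharScalar.trace_smul_one] at h2
    have hd : (Module.finrank ℂ (Fin d → ℂ) : ℂ) ≠ 0 := by
      have := CfsgLib.CharScalar.finrank_pos ρ
      exact Nat.cast_ne_zero.2 this.ne'
    exact mul_right_cancel₀ hd (by rw [one_mul]; exact h2.symm)
  · rw [← hc]
    show LinearMap.trace ℂ _ (ρ (z ^ n * g)) = _ * LinearMap.trace ℂ _ (ρ g)
    rw [map_mul, hpow, smul_mul_assoc, one_mul, map_smul, smul_eq_mul]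
  · rw [hdeg, ← hc, CfsgLib.CharExtension.detChar_eq ρ]
    show LinearMap.det (ρ z) = _
    rw [hcz, LinearMap.det_smul, map_one, mul_one, Module.finrank_fin_fun]

/-- Central values of a constituent agree with those of the character. -/
theorem central_value_of_over {H : Type u} [Group H] [Fintype H] {j : H →* G} {θ : IrrCharacter G}
    {ψ : IrrCharacter H} (h : mult j θ ψ ≠ 0) {m : H} (hm : m ∈ Subgroup.center H)
    (hjm : j m ∈ Subgroup.center G) :
    (θ : G → ℂ) (j m) / (θ : G → ℂ) 1 = (ψ : H → ℂ) m / (ψ : H → ℂ) 1 := by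
  obtain ⟨a, ha1, ha, -⟩ := exists_central_scalar θ hjm
  obtain ⟨b, hb1, hb, -⟩ := exists_central_scalar ψ hm
  have ea : (θ : G → ℂ) (j m) / (θ : G → ℂ) 1 = a := by
    have := ha 1 1
    rw [pow_one, mul_one, pow_one] at this
    rw [this, mul_div_assoc, div_self (irr_one_ne_zero θ), mul_one]
  have eb : (ψ : H → ℂ) m / (ψ : H → ℂ) 1 = b := by
    have := hb 1 1
    rw [pow_one, mul_one, pow_one] at this
    rw [this, mul_div_assoc, div_self (irr_one_ne_zero ψ), mul_one]
  rw [ea, eb]
  have h2 : classInner ((θ : G → ℂ) ∘ j) (ψ : H → ℂ) =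
      a * conj b * classInner ((θ : G → ℂ) ∘ j) (ψ : H → ℂ) := by
    unfold classInner
    rw [mul_left_comm, Finset.mul_sum _ _ (a * conj b)]
    congr 1
    refine (Fintype.sum_equiv (Equiv.mulLeft m) _ _ fun x => ?_).symm
    have e1 := ha 1 (j x)
    have e2 := hb 1 x
    rw [pow_one, pow_one] at e1 e2
    simp only [Function.comp_apply, Equiv.coe_mulLeft, map_mul, e1, e2]
    ring
  have h3 : classInner ((θ : G → ℂ) ∘ j) (ψ : H → ℂ) ≠ 0 := by
    rw [mult_spec]; exact Nat.cast_ne_zero.2 h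
  have h4 : a * conj b = 1 := mul_right_cancel₀ h3 (by rw [one_mul]; exact h2.symm)
  have hn : ‖b‖ = 1 := Complex.norm_eq_one_of_pow_eq_one hb1 Nat.card_pos.ne'
  have h5 : b * conj b = 1 := by rw [Complex.mul_conj', hn]; simp
  have h6 : conj b ≠ 0 := fun h0 => by simp [h0] at h5
  exact mul_right_cancel₀ h6 (h4.trans h5.symm)

namespace Semi

variable {p : ℕ} {S M K : Subgroup G}

/-- The central values from the parameters. -/
theorem value_mul (h : Semi p S M K) [Fintype M] [Fintype K] {η : IrrCharacter K}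
    {θ : IrrCharacter M} {μ : S →* ℂˣ} (d : Data h.hM h.hS η θ μ) {m : M} {s : S}
    (hm : (m : G) ∈ Subgroup.center G) (hs : (s : G) ∈ Subgroup.center G) :
    (η : K → ℂ) (Subgroup.inclusion h.hM m * Subgroup.inclusion h.hS s) / (η : K → ℂ) 1 =
      (θ : M → ℂ) m / (θ : M → ℂ) 1 * (μ s : ℂ) := by
  have hcM : Subgroup.inclusion h.hM m ∈ Subgroup.center K := Subgroup.mem_center_iff.2 fun x =>
    Subtype.ext (Subgroup.mem_center_iff.1 hm x)
  have hcS : Subgroup.inclusion h.hS s ∈ Subgroup.center K := Subgroup.mem_center_iff.2 fun x =>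
    Subtype.ext (Subgroup.mem_center_iff.1 hs x)
  obtain ⟨c, -, hc, hdet⟩ := exists_central_scalar η hcS
  have hdeg : charDegree (η : K → ℂ) = charDegree (θ : M → ℂ) := by
    have := d.res 1
    rw [map_one, irr_one_eq_charDegree, irr_one_eq_charDegree] at this
    exact_mod_cast this
  have h1 : (θ : M → ℂ) 1 = (η : K → ℂ) 1 := by rw [← d.res 1, map_one]
  have hcs : c = (μ s : ℂ) := by
    obtain ⟨n, hn⟩ := h.pgroup s
    have e1 : c ^ p ^ n = 1 := by
      have := hc (p ^ n) 1
      rw [← map_pow, hn, map_one, one_mul] at this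
      exact mul_right_cancel₀ (irr_one_ne_zero η) (by rw [one_mul]; exact this.symm)
    have e2 : (μ s : ℂ) ^ p ^ n = 1 := by
      rw [← Units.val_pow_eq_pow_val, ← map_pow, hn, map_one, Units.val_one]
    have e3 : (c / μ s) ^ p ^ n = 1 := by rw [div_pow, e1, e2, div_one]
    have e4 : (c / μ s) ^ charDegree (θ : M → ℂ) = 1 := by
      rw [div_pow, ← d.det s, hdet, hdeg]
      exact div_self (pow_ne_zero _ fun h0 => by
        rw [h0, zero_pow (pow_ne_zero _ h.prime.ne_zero)] at e1
        exact zero_ne_one e1)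
    have e5 := pow_gcd_eq_one.2 ⟨e3, e4⟩
    rw [((h.prime.coprime_iff_not_dvd.2 (h.not_dvd_degree θ)).pow_left n).gcd_eq_one, pow_one,
      div_eq_one_iff_eq (Units.ne_zero _)] at e5
    exact e5
  have e6 : Subgroup.inclusion h.hM m * Subgroup.inclusion h.hS s =
      Subgroup.inclusion h.hS s * Subgroup.inclusion h.hM m :=
    (Subgroup.mem_center_iff.1 hcS _)
  have := hc 1 (Subgroup.inclusion h.hM m)
  rw [pow_one, pow_one] at this
  rw [e6, this, d.res, h1, hcs]
  ring

end Semi

end CfsgLib.RelMcKay
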