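import Cfsg.Agent.Lib.RelMcKay.GoodCount

/-!
# Moving extendibility between a normal subgroup and a subgroup of it
-/

set_option autoImplicit false
set_option linter.unusedSectionVars false
set_option linter.style.haveILetI false
set_option linter.unusedSimpArgs false

noncomputable section

namespace CfsgLib.RelMcKay

open Cfsg CfsgLib.Characters CfsgLib.CharCorr
open scoped ComplexConjugate

universe u

variable {G : Type u} [Group G] [Fintype G]

theorem inv_irr_of_ext {K H : Subgroup G} {η : IrrCharacter K} (hKH : K ≤ H)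
    (hn : H ≤ Subgroup.normalizer (K : Set G)) {φ : H → ℂ} (hφ : IsCharacter H φ)
    (hres : ∀ k : K, φ (Subgroup.inclusion hKH k) = (η : K → ℂ) k) : IsIrrCharacter H φ := by
  haveI := normal_subgroupOf_of_le hn
  haveI : Fintype (K.subgroupOf H) := Fintype.ofFinite _
  haveI : Fintype H := Fintype.ofFinite _
  refine CfsgLib.CharExtension.isIrrCharacter_of_restrict (K.subgroupOf H) hφ ?_
  rw [show (fun n : K.subgroupOf H => φ n) =
    fun n : K.subgroupOf H => (η : K → ℂ) ⟨n, n.2⟩ from funext fun n => hres ⟨n, n.2⟩]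
  exact isIrr_subgroupOf η hKH

theorem over_of_res {K H : Subgroup G} [Fintype K] {η : IrrCharacter K} (hKH : K ≤ H)
    {φ : IrrCharacter H}
    (hres : ∀ k : K, (φ : H → ℂ) (Subgroup.inclusion hKH k) = (η : K → ℂ) k) :
    Over (Subgroup.inclusion hKH) η φ := by
  rw [over_iff, funext hres, classInner_irr_self η.2]
  exact one_ne_zero

theorem Ext.mono {K H H' : Subgroup G} {η : IrrCharacter K} (h : Ext η H) (hH : H' ≤ H)
    (hKH : K ≤ H') (hn : H' ≤ Subgroup.normalizer (K : Set G)) : Ext η H' := by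
  obtain ⟨χ, hχ⟩ := h
  haveI : Fintype H' := Fintype.ofFinite _
  have hres : ∀ k : K, (χ : H → ℂ) (Subgroup.inclusion hH (Subgroup.inclusion hKH k)) =
      (η : K → ℂ) k := fun k => hχ k _
  exact ⟨⟨_, inv_irr_of_ext hKH hn (isCharacter_comp (irr_isCharacter χ) (Subgroup.inclusion hH))
    hres⟩, fun k hk => hres k⟩

theorem CInv.of_ext {K H : Subgroup G} {η : IrrCharacter K} (h : Ext η H) (hKH : K ≤ H) {g : G}
    (hg : g ∈ H) : CInv K.subtype η g := by
  obtain ⟨χ, hχ⟩ := h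
  haveI : Fintype H := Fintype.ofFinite _
  intro l l' e
  rw [← hχ l (hKH l.2), ← hχ l' (hKH l'.2)]
  exact (congrArg (χ : H → ℂ) (Subtype.ext (by simpa using e))).trans
    (irr_isClassFunction χ ⟨(l : G), hKH l.2⟩ ⟨g, hg⟩)

variable {K M : Subgroup G} {η : IrrCharacter K} {θ : IrrCharacter M} [Fintype K] [Fintype M]

/-- `η` on `K` and `θ = η|M` extend to `y, h` together. -/
theorem ext_transfer (hMK : M ≤ K)
    (hres : ∀ m : M, (η : K → ℂ) (Subgroup.inclusion hMK m) = (θ : M → ℂ) m) {y h : G}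
    (hyK : y ∈ Subgroup.normalizer (K : Set G)) (hhK : h ∈ Subgroup.normalizer (K : Set G))
    (hyM : y ∈ Subgroup.normalizer (M : Set G)) (hhM : h ∈ Subgroup.normalizer (M : Set G))
    (hcomm : h * y * h⁻¹ * y⁻¹ ∈ M) (hyη : CInv K.subtype η y) (hhη : CInv K.subtype η h) :
    Ext η (K ⊔ Subgroup.zpowers y ⊔ Subgroup.zpowers h) ↔
      Ext θ (M ⊔ Subgroup.zpowers y ⊔ Subgroup.zpowers h) := by
  classical
  set X := M ⊔ Subgroup.zpowers y ⊔ Subgroup.zpowers h with hX
  set X' := K ⊔ Subgroup.zpowers y ⊔ Subgroup.zpowers h with hX'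
  have hXn : X ≤ Subgroup.normalizer (M : Set G) :=
    sup_le (le_normalizer_sup_zpowers hyM) (Subgroup.zpowers_le.2 hhM)
  have hMX : M ≤ X := le_sup_left.trans le_sup_left
  have hXX : X ≤ X' := sup_le_sup_right (sup_le_sup_right hMK _) _
  constructor
  · rintro ⟨χ, hχ⟩
    haveI : Fintype X := Fintype.ofFinite _
    have hr : ∀ m : M, (χ : X' → ℂ) (Subgroup.inclusion hXX (Subgroup.inclusion hMX m)) =
        (θ : M → ℂ) m := fun m => by
      rw [← hres m]; exact hχ (Subgroup.inclusion hMK m) _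
    exact ⟨⟨_, inv_irr_of_ext hMX hXn
      (isCharacter_comp (irr_isCharacter χ) (Subgroup.inclusion hXX)) hr⟩, fun m _ => hr m⟩
  · rintro ⟨χ, hχ⟩
    set H := K ⊔ Subgroup.zpowers y with hH
    set H₀ := M ⊔ Subgroup.zpowers y with hH₀
    obtain ⟨ε, hε⟩ := ext_cyclic hyK (η := η) hH hyη
    refine ext_of_inv_coset hyK hH hhK (hMK hcomm) hhη hε (fun x x' hx hx' => ?_) rfl
    haveI : Fintype H := Fintype.ofFinite _
    haveI : Fintype H₀ := Fintype.ofFinite _
    haveI : Fintype X := Fintype.ofFinite _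
    have hKH : K ≤ H := le_sup_left
    have hMH : M ≤ H₀ := le_sup_left
    have hnH := le_normalizer_sup_zpowers hyK
    have hnH₀ := le_normalizer_sup_zpowers hyM
    have h00 : H₀ ≤ H := sup_le_sup_right hMK _
    have h0X : H₀ ≤ X := le_sup_left
    -- conjugation by `h` on `H`
    have hconj : ∀ a ∈ H, h * a * h⁻¹ ∈ H := by
      intro a ha
      rw [mem_sup_zpowers_iff hyK] at ha
      obtain ⟨k, hk, i, rfl⟩ := ha
      rw [show h * (k * y ^ i) * h⁻¹ = (h * k * h⁻¹) * ((h * y * h⁻¹ * y⁻¹) * y) ^ i by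
        rw [show (h * y * h⁻¹ * y⁻¹) * y = h * y * h⁻¹ by group, conj_zpow]; group]
      exact H.mul_mem (hKH ((Subgroup.mem_normalizer_iff.1 hhK k).1 hk))
        (H.zpow_mem (H.mul_mem (hKH (hMK hcomm))
          (Subgroup.mem_sup_right (Subgroup.mem_zpowers y))) i)
    let c : H →* H :=
      { toFun := fun a => ⟨h * a * h⁻¹, hconj a a.2⟩
        map_one' := Subtype.ext (by simp)
        map_mul' := fun a b => Subtype.ext (by simp [mul_assoc]) }
    have hcirr : IsIrrCharacter H (fun a => (ε : H → ℂ) (c a)) :=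
      inv_irr_of_ext hKH hnH (η := η) (isCharacter_comp (irr_isCharacter ε) c) fun k =>
        (hε ⟨h * k * h⁻¹, (Subgroup.mem_normalizer_iff.1 hhK k).1 k.2⟩ (hconj k (hKH k.2))).trans
          (hhη k _ rfl)
    have hεres : ∀ k : K, (ε : H → ℂ) (Subgroup.inclusion hKH k) = (η : K → ℂ) k :=
      fun k => hε k _
    let yH : H := ⟨y, Subgroup.mem_sup_right (Subgroup.mem_zpowers y)⟩
    obtain ⟨s, hs⟩ := exists_scalar_coset hKH hnH hεres (φ := ⟨_, hcirr⟩)
      (over_of_res hKH (fun k =>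
        (hε ⟨h * k * h⁻¹, (Subgroup.mem_normalizer_iff.1 hhK k).1 k.2⟩ (hconj k (hKH k.2))).trans
          (hhη k _ rfl))) yH
    -- compare with the extension of `θ` on `M y`
    have hεM : ∀ m : M, (ε : H → ℂ) (Subgroup.inclusion h00 (Subgroup.inclusion hMH m)) =
        (θ : M → ℂ) m := fun m => by
      rw [← hres m]; exact hε (Subgroup.inclusion hMK m) _
    let ε₀ : IrrCharacter H₀ := ⟨_, inv_irr_of_ext hMH hnH₀
      (isCharacter_comp (irr_isCharacter ε) (Subgroup.inclusion h00)) hεM⟩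
    let χ₀ : IrrCharacter H₀ := ⟨_, inv_irr_of_ext hMH hnH₀ (η := θ)
      (isCharacter_comp (irr_isCharacter χ) (Subgroup.inclusion h0X))
      (fun m => hχ m (h0X (hMH m.2)))⟩
    let y₀ : H₀ := ⟨y, Subgroup.mem_sup_right (Subgroup.mem_zpowers y)⟩
    obtain ⟨a, ha⟩ := exists_scalar_coset (η := θ) hMH hnH₀ (ε := χ₀)
      (fun m => hχ m (h0X (hMH m.2))) (φ := ε₀) (over_of_res hMH hεM) y₀
    obtain ⟨m, hm⟩ := exists_ne_zero_coset (η := θ) hMH hnH₀ (ε := ε₀) hεM y₀
    have hm' : (h * m * h⁻¹) * (h * y * h⁻¹ * y⁻¹) ∈ M :=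
      M.mul_mem ((Subgroup.mem_normalizer_iff.1 hhM m).1 m.2) hcomm
    have hs1 : s = 1 := by
      have h1 := hs (Subgroup.inclusion hMK m)
      have h2 := ha m
      have h3 := ha ⟨_, hm'⟩
      have h4 : (χ₀ : H₀ → ℂ) (Subgroup.inclusion hMH ⟨_, hm'⟩ * y₀) =
          (χ₀ : H₀ → ℂ) (Subgroup.inclusion hMH m * y₀) := by
        show (χ : X → ℂ) _ = (χ : X → ℂ) _
        refine Eq.trans (congrArg (χ : X → ℂ) (Subtype.ext ?_)) (irr_isClassFunction χ
          (Subgroup.inclusion h0X (Subgroup.inclusion hMH m * y₀))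
          ⟨h, Subgroup.mem_sup_right (Subgroup.mem_zpowers h)⟩)
        simp [y₀, mul_assoc]
      rw [h4, ← h2] at h3
      have h5 : (ε : H → ℂ) (c (Subgroup.inclusion hKH (Subgroup.inclusion hMK m) * yH)) =
          (ε₀ : H₀ → ℂ) (Subgroup.inclusion hMH ⟨_, hm'⟩ * y₀) := by
        refine congrArg (ε : H → ℂ) (Subtype.ext ?_)
        simp [c, yH, y₀, mul_assoc]
      have h6 : (ε : H → ℂ) (Subgroup.inclusion hKH (Subgroup.inclusion hMK m) * yH) =
          (ε₀ : H₀ → ℂ) (Subgroup.inclusion hMH m * y₀) := rfl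
      have h7 : (ε : H → ℂ) (c (Subgroup.inclusion hKH (Subgroup.inclusion hMK m) * yH)) =
          s * (ε : H → ℂ) (Subgroup.inclusion hKH (Subgroup.inclusion hMK m) * yH) := h1
      rw [h5, h3, h6] at h7
      exact mul_right_cancel₀ hm (by rw [one_mul]; exact h7.symm)
    have h8 := hs ⟨_, hx⟩
    rw [hs1, one_mul] at h8
    refine Eq.trans ?_ (h8.trans ?_)
    · exact congrArg (ε : H → ℂ) (Subtype.ext (by simp [c, yH, hx', mul_assoc]))
    · exact congrArg (ε : H → ℂ) (Subtype.ext (by simp [yH]))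

end CfsgLib.RelMcKay
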